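import Groth.Agent.GIT.K688.RosUnits
import Groth.Prelude.Def_GmPts

/-!
# Rosenlicht: invertible functions on connected groups are characters; conjugation invariance of characters
-/

set_option autoImplicit false

universe u

open CategoryTheory MonoidalCategory CartesianMonoidalCategory MonObj GrpObj AlgebraicGeometry Limits

namespace Groth.Agent.AlgGrp.K408.CharUnit

variable {K : Type u} [Field K] [IsAlgClosed K]

/-- A morphism from a smooth connected group to `𝔾ₘ` respecting the identity is a homomorphism. -/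
theorem isMonHom_of_one (G : Over (Spec (CommRingCat.of K))) [GrpObj G] [Smooth G.hom] [ConnectedSpace G.left]
    (u : G ⟶ Red.Gm (Spec (CommRingCat.of K))) (h : η[G] ≫ u = η[Red.Gm (Spec (CommRingCat.of K))]) : IsMonHom u := by
  have h1 : η[G].left.appTop ((GmPts.unitOfPt u : Γ(G.left, ⊤)ˣ) : Γ(G.left, ⊤)) = 1 := by
    have h2 := GmPts.unitOfPt_comp η[G] u
    rw [h, MonObj.one_eq_one, GmPts.unitOfPt_one] at h2
    exact (congrArg Units.val h2).symm
  refine ⟨h, ?_⟩
  have h3 := K688.RosUnits.mul_appTop G _ (GmPts.unitOfPt u).isUnit h1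
  have h4 : (μ[G] ≫ u) = (fst G G ≫ u) * (snd G G ≫ u) := by
    apply (GmPts.equiv (S := Spec (CommRingCat.of K)) (G ⊗ G)).injective
    rw [GmPts.equiv_apply, GmPts.equiv_apply, GmPts.unitOfPt_comp, GmPts.unitOfPt_mul, GmPts.unitOfPt_comp,
      GmPts.unitOfPt_comp]
    exact Units.ext h3
  rw [h4, Hom.mul_def, lift_fst_comp_snd_comp]

theorem connectedSpace_tensor (X Y : Over (Spec (CommRingCat.of K))) [GrpObj X] [GrpObj Y] [Smooth X.hom]
    [Smooth Y.hom] [ConnectedSpace X.left] [ConnectedSpace Y.left] : ConnectedSpace (X ⊗ Y).left := by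
  have h1 : IsIntegral X.left := Groth.Agent.Sga3B.CellDim.isIntegral_of_connected_grp X
  have h2 : IsIntegral Y.left := Groth.Agent.Sga3B.CellDim.isIntegral_of_connected_grp Y
  have h3 : IsIntegral (X ⊗ Y).left := K688.RosUnits.isIntegral_tensor X Y
  infer_instance

instance smooth_tensor (X Y : Over (Spec (CommRingCat.of K))) [Smooth X.hom] [Smooth Y.hom] :
    Smooth (X ⊗ Y).hom := by
  change Smooth (pullback.fst X.hom Y.hom ≫ X.hom)
  infer_instance

/-- Characters of a normal smooth connected subgroup of a smooth connected group are invariant under conjugation. -/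
theorem char_conj {H G : Over (Spec (CommRingCat.of K))} [GrpObj H] [GrpObj G] [Smooth H.hom] [Smooth G.hom]
    [ConnectedSpace H.left] [ConnectedSpace G.left] (h : H ⟶ G) [IsMonHom h] [Mono h] (hn : AlgGrp.IsNormalHom h)
    (χ : H ⟶ Red.Gm (Spec (CommRingCat.of K))) [IsMonHom χ] {T : Over (Spec (CommRingCat.of K))}
    (g : T ⟶ G) (x y : T ⟶ H) (hy : y ≫ h = g * (x ≫ h) * g⁻¹) : y ≫ χ = x ≫ χ := by
  obtain ⟨c, hc⟩ := hn (H ⊗ G) (snd H G) (fst H G)
  have hc' : ∀ {T : Over (Spec (CommRingCat.of K))} (g : T ⟶ G) (x : T ⟶ H),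
      (lift x g ≫ c) ≫ h = g * (x ≫ h) * g⁻¹ := by
    intro T g x
    rw [Category.assoc, ← hc]
    simp only [MonObj.comp_mul, GrpObj.comp_inv, ← Category.assoc, lift_fst, lift_snd]
  let u : H ⊗ G ⟶ Red.Gm (Spec (CommRingCat.of K)) := (c ≫ χ) * (fst H G ≫ χ)⁻¹
  have hu : ∀ {T : Over (Spec (CommRingCat.of K))} (g : T ⟶ G) (x : T ⟶ H),
      lift x g ≫ u = ((lift x g ≫ c) ≫ χ) * (x ≫ χ)⁻¹ := by
    intro T g x
    simp only [u, MonObj.comp_mul, GrpObj.comp_inv, ← Category.assoc, lift_fst]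
  have h1 : ∀ {T : Over (Spec (CommRingCat.of K))} (x : T ⟶ H), lift x (1 : T ⟶ G) ≫ u = 1 := by
    intro T x
    rw [hu]
    have : lift x (1 : T ⟶ G) ≫ c = x := by
      rw [← cancel_mono h, hc']
      group
    rw [this, mul_inv_cancel]
  have h2 : ∀ {T : Over (Spec (CommRingCat.of K))} (g : T ⟶ G), lift (1 : T ⟶ H) g ≫ u = 1 := by
    intro T g
    rw [hu]
    have : lift (1 : T ⟶ H) g ≫ c = 1 := by
      rw [← cancel_mono h, hc', MonObj.one_comp]
      group
    have h3 : (1 : T ⟶ H) ≫ χ = 1 := MonObj.one_comp χ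
    rw [this, h3, mul_inv_cancel]
  have hcs := connectedSpace_tensor H G
  have hm : IsMonHom u := by
    apply isMonHom_of_one
    have h3 : η[H ⊗ G] = lift (1 : 𝟙_ _ ⟶ H) (1 : 𝟙_ _ ⟶ G) := by
      apply CartesianMonoidalCategory.hom_ext
      · rw [lift_fst, MonObj.one_eq_one, MonObj.one_comp]
      · rw [lift_snd, MonObj.one_eq_one, MonObj.one_comp]
    rw [h3, h1, MonObj.one_eq_one]
  have h4 : lift x g = lift x (1 : T ⟶ G) * lift (1 : T ⟶ H) g := by
    apply CartesianMonoidalCategory.hom_ext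
    · rw [MonObj.mul_comp, lift_fst, lift_fst, lift_fst, _root_.mul_one]
    · rw [MonObj.mul_comp, lift_snd, lift_snd, lift_snd, _root_.one_mul]
  have h5 : lift x g ≫ u = 1 := by
    have h6 : (lift x (1 : T ⟶ G) * lift (1 : T ⟶ H) g) ≫ u =
        (lift x (1 : T ⟶ G) ≫ u) * (lift (1 : T ⟶ H) g ≫ u) := MonObj.mul_comp _ _ u
    rw [h4, h6, h1, h2]
    exact _root_.mul_one (1 : T ⟶ Red.Gm (Spec (CommRingCat.of K)))
  have h6 : lift x g ≫ c = y := by rw [← cancel_mono h, hc', hy]
  rw [hu, h6] at h5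
  exact mul_inv_eq_one.mp h5

end Groth.Agent.AlgGrp.K408.CharUnit
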