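import Groth.Agent.AlgGrp.K408.TorsDesc
import Groth.Agent.S1133
import Groth.Agent.S0082
import Groth.Agent.Desc.MorDescent
import Groth.Agent.FlatB.GeomRed
import Groth.Agent.Sga3C.GeomRedPerf

/-!
# Associated fibre bundles: the product action, properties of the quotient, the affine case
-/

set_option autoImplicit false
universe u
open CategoryTheory CategoryTheory.Limits MonoidalCategory CartesianMonoidalCategory MonObj GrpObj AlgebraicGeometry
open Groth.Agent.Books.BorelOrb

namespace K408.Assoc

section

variable {B : Scheme.{u}} {G X Z : Over B} [GrpObj G]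

/-- The diagonal action on a product. -/
noncomputable def prodAct (a : AlgGrp.Action G X) (b : AlgGrp.Action G Z) : AlgGrp.Action G (X ⊗ Z) where
  act := lift ((G ◁ fst X Z) ≫ a.act) ((G ◁ snd X Z) ≫ b.act)
  one_act := by
    apply CartesianMonoidalCategory.hom_ext
    · rw [Category.assoc, lift_fst, ← Category.assoc, ← whisker_exchange, Category.assoc, a.one_act]
      simp
    · rw [Category.assoc, lift_snd, ← Category.assoc, ← whisker_exchange, Category.assoc, b.one_act]
      simp
  mul_act := by
    apply CartesianMonoidalCategory.hom_ext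
    · simp only [Category.assoc, lift_fst]
      rw [← Category.assoc, ← whisker_exchange, Category.assoc, a.mul_act]
      simp only [← Category.assoc]
      congr 1
      simp only [Category.assoc]
      rw [← MonoidalCategory.whiskerLeft_comp, lift_fst]
      apply CartesianMonoidalCategory.hom_ext <;> simp [MonoidalCategory.whiskerLeft_comp]
    · simp only [Category.assoc, lift_snd]
      rw [← Category.assoc, ← whisker_exchange, Category.assoc, b.mul_act]
      simp only [← Category.assoc]
      congr 1
      simp only [Category.assoc]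
      rw [← MonoidalCategory.whiskerLeft_comp, lift_snd]
      apply CartesianMonoidalCategory.hom_ext <;> simp [MonoidalCategory.whiskerLeft_comp]

@[simp] lemma prodAct_act (a : AlgGrp.Action G X) (b : AlgGrp.Action G Z) :
    (prodAct a b).act = lift ((G ◁ fst X Z) ≫ a.act) ((G ◁ snd X Z) ≫ b.act) := rfl

lemma prodAct_fst (a : AlgGrp.Action G X) (b : AlgGrp.Action G Z) :
    (prodAct a b).act ≫ fst X Z = (G ◁ fst X Z) ≫ a.act := by simp

lemma prodAct_snd (a : AlgGrp.Action G X) (b : AlgGrp.Action G Z) :
    (prodAct a b).act ≫ snd X Z = (G ◁ snd X Z) ≫ b.act := by simp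

end

section field

variable {k : Type u} [Field k]

lemma isPullback_fst_left {S : Scheme.{u}} (X Z : Over S) :
    IsPullback (fst X Z).left (snd X Z).left X.hom Z.hom := by
  have h : IsPullback (fst X Z) (snd X Z) (toUnit X) (toUnit Z) := by
    refine ⟨⟨toUnit_unique _ _⟩, ⟨PullbackCone.IsLimit.mk _ (fun s => lift s.fst s.snd) (fun s => lift_fst _ _)
      (fun s => lift_snd _ _) ?_⟩⟩
    intro s m h1 h2
    apply CartesianMonoidalCategory.hom_ext
    · rw [lift_fst, h1]
    · rw [lift_snd, h2]
  have h2 := TorsDesc.isPullback_left h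
  have e : (toUnit X).left = X.hom := by
    simp
  have e' : (toUnit Z).left = Z.hom := by
    simp
  rw [e, e'] at h2
  exact h2

instance isReduced_prod [IsAlgClosed k] (X Z : Over (Spec (CommRingCat.of k))) [IsReduced X.left] [IsReduced Z.left]
    [LocallyOfFiniteType X.hom] : IsReduced (X ⊗ Z).left := by
  have h := isPullback_fst_left X Z
  have h1 : GeometricallyReduced Z.hom := Groth.Agent.Sga3C.GeomRedPerf.geometricallyReduced_of_isReduced Z.hom
  have h2 : IsLocallyNoetherian X.left := LocallyOfFiniteType.isLocallyNoetherian X.hom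
  have h3 : Flat Z.hom := inferInstance
  have h4 : IsReduced (pullback X.hom Z.hom) := inferInstance
  exact isReduced_of_isOpenImmersion h.isoPullback.hom

/-- Properties of the quotient of a principal bundle situation. -/
lemma props {S : Scheme.{u}} {X Y P W : Over S} {f : X ⟶ Y} {p : P ⟶ X} {φ : P ⟶ W} {ψ : W ⟶ Y}
    (h : IsPullback p.left φ.left f.left ψ.left)
    [Flat f.left] [Surjective f.left] [QuasiCompact f.left]
    [IsSeparated Y.hom] [LocallyOfFiniteType Y.hom] [QuasiCompact Y.hom]
    [IsReduced P.left] [IsSeparated p.left] [LocallyOfFiniteType p.left] [QuasiCompact p.left] :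
    IsReduced W.left ∧ IsSeparated W.hom ∧ LocallyOfFiniteType W.hom ∧ QuasiCompact W.hom := by
  have hf : (@Surjective ⊓ @Flat ⊓ @QuasiCompact : MorphismProperty Scheme.{u}) f.left :=
    ⟨⟨inferInstance, inferInstance⟩, inferInstance⟩
  have hw : ψ.left ≫ Y.hom = W.hom := Over.w ψ
  have h1 : Flat φ.left := MorphismProperty.of_isPullback h inferInstance
  have h2 : Surjective φ.left := MorphismProperty.of_isPullback h inferInstance
  have i1 := Groth.Agent.Desc.MorDescent.descendsAlong_isSeparated.{u}
  have i2 := Groth.Agent.Desc.MorDescent.descendsAlong_quasiCompact.{u}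
  have j1 : IsSeparated ψ.left := MorphismProperty.of_isPullback_of_descendsAlong h hf inferInstance
  have j2 : QuasiCompact ψ.left := MorphismProperty.of_isPullback_of_descendsAlong h hf inferInstance
  have j3 : LocallyOfFiniteType ψ.left := MorphismProperty.of_isPullback_of_descendsAlong h hf inferInstance
  refine ⟨Groth.Agent.FlatB.GeomRed.isReduced_of_flat_of_surjective φ.left, ?_, ?_, ?_⟩
  · rw [← hw]; infer_instance
  · rw [← hw]; infer_instance
  · rw [← hw]; infer_instance

lemma quasiCompact_left {S : Scheme.{u}} {X Y : Over S} (f : X ⟶ Y) [QuasiCompact X.hom] [QuasiSeparated Y.hom] :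
    QuasiCompact f.left := by
  have hw : f.left ≫ Y.hom = X.hom := Over.w f
  have : QuasiCompact (f.left ≫ Y.hom) := by rw [hw]; infer_instance
  exact QuasiCompact.of_comp f.left Y.hom

end field

section main

variable (k : Type u) [Field k] [IsAlgClosed k]
    (G X Y Z : Over (Spec (CommRingCat.of k))) [GrpObj G]
    [IsReduced X.left] [LocallyOfFiniteType X.hom] [QuasiCompact X.hom]
    [IsSeparated Y.hom] [LocallyOfFiniteType Y.hom] [QuasiCompact Y.hom]
    [IsReduced Z.left] [IsAffine Z.left] [LocallyOfFiniteType Z.hom]
    (a : AlgGrp.Action G X) (f : X ⟶ Y) [Flat f.left] [Surjective f.left]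
    (hsq : IsPullback a.act.left (snd G X).left f.left f.left) (b : AlgGrp.Action G Z)

include hsq in
theorem main :
    ∃ (W : Over (Spec (CommRingCat.of k))) (φ : X ⊗ Z ⟶ W) (ψ : W ⟶ Y),
      IsReduced W.left ∧ IsSeparated W.hom ∧ LocallyOfFiniteType W.hom ∧ QuasiCompact W.hom ∧
      lift ((G ◁ fst X Z) ≫ a.act) ((G ◁ snd X Z) ≫ b.act) ≫ φ = snd G (X ⊗ Z) ≫ φ ∧
      IsPullback (fst X Z).left φ.left f.left ψ.left := by
  have hqc : QuasiCompact f.left := quasiCompact_left f
  have haff : IsAffineHom Z.hom := by
    have : IsAffineHom (terminal.from (Spec (CommRingCat.of k))) := inferInstance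
    have h2 : IsAffineHom (Z.hom ≫ terminal.from (Spec (CommRingCat.of k))) := by
      have : Z.hom ≫ terminal.from _ = terminal.from Z.left := Subsingleton.elim _ _
      rw [this]; infer_instance
    infer_instance
  have h1 : IsAffineHom (fst X Z).left := MorphismProperty.of_isPullback (isPullback_fst_left X Z).flip inferInstance
  have h2 : LocallyOfFiniteType (fst X Z).left :=
    MorphismProperty.of_isPullback (isPullback_fst_left X Z).flip inferInstance
  have hD : IsAffineHom (TorsDesc.datum hsq (prodAct_fst a b)).obj.hom := h1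
  obtain ⟨W, φ, ψ, hinv, hpb⟩ := TorsDesc.exists_quotient hsq (prodAct_fst a b)
    (Groth.Agent.S1133.result f.left (TorsDesc.datum hsq (prodAct_fst a b)))
  obtain ⟨r1, r2, r3, r4⟩ := props hpb
  exact ⟨W, φ, ψ, r1, r2, r3, r4, hinv, hpb⟩

end main

end K408.Assoc
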