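import Groth.Agent.S3019
import Groth.Agent.Books.CoeffMat
import Groth.Agent.Books.AffBridge2

/-!
# Chevalley's theorem in matrix form; sharp maps of points of affine groups
-/

set_option autoImplicit false

universe u

open CategoryTheory CategoryTheory.Limits MonoidalCategory CartesianMonoidalCategory MonObj GrpObj AlgebraicGeometry
open scoped TensorProduct

namespace Groth.Agent.AlgGrp.K408.ChevMat

open Groth.Agent.Books.CoeffMat Groth.Agent.Books.AffBridge Groth.Agent.Books.AffBridge2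

theorem sum_tmul_inj {k V A : Type u} [Field k] [AddCommGroup V] [Module k V] [AddCommGroup A] [Module k A]
    {n : ℕ} (b : Module.Basis (Fin n) k V) {x y : Fin n → A}
    (h : ∑ i, b i ⊗ₜ[k] x i = ∑ i, b i ⊗ₜ[k] y i) : x = y := by
  funext j
  have h1 := congrArg (fun t => TensorProduct.lid k A ((b.coord j).rTensor A t)) h
  simp only [map_sum, LinearMap.rTensor_tmul, TensorProduct.lid_tmul, Module.Basis.coord_apply,
    Module.Basis.repr_self, Finsupp.single_apply, ite_smul, one_smul, zero_smul, Finset.sum_ite_eq',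
    Finset.mem_univ, if_true] at h1
  exact h1

theorem exists_matrix (k : Type u) [Field k] (A : Type u) [CommRing A] [HopfAlgebra k A] [Algebra.FiniteType k A]
    (I : Ideal A) [I.IsHopfIdeal k] :
    ∃ (n : ℕ) (m : Matrix (Fin n) (Fin n) A) (v : Fin n → k), IsMult k m ∧ (∃ j, v j ≠ 0) ∧
      ∀ (R : Type u) [CommRing R] [Algebra k R] (g : A →ₐ[k] R),
        (∀ a ∈ I, g a = 0) ↔ ∃ c : R, ∀ j, ∑ l, v l • g (m j l) = v j • c := by
  obtain ⟨V, _, _, _, _, v, hv, h⟩ := S3019.result k A I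
  let b := Module.finBasis k V
  refine ⟨_, coeffMat A b, fun l => b.repr v l, coeffMat_isMult A b, ?_, ?_⟩
  · by_contra hcon
    push Not at hcon
    apply hv
    rw [← b.sum_repr v]
    exact Finset.sum_eq_zero fun l _ => by rw [hcon l, zero_smul]
  · intro R _ _ g
    have h1 : LinearMap.lTensor V g.toLinearMap (HopfRep.Comod.coact (k := k) (A := A) v) =
        ∑ j, b j ⊗ₜ[k] (∑ l, b.repr v l • g (coeffMat A b j l)) := by
      conv_lhs => rw [← b.sum_repr v]
      simp only [map_sum, map_smul, coact_basis, LinearMap.lTensor_tmul, AlgHom.toLinearMap_apply, Finset.smul_sum,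
        TensorProduct.tmul_sum, TensorProduct.tmul_smul]
      exact Finset.sum_comm
    have h2 : ∀ c : R, v ⊗ₜ[k] c = ∑ j, b j ⊗ₜ[k] (b.repr v j • c) := by
      intro c
      conv_lhs => rw [← b.sum_repr v]
      rw [TensorProduct.sum_tmul]
      exact Finset.sum_congr rfl fun j _ => TensorProduct.smul_tmul _ _ _
    refine (h R g).trans (exists_congr fun c => ?_)
    rw [h1, h2]
    constructor
    · intro h3 j
      exact congrFun (sum_tmul_inj b h3) j
    · intro h3
      exact Finset.sum_congr rfl fun j _ => by rw [h3]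

section sharp

variable {k : Type u} [CommRing k] {T : Over (Spec (CommRingCat.of k))} {A : Type u} [CommRing A]

variable (T) in
/-- the structure map on functions -/
noncomputable def strHom : CommRingCat.of k ⟶ Γ(T.left, ⊤) := (Scheme.ΓSpecIso _).inv ≫ T.hom.appTop

/-- the map on functions of a morphism to a spectrum -/
noncomputable def sharp [Algebra k A] (g : T ⟶ SpecOver k A) : CommRingCat.of A ⟶ Γ(T.left, ⊤) :=
  (Scheme.ΓSpecIso (CommRingCat.of A)).inv ≫ g.left.appTop

theorem toSpecΓ_map {X : Scheme.{u}} {R : CommRingCat.{u}} (g : X ⟶ Spec R) :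
    X.toSpecΓ ≫ Spec.map ((Scheme.ΓSpecIso R).inv ≫ g.appTop) = g := by
  have h1 : (Spec R).toSpecΓ ≫ Spec.map (Scheme.ΓSpecIso R).inv = 𝟙 _ := by
    rw [← SpecMap_ΓSpecIso_hom, ← Spec.map_comp, Iso.inv_hom_id, Spec.map_id]
  rw [Spec.map_comp, ← Category.assoc, ← Scheme.toSpecΓ_naturality, Category.assoc, h1, Category.comp_id]

theorem appTop_toSpecΓ_map {X : Scheme.{u}} {R : CommRingCat.{u}} (φ : R ⟶ Γ(X, ⊤)) :
    (Scheme.ΓSpecIso R).inv ≫ (X.toSpecΓ ≫ Spec.map φ).appTop = φ := by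
  rw [Scheme.Hom.comp_appTop, ← Category.assoc, ← Scheme.ΓSpecIso_inv_naturality, Category.assoc,
    Scheme.toSpecΓ_appTop, Iso.inv_hom_id, Category.comp_id]

theorem sharp_alg [Algebra k A] (g : T ⟶ SpecOver k A) : CommRingCat.ofHom (algebraMap k A) ≫ sharp g = strHom T := by
  have h1 : g.left ≫ Spec.map (CommRingCat.ofHom (algebraMap k A)) = T.hom := Over.w g
  rw [sharp, strHom, ← h1, Scheme.Hom.comp_appTop, ← Category.assoc, ← Category.assoc,
    Scheme.ΓSpecIso_inv_naturality]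
  rfl

/-- the affine hull and points -/
theorem exists_hull (T : Over (Spec (CommRingCat.of k))) :
    ∃ (_ : Algebra k Γ(T.left, ⊤)) (t : T ⟶ SpecOver k Γ(T.left, ⊤)),
      CommRingCat.ofHom (algebraMap k Γ(T.left, ⊤)) = strHom T ∧
      (∀ (A : Type u) [CommRing A] [Algebra k A] (φ : A →ₐ[k] Γ(T.left, ⊤)),
        sharp (t ≫ specMap k φ) = CommRingCat.ofHom φ.toRingHom) ∧
      ∀ (A : Type u) [CommRing A] [Algebra k A] (g : T ⟶ SpecOver k A),
        ∃ φ : A →ₐ[k] Γ(T.left, ⊤), t ≫ specMap k φ = g ∧ CommRingCat.ofHom φ.toRingHom = sharp g := by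
  refine ⟨(strHom T).hom.toAlgebra, ?_⟩
  let _ : Algebra k Γ(T.left, ⊤) := (strHom T).hom.toAlgebra
  refine ⟨Over.homMk T.left.toSpecΓ (toSpecΓ_map T.hom), rfl, ?_, ?_⟩
  · intro A _ _ φ
    exact appTop_toSpecΓ_map (CommRingCat.ofHom φ.toRingHom)
  · intro A _ _ g
    refine ⟨⟨(sharp g).hom, fun r => congrArg (fun z => z.hom r) (sharp_alg g)⟩, ?_, rfl⟩
    apply Over.OverMorphism.ext
    exact toSpecΓ_map g.left

theorem sharp_mul [HopfAlgebra k A] (g h : T ⟶ SpecOver k A) (a : A) {n : ℕ} (x y : Fin n → A)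
    (ha : CoalgebraStruct.comul (R := k) a = ∑ l, x l ⊗ₜ[k] y l) :
    (sharp (g * h)).hom a = ∑ l, (sharp g).hom (x l) * (sharp h).hom (y l) := by
  obtain ⟨_, t, -, ht1, ht2⟩ := exists_hull T
  obtain ⟨φ, hφ, hφ'⟩ := ht2 A g
  obtain ⟨ψ, hψ, hψ'⟩ := ht2 A h
  have h1 : g * h = t ≫ specMap k (WithConv.toConv φ * WithConv.toConv ψ).ofConv := by
    rw [specMap_mul, MonObj.comp_mul, ← hφ, ← hψ]
  rw [h1, ht1, ← hφ', ← hψ']
  have h2 : (WithConv.toConv φ * WithConv.toConv ψ).ofConv =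
      ((Algebra.TensorProduct.lmul' k).comp (Algebra.TensorProduct.map φ ψ)).comp
        (Bialgebra.comulAlgHom k A) := rfl
  rw [h2]
  change (Algebra.TensorProduct.lmul' k) (Algebra.TensorProduct.map φ ψ (CoalgebraStruct.comul (R := k) a)) = _
  rw [ha, map_sum, map_sum]
  exact Finset.sum_congr rfl fun l _ => by simp

theorem sharp_one [HopfAlgebra k A] (a : A) :
    (sharp (1 : T ⟶ SpecOver k A)).hom a = (strHom T).hom (CoalgebraStruct.counit (R := k) a) := by
  obtain ⟨_, t, hstr, ht1, ht2⟩ := exists_hull T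
  have h1 : (1 : T ⟶ SpecOver k A) = t ≫ specMap k (1 : WithConv (A →ₐ[k] Γ(T.left, ⊤))).ofConv := by
    rw [specMap_one, MonObj.comp_one]
  rw [h1, ht1, ← hstr]
  rfl

end sharp

end Groth.Agent.AlgGrp.K408.ChevMat
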