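import Groth.Agent.Fdesc.GrpDimHom
import Groth.Agent.Books.BorelOrb
import Groth.Agent.S3401

/-!
# Dimension of orbits and stabilizers
-/

set_option autoImplicit false
universe u
open CategoryTheory MonoidalCategory CartesianMonoidalCategory MonObj GrpObj AlgebraicGeometry
open TopologicalSpace
open Groth.Agent.Books.BorelOrb

namespace K408.OrbDim

section Stab

variable {S : Scheme.{u}} {G X : Over S} [GrpObj G] (a : AlgGrp.Action G X) (x : 𝟙_ (Over S) ⟶ X)

/-- The stabilizer of a section, as an object over the base. -/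
noncomputable def stab : Over S :=
  Over.mk (Limits.pullback.fst (a.orbitMap x).left x.left ≫ G.hom)

/-- The inclusion of the stabilizer. -/
noncomputable def stabι : stab a x ⟶ G :=
  Over.homMk (Limits.pullback.fst (a.orbitMap x).left x.left)

lemma fst_hom : Limits.pullback.fst (a.orbitMap x).left x.left ≫ G.hom =
      Limits.pullback.snd (a.orbitMap x).left x.left := by
  rw [← Over.w (a.orbitMap x), Limits.pullback.condition_assoc]
  have := Over.w x
  erw [this]
  exact Category.comp_id _

lemma toUnit_left (T : Over S) : (toUnit T).left = T.hom := by simp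

lemma stabι_comp : stabι a x ≫ a.orbitMap x = toUnit _ ≫ x := by
  ext1
  rw [Over.comp_left, Over.comp_left, toUnit_left]
  change Limits.pullback.fst _ _ ≫ (a.orbitMap x).left =
    (Limits.pullback.fst (a.orbitMap x).left x.left ≫ G.hom) ≫ x.left
  rw [fst_hom]
  exact Limits.pullback.condition

instance : Mono (stabι a x) := by
  have : Mono (stabι a x).left := by
    have h1 : Mono x.left := by
      have h2 : x.left ≫ X.hom = 𝟙 _ := Over.w x
      have : Mono (x.left ≫ X.hom) := by rw [h2]; infer_instance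
      exact mono_of_mono _ X.hom
    exact inferInstanceAs (Mono (Limits.pullback.fst (a.orbitMap x).left x.left))
  exact Over.mono_of_mono_left (stabι a x)

lemma exists_lift {T : Over S} (g : T ⟶ G) (hg : sm a g (toUnit T ≫ x) = toUnit T ≫ x) :
    ∃ h : T ⟶ stab a x, h ≫ stabι a x = g := by
  have h1 : g.left ≫ (a.orbitMap x).left = T.hom ≫ x.left := by
    rw [← Over.comp_left, comp_orbitMap, hg, Over.comp_left, toUnit_left]
  refine ⟨Over.homMk (Limits.pullback.lift g.left T.hom h1) ?_, ?_⟩
  · change Limits.pullback.lift _ _ _ ≫ Limits.pullback.fst _ _ ≫ G.hom = _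
    rw [Limits.pullback.lift_fst_assoc, Over.w]
  · ext1
    exact Limits.pullback.lift_fst _ _ _

lemma comp_stabι_sm {T : Over S} (h : T ⟶ stab a x) :
    sm a (h ≫ stabι a x) (toUnit T ≫ x) = toUnit T ≫ x := by
  rw [← comp_orbitMap, Category.assoc, stabι_comp, ← Category.assoc]
  congr 1
  exact toUnit_unique _ _

/-- Factorization of a morphism through the stabilizer. -/
noncomputable def stabLift {T : Over S} (g : T ⟶ G) (hg : sm a g (toUnit T ≫ x) = toUnit T ≫ x) : T ⟶ stab a x :=
  (exists_lift a x g hg).choose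

@[reassoc (attr := simp)]
lemma stabLift_comp {T : Over S} (g : T ⟶ G) (hg : sm a g (toUnit T ≫ x) = toUnit T ≫ x) :
    stabLift a x g hg ≫ stabι a x = g :=
  (exists_lift a x g hg).choose_spec

lemma stab_mul_aux : sm a ((stabι a x ⊗ₘ stabι a x) ≫ μ[G]) (toUnit _ ≫ x) = toUnit _ ≫ x := by
  have : (stabι a x ⊗ₘ stabι a x) ≫ μ[G] = (fst _ _ ≫ stabι a x) * (snd _ _ ≫ stabι a x) := by
    simp [Hom.mul_def]
  rw [this, mul_sm, comp_stabι_sm, comp_stabι_sm]

lemma stab_inv_aux : sm a (stabι a x ≫ ι[G]) (toUnit _ ≫ x) = toUnit _ ≫ x := by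
  have h1 : stabι a x ≫ ι[G] = (stabι a x)⁻¹ := by rw [Hom.inv_def]
  have h2 : sm a (stabι a x) (toUnit _ ≫ x) = toUnit _ ≫ x := by
    have := comp_stabι_sm a x (𝟙 _)
    rwa [Category.id_comp] at this
  rw [h1]
  conv_lhs => rw [← h2]
  rw [← mul_sm, inv_mul_cancel, one_sm]

/-- The stabilizer is a group scheme. -/
@[implicit_reducible]
noncomputable def stabGrp : GrpObj (stab a x) :=
  Groth.Agent.Sga3C.SubGrp.grpObjOfMono (stabι a x)
    (stabLift a x ((stabι a x ⊗ₘ stabι a x) ≫ μ[G]) (stab_mul_aux a x)) (stabLift_comp _ _ _ _)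
    (stabLift a x η[G] (by
      rw [one_eq_one, one_sm])) (stabLift_comp _ _ _ _)
    (stabLift a x (stabι a x ≫ ι[G]) (stab_inv_aux a x)) (stabLift_comp _ _ _ _)

/-- The second projection of `G ×_X G` seen on `G × stab`. -/
noncomputable def actR : G ⊗ stab a x ⟶ G := fst _ _ * (snd _ _ ≫ stabι a x)

theorem isPullback_actR : IsPullback (fst G (stab a x)) (actR a x) (a.orbitMap x) (a.orbitMap x) := by
  have hs : ∀ s : Limits.PullbackCone (a.orbitMap x) (a.orbitMap x),
      sm a (s.fst⁻¹ * s.snd) (toUnit _ ≫ x) = toUnit _ ≫ x := fun s => by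
    have := s.condition
    rw [comp_orbitMap, comp_orbitMap] at this
    rw [mul_sm, ← this, ← mul_sm, inv_mul_cancel, one_sm]
  refine ⟨⟨?_⟩, ⟨Limits.PullbackCone.IsLimit.mk _
    (fun s => lift s.fst (stabLift a x (s.fst⁻¹ * s.snd) (hs s))) ?_ ?_ ?_⟩⟩
  · rw [comp_orbitMap, comp_orbitMap, actR, mul_sm, comp_stabι_sm]
  · intro s
    simp
  · intro s
    rw [actR, comp_mul, lift_fst, lift_snd_assoc, stabLift_comp, mul_inv_cancel_left]
  · intro s m h1 h2
    apply CartesianMonoidalCategory.hom_ext
    · rw [lift_fst, h1]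
    · rw [lift_snd, ← cancel_mono (stabι a x), stabLift_comp, ← h1, ← h2, actR, comp_mul,
        inv_mul_cancel_left, Category.assoc]

end Stab

section Orb

open Groth.Agent.Fdesc.GrpDimHom Groth.Agent.CycB.RelDim

variable {K : Type u} [Field K] {G X : Over (Spec (CommRingCat.of K))} [GrpObj G]
  [LocallyOfFiniteType G.hom] [LocallyOfFiniteType X.hom] (a : AlgGrp.Action G X)
  (x : 𝟙_ (Over (Spec (CommRingCat.of K))) ⟶ X)

omit [LocallyOfFiniteType G.hom] [LocallyOfFiniteType X.hom] in
lemma lft_of [LocallyOfFiniteType G.hom] : LocallyOfFiniteType (a.orbitMap x).left := by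
  have : LocallyOfFiniteType ((a.orbitMap x).left ≫ X.hom) := by rw [Over.w]; infer_instance
  exact locallyOfFiniteType_of_comp _ X.hom

omit [LocallyOfFiniteType X.hom] in
/-- For `ξ` a generic point of `G`, the transcendence degree of `κ(ξ)` over `κ(u ξ)` is
the dimension of the stabilizer. -/
theorem rtd_orb_eq : ∃ n : ℕ, topologicalKrullDim (stab a x).left = n ∧
    ∀ ξ : G.left, IsGen ξ → rtd (a.orbitMap x).left ξ = n := by
  have hlu : LocallyOfFiniteType (a.orbitMap x).left := lft_of a x
  have hlk : LocallyOfFiniteType (stab a x).hom := by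
    change LocallyOfFiniteType (Limits.pullback.fst (a.orbitMap x).left x.left ≫ G.hom)
    rw [fst_hom]
    have h2 : LocallyOfFiniteType (𝟙_ (Over (Spec (CommRingCat.of K)))).hom := by
      change LocallyOfFiniteType (𝟙 _); infer_instance
    infer_instance
  let _ : GrpObj (stab a x) := stabGrp a x
  obtain ⟨n, hn, hn'⟩ := rtd_eq (stab a x)
  refine ⟨n, hn, fun ξ hξ => ?_⟩
  -- the point of `G ×_X G`
  obtain ⟨u, hu⟩ : ∃ u, u = a.orbitMap x := ⟨_, rfl⟩
  rw [← hu] at hlu ⊢
  let δ : G.left ⟶ Limits.pullback u.left u.left := Limits.pullback.lift (𝟙 _) (𝟙 _) rfl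
  let t₀ : (Limits.pullback u.left u.left : Scheme) := δ ξ
  have ht₀2 : Limits.pullback.snd u.left u.left t₀ = ξ := by
    have h1 : δ ≫ Limits.pullback.snd u.left u.left = 𝟙 _ := Limits.pullback.lift_snd _ _ _
    have h2 : Limits.pullback.snd u.left u.left (δ ξ) =
      (δ ≫ Limits.pullback.snd u.left u.left) ξ := (Scheme.Hom.comp_apply _ _ _).symm
    rw [h1] at h2
    exact h2
  obtain ⟨t, ht, ht1, htg⟩ := exists_fibGeneric_specializes (Limits.pullback.fst u.left u.left) t₀
  have ht2 : Limits.pullback.snd u.left u.left t = ξ := by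
    apply hξ
    rw [← ht₀2]
    exact ht.map (Limits.pullback.snd u.left u.left).continuous
  have e1 : rtd (Limits.pullback.fst u.left u.left) t = rtd u.left ξ := by
    rw [rtd_fst_of_fibGeneric_fst htg, ht2]
  -- transport to `G × stab`
  have hpb : IsPullback (fst G (stab a x)).left (actR a x).left u.left u.left := by
    rw [hu]
    exact (isPullback_actR a x).map (Over.forget _)
  let e : (Limits.pullback u.left u.left : Scheme) ≅ (G ⊗ stab a x).left :=
    (hpb.isoPullback).symm
  have he : e.hom ≫ (fst G (stab a x)).left = Limits.pullback.fst u.left u.left :=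
    hpb.isoPullback_inv_fst
  let s : (Limits.pullback G.hom (stab a x).hom : Scheme) := e.hom t
  have hsg : FibGeneric (Limits.pullback.fst G.hom (stab a x).hom) s := by
    have h1 : FibGeneric (Limits.pullback.fst u.left u.left) (e.inv s) := by
      have : e.inv s = t := by
        change e.inv (e.hom t) = t
        rw [← Scheme.Hom.comp_apply, e.hom_inv_id]; rfl
      rw [this]; exact htg
    have h2 := fibGeneric_isIso e.inv _ s h1
    have h3 : e.inv ≫ Limits.pullback.fst u.left u.left =
        Limits.pullback.fst G.hom (stab a x).hom := by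
      rw [← he, e.inv_hom_id_assoc]; rfl
    rwa [h3] at h2
  have e2 : rtd (Limits.pullback.fst G.hom (stab a x).hom) s =
      rtd (Limits.pullback.fst u.left u.left) t := by
    have := rtd_isIso e.hom (fst G (stab a x)).left t
    rw [he] at this
    exact this.symm
  have e3 := rtd_fst_of_fibGeneric_fst hsg
  rw [← e1, ← e2, e3]
  exact hn' _ ((isGen_iff_fibGeneric _ _).mpr hsg.snd)

lemma exists_gen (G : Over (Spec (CommRingCat.of K))) [LocallyOfFiniteType G.hom] (g : G.left) :
    ∃ ξ : G.left, IsGen ξ ∧ ξ ⤳ g := by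
  obtain ⟨ξ, h1, -, h2⟩ := exists_fibGeneric_specializes G.hom g
  exact ⟨ξ, (isGen_iff_fibGeneric G.hom ξ).mpr h2, h1⟩

lemma finite_gen (G : Over (Spec (CommRingCat.of K))) [LocallyOfFiniteType G.hom] [QuasiCompact G.hom] :
    {ξ : G.left | IsGen ξ}.Finite := by
  have h1 : IsLocallyNoetherian G.left := LocallyOfFiniteType.isLocallyNoetherian G.hom
  have h2 : CompactSpace G.left := QuasiCompact.compactSpace_of_compactSpace G.hom
  have h3 : IsNoetherian G.left := {}
  have h4 : (irreducibleComponents G.left).Finite :=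
    TopologicalSpace.NoetherianSpace.finite_irreducibleComponents
  refine (genericPoints.finite h4).subset ?_
  intro ξ hξ
  obtain ⟨Z, hZ, hsub⟩ := exists_mem_irreducibleComponents_subset_of_isIrreducible (closure {ξ})
    isIrreducible_singleton.closure
  have hZc : IsClosed Z := isClosed_of_mem_irreducibleComponents Z hZ
  obtain ⟨γ, hγ⟩ := QuasiSober.sober hZ.1 hZc
  have h5 : γ ⤳ ξ := hγ.specializes (hsub (subset_closure rfl))
  have h6 : γ = ξ := hξ γ h5
  subst h6
  change closure {γ} ∈ irreducibleComponents G.left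
  rw [show closure {γ} = Z from hγ]
  exact hZ

/-- The dimension of the closure of a point. -/
lemma exists_r (X : Over (Spec (CommRingCat.of K))) [LocallyOfFiniteType X.hom] :
    ∃ r : X.left → ℕ, (∀ y, rtd X.hom y = r y) ∧
      (∀ y, topologicalKrullDim (closure {y} : Set X.left) = r y) := by
  have := fun y => exists_dim_closure X.hom (isAffineOpen_top _) isField_top y
  choose r hr1 hr2 using this
  exact ⟨r, hr1, hr2⟩

lemma r_lt {X : Over (Spec (CommRingCat.of K))} [LocallyOfFiniteType X.hom] {r : X.left → ℕ}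
    (hr : ∀ y, rtd X.hom y = r y) {y z : X.left} (h : y ⤳ z) (hne : y ≠ z) : r z < r y := by
  have hs : ∀ a b : Spec (CommRingCat.of K), a = b := fun a b =>
    Subsingleton.elim (α := PrimeSpectrum K) a b
  have h2 := rtd_lt_of_specializes X.hom h hne (hs _ _)
  rw [hr, hr] at h2
  exact_mod_cast h2

lemma r_le {X : Over (Spec (CommRingCat.of K))} [LocallyOfFiniteType X.hom] {r : X.left → ℕ}
    (hr : ∀ y, rtd X.hom y = r y) {y z : X.left} (h : y ⤳ z) : r z ≤ r y := by
  by_cases hne : y = z
  · rw [hne]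
  · exact (r_lt hr h hne).le

/-- Upper bound for the dimension of a subset. -/
lemma dim_le {X : Over (Spec (CommRingCat.of K))} [LocallyOfFiniteType X.hom] {r : X.left → ℕ}
    (hr : ∀ y, topologicalKrullDim (closure {y} : Set X.left) = r y) (D : Set X.left) (n : ℕ)
    (h : ∀ y ∈ closure D, r y ≤ n) : topologicalKrullDim D ≤ n := by
  have h1 : topologicalKrullDim D ≤ topologicalKrullDim (closure D) :=
    Groth.Agent.VarietyB.DimTop.topologicalKrullDim_le_of_isEmbedding (f := (id : X.left → X.left))
      Topology.IsInducing.id _ _ fun y hy => subset_closure hy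
  refine h1.trans ?_
  have hqs : QuasiSober (closure D) := isClosed_closure.isClosedEmbedding_subtypeVal.quasiSober
  rw [Groth.Agent.VarietyB.DimTop.topologicalKrullDim_eq_iSup_irreducibleComponents]
  refine iSup_le fun T => ?_
  have hTc : IsClosed T.1 := isClosed_of_mem_irreducibleComponents T.1 T.2
  obtain ⟨⟨t, ht'⟩, ht⟩ := QuasiSober.sober T.2.1 hTc
  have h2 : topologicalKrullDim T.1 ≤ topologicalKrullDim (closure {t} : Set X.left) := by
    refine Groth.Agent.VarietyB.DimTop.topologicalKrullDim_le_of_isEmbedding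
      (f := (Subtype.val : ↥(closure D) → X.left)) Topology.IsInducing.subtypeVal _ _ ?_
    intro y hy
    have h1 : (⟨t, ht'⟩ : ↥(closure D)) ⤳ y := ht.specializes hy
    have h2 : t ⤳ y.1 := (subtype_specializes_iff _ _).mp h1
    exact specializes_iff_mem_closure.mp h2
  rw [hr] at h2
  exact h2.trans (by exact_mod_cast h t ht')

/-- Lower bound for the dimension of a subset. -/
lemma le_dim {X : Over (Spec (CommRingCat.of K))} [LocallyOfFiniteType X.hom] {r : X.left → ℕ}
    (hr : ∀ y, rtd X.hom y = r y) (C : Set X.left) (y : X.left) (V : X.left.Opens) (hy : y ∈ V)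
    (h : ∀ z ∈ V, y ⤳ z → z ∈ C) : (r y : WithBot ℕ∞) ≤ topologicalKrullDim C := by
  obtain ⟨n, hn1, hn2⟩ := exists_dim_closure (V.ι ≫ X.hom) (isAffineOpen_top _) isField_top (⟨y, hy⟩ : V)
  have h1 : n = r y := by
    have h2 := rtd_comp V.ι X.hom (⟨y, hy⟩ : V)
    rw [hn1, rtd_eq_zero_of_isPreimmersion V.ι, add_zero] at h2
    have h3 : (V.ι (⟨y, hy⟩ : V) : X.left) = y := rfl
    rw [h3, hr] at h2
    exact_mod_cast h2
  rw [← h1, ← hn2]
  refine Groth.Agent.VarietyB.DimTop.topologicalKrullDim_le_of_isEmbedding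
      (f := (V.ι : V.toScheme → X.left)) V.ι.isEmbedding.isInducing _ _ ?_
  intro z hz
  have h4 : (⟨y, hy⟩ : V.toScheme) ⤳ z := specializes_iff_mem_closure.mpr hz
  have h5 : y ⤳ V.ι z := h4.map V.ι.continuous
  exact h _ z.2 h5

/-- The core of the dimension formula. -/
theorem core [QuasiCompact G.hom] [QuasiCompact X.hom] :
    ∃ (e n d : ℕ), e + n = d ∧ topologicalKrullDim G.left = d ∧ topologicalKrullDim (stab a x).left = n ∧
      topologicalKrullDim (Set.range (a.orbitMap x).left) = e ∧
      topologicalKrullDim ↥(closure (Set.range (a.orbitMap x).left) \ Set.range (a.orbitMap x).left) < e := by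
  obtain ⟨d, hd, hd'⟩ := rtd_eq G
  obtain ⟨n, hn, hn'⟩ := rtd_orb_eq a x
  obtain ⟨u, hu⟩ : ∃ u, u = a.orbitMap x := ⟨_, rfl⟩
  have hlu : LocallyOfFiniteType u.left := by rw [hu]; exact lft_of a x
  rw [← hu] at hn' ⊢
  obtain ⟨r, hr1, hr2⟩ := exists_r X
  have hlX : IsLocallyNoetherian X.left := LocallyOfFiniteType.isLocallyNoetherian X.hom
  -- the transcendence degree of the image of a generic point
  have key : ∀ ξ : G.left, IsGen ξ → r (u.left ξ) + n = d := by
    intro ξ hξ
    have h1 := rtd_comp u.left X.hom ξ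
    rw [Over.w, hd' ξ hξ, hr1, hn' ξ hξ] at h1
    exact_mod_cast h1.symm
  obtain ⟨ξ₀, hξ₀, -⟩ := exists_gen G (η[G].left (IsLocalRing.closedPoint K))
  obtain ⟨e, he⟩ : ∃ e, e = r (u.left ξ₀) := ⟨_, rfl⟩
  have hed : e + n = d := by rw [he]; exact key _ hξ₀
  have hall : ∀ ξ : G.left, IsGen ξ → r (u.left ξ) = e := by
    intro ξ hξ
    have := key ξ hξ
    omega
  -- the closure of the image
  have hfin := finite_gen G
  have hcl : ∀ y ∈ closure (Set.range u.left), ∃ ξ : G.left, IsGen ξ ∧ u.left ξ ⤳ y := by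
    have hsub : closure (Set.range u.left) ⊆ ⋃ ξ ∈ {ξ : G.left | IsGen ξ}, closure {u.left ξ} := by
      refine closure_minimal ?_ (hfin.isClosed_biUnion fun _ _ => isClosed_closure)
      rintro _ ⟨g, rfl⟩
      obtain ⟨ξ, hξ, hξg⟩ := exists_gen G g
      simp only [Set.mem_iUnion]
      exact ⟨ξ, hξ, specializes_iff_mem_closure.mp (hξg.map u.left.continuous)⟩
    intro y hy
    have := hsub hy
    simp only [Set.mem_iUnion] at this
    obtain ⟨ξ, hξ, h⟩ := this
    exact ⟨ξ, hξ, specializes_iff_mem_closure.mpr h⟩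
  -- constructibility
  have hqu : QuasiCompact u.left := by
    have : QuasiCompact (u.left ≫ X.hom) := by rw [Over.w]; infer_instance
    have : QuasiSeparated X.hom := inferInstance
    exact QuasiCompact.of_comp u.left X.hom
  have hlfp : LocallyOfFinitePresentation u.left := inferInstance
  have hcon : Topology.IsLocallyConstructible (Set.range u.left) := by
    rw [← Set.image_univ]
    exact u.left.isLocallyConstructible_image Topology.IsLocallyConstructible.univ
  have hnhd : ∀ y ∈ Set.range u.left, ∃ V : Set X.left, IsOpen V ∧ y ∈ V ∧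
      ∀ z ∈ V, y ⤳ z → z ∈ Set.range u.left := by
    intro y hy
    obtain ⟨V, hV, hyV, h⟩ := Groth.Agent.S3401.exists_open_iff_of_isLocallyConstructible hcon y
    exact ⟨V, hV, hyV, fun z hz hyz => (h z hz hyz).2 hy⟩
  refine ⟨e, n, d, hed, hd, hn, ?_, ?_⟩
  · refine le_antisymm ?_ ?_
    · refine dim_le hr2 _ _ fun y hy => ?_
      obtain ⟨ξ, hξ, h⟩ := hcl y hy
      rw [← hall ξ hξ]
      exact r_le hr1 h
    · obtain ⟨V, hV, hyV, h⟩ := hnhd (u.left ξ₀) ⟨_, rfl⟩
      rw [he]
      exact le_dim hr1 _ _ ⟨V, hV⟩ hyV h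
  · -- the boundary
    have hbd : ∀ y ∈ closure (closure (Set.range u.left) \ Set.range u.left), r y < e := by
      intro y hy
      have hy' : y ∈ closure (Set.range u.left) :=
        closure_minimal Set.sdiff_subset isClosed_closure hy
      obtain ⟨ξ, hξ, h⟩ := hcl y hy'
      by_cases hne : u.left ξ = y
      · exfalso
        obtain ⟨V, hV, hyV, hVC⟩ := hnhd (u.left ξ) ⟨_, rfl⟩
        -- shrink `V`
        let F : Set X.left := ⋃ ζ ∈ {ζ : G.left | IsGen ζ ∧ u.left ξ ∉ closure {u.left ζ}}, closure {u.left ζ}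
        have hF : IsClosed F :=
          (hfin.subset fun ζ h => h.1).isClosed_biUnion fun _ _ => isClosed_closure
        have hyF : u.left ξ ∉ F := by
          simp only [F, Set.mem_iUnion, not_exists]
          intro ζ hζ
          exact hζ.2
        have hopen : IsOpen (V ∩ Fᶜ) := hV.inter hF.isOpen_compl
        rw [← hne] at hy
        obtain ⟨z, hz1, hz2, hz3⟩ := mem_closure_iff.mp hy _ hopen ⟨hyV, hyF⟩
        obtain ⟨ζ, hζ, hζz⟩ := hcl z hz2
        have h1 : u.left ξ ∈ closure {u.left ζ} := by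
          by_contra hcon
          apply hz1.2
          simp only [F, Set.mem_iUnion]
          exact ⟨ζ, ⟨hζ, hcon⟩, specializes_iff_mem_closure.mp hζz⟩
        have h2 : u.left ζ ⤳ u.left ξ := specializes_iff_mem_closure.mpr h1
        have h3 : u.left ζ = u.left ξ := by
          by_contra hne'
          have := r_lt hr1 h2 hne'
          rw [hall ζ hζ, hall ξ hξ] at this
          exact lt_irrefl _ this
        rw [h3] at hζz
        exact hz3 (hVC z hz1.1 hζz)
      · rw [← hall ξ hξ]
        exact r_lt hr1 h hne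
    rcases Set.eq_empty_or_nonempty (closure (Set.range u.left) \ Set.range u.left) with hem | ⟨y, hy⟩
    · rw [hem]
      have : topologicalKrullDim (∅ : Set X.left) = ⊥ := by
        have : IsEmpty (∅ : Set X.left) := inferInstance
        have h2 : IsEmpty (IrreducibleCloseds (∅ : Set X.left)) :=
          ⟨fun T => by obtain ⟨t, -⟩ := T.isIrreducible.nonempty; exact isEmptyElim t⟩
        exact Order.krullDim_eq_bot
      rw [this]
      exact WithBot.bot_lt_coe _
    · have h0 : r y < e := hbd y (subset_closure hy)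
      obtain ⟨e', rfl⟩ : ∃ e', e = e' + 1 := ⟨e - 1, by omega⟩
      have h1 : topologicalKrullDim ↥(closure (Set.range u.left) \ Set.range u.left) ≤ (e' : ℕ) :=
        dim_le hr2 _ _ fun z hz => by have := hbd z hz; omega
      refine lt_of_le_of_lt h1 ?_
      exact_mod_cast Nat.lt_succ_self e'

end Orb

end K408.OrbDim
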