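import Groth.Prelude.Def_AlgGrp
import Groth.Prelude.Def_Pi1
import Groth.Prelude.Def_Pic13
import Groth.Prelude.Def_Red
import Groth.Prelude.Def_RelProj
import Groth.Prelude.Def_CohB1
import Groth.Agent.Grpsch.PicGrp
import Groth.Agent.AlgGrp.K408.OrbDim
import Groth.Agent.AbVar.K515.FF
import Groth.Agent.Books.AlgPts

/-!
# Automorphisms of almost homogeneous varieties: the nodes of the proof

The statements `NodeA`, `NodeC`, `NodeE`, `NodeG` are the interfaces of the parts of the proof of the
finiteness of the group of components of the automorphism group of a normal projective almost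
homogeneous variety.
-/

set_option autoImplicit false
universe u

open CategoryTheory MonoidalCategory CartesianMonoidalCategory MonObj GrpObj AlgebraicGeometry
  CategoryTheory.Limits AlgGrp
open Groth.Agent.Grpsch.PicGrp

namespace Groth.Agent.AlgGrp.K408.AlmPlan

/-- An action is faithful when only the unit acts trivially, on points with values in any scheme. -/
def Faithful {S : Scheme.{u}} {G X : Over S} [GrpObj G] (a : AlgGrp.Action G X) : Prop :=
  ∀ (T : Over S) (g : T ⟶ G), lift (fst T X ≫ g) (snd T X) ≫ a.act = snd T X → g = toUnit T ≫ η[G]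

/-- NODE A: a projective variety has a largest smooth connected group of automorphisms of finite type. -/
def NodeA : Prop :=
  ∀ (k : Type u) [Field k] [IsAlgClosed k] (X : Over (Spec (CommRingCat.of k))) [IsIntegral X.left],
    RelProj.IsHProjective X.hom →
    ∃ (A : Over (Spec (CommRingCat.of k))) (_ : GrpObj A) (a : AlgGrp.Action A X),
      Smooth A.hom ∧ QuasiCompact A.hom ∧ ConnectedSpace A.left ∧ Faithful a ∧
      ∀ (B : Over (Spec (CommRingCat.of k))) [GrpObj B] [Smooth B.hom] [QuasiCompact B.hom]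
        [ConnectedSpace B.left] (b : AlgGrp.Action B X),
        ∃ φ : B ⟶ A, IsMonHom φ ∧ (φ ▷ X) ≫ a.act = b.act

/-- NODE B: the first assertion of the statement. -/
def NodeB : Prop :=
  ∀ (k : Type u) [Field k] [IsAlgClosed k]
    (G₀ X : Over (Spec (CommRingCat.of k))) [GrpObj G₀]
    [IsAffine G₀.left] [Smooth G₀.hom] [ConnectedSpace ↥G₀.left]
    [IsIntegral X.left], Pi1.IsNormalScheme X.left → RelProj.IsHProjective X.hom →
    ∀ (a₀ : AlgGrp.Action G₀ X) (x : 𝟙_ (Over (Spec (CommRingCat.of k))) ⟶ X),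
    IsOpen (Set.range ⇑(a₀.orbitMap x).left.base) →
    ∀ (G : Over (Spec (CommRingCat.of k))) [GrpObj G] [LocallyOfFiniteType G.hom] [QuasiCompact G.hom]
        [IsReduced G.left] (a : AlgGrp.Action G X), Faithful a → IsAffine G.left

/-- NODE C: automorphisms normalising a torus at a fixed point induce finitely many automorphisms of it. -/
def NodeC : Prop :=
  ∀ (k : Type u) [Field k] [IsAlgClosed k] (T X : Over (Spec (CommRingCat.of k))) [GrpObj T]
    [IsIntegral X.left] [IsSeparated X.hom] [LocallyOfFiniteType X.hom],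
    Red.IsTorus T → ∀ (b : AlgGrp.Action T X), Faithful b →
    ∀ (x : 𝟙_ (Over (Spec (CommRingCat.of k))) ⟶ X),
      lift (𝟙 T) (toUnit T ≫ x) ≫ b.act = toUnit T ≫ x →
      Set.Finite {τ : T ⟶ T | IsMonHom τ ∧ ∃ γ : X ≅ X, x ≫ γ.hom = x ∧
        (τ ⊗ₘ γ.hom) ≫ b.act = b.act ≫ γ.hom}

/-- NODE E: an automorphism fixing the boundary divisors and the class of an ample module on the open
part, up to torsion, fixes its numerical class. -/
def NodeE : Prop :=
  ∀ (k : Type u) [Field k] [IsAlgClosed k] (X : Over (Spec (CommRingCat.of k))) [IsIntegral X.left],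
    Pi1.IsNormalScheme X.left → RelProj.IsHProjective X.hom →
    ∀ (U : X.left.Opens), (U : Set X.left).Nonempty → ∀ (δ : X ≅ X), δ.hom.left ⁻¹ᵁ U = U →
    (∀ y : X.left, y ∉ U → Order.coheight y = 1 → δ.hom.left y = y) →
    ∀ (L : X.left.Modules) (hL : PicF.IsInvertible L), CohB1.IsAmple L → ∀ N : ℕ, 1 ≤ N →
    pull U.ι ((pull δ.hom.left (mk L hL) / mk L hL) ^ N) = 1 →
    ∀ M : X.left.Modules, PicF.IsInvertible M → Nonempty (CohB1.tensorMod L M ≅ Coh.structureModule X.left) →
      @Pic13.IsNumEquivZero k _ X.left ⟨X.hom⟩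
        (CohB1.tensorMod ((Scheme.Modules.pullback δ.hom.left).obj L) M)

open Groth.Agent.Lefpen.H725.CocDef K515.FF K408.OrbDim Books.AlgPts in
/-- NODE G: a rational trivialization `F` of `o^*L^n` (`o` an open orbit map) invariant under the reduced
neutral component of the stabilizer shows that `L` is torsion on the orbit. -/
def NodeG : Prop :=
  ∀ (k : Type u) [Field k] [IsAlgClosed k] (A X : Over (Spec (CommRingCat.of k))) [GrpObj A]
    [IsAffine A.left] [Smooth A.hom] [IsIntegral A.left]
    [IsIntegral X.left] [IsSeparated X.hom] [LocallyOfFiniteType X.hom] [QuasiCompact X.hom]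
    (a : AlgGrp.Action A X) (x : 𝟙_ (Over (Spec (CommRingCat.of k))) ⟶ X),
    IsOpen (Set.range ⇑(a.orbitMap x).left.base) →
    ∀ (H' : Over (Spec (CommRingCat.of k))) [GrpObj H'] [Smooth H'.hom] [ConnectedSpace H'.left]
      (i : H' ⟶ stab a x), @IsMonHom _ _ _ _ _ _ (stabGrp a x).toMonObj i → IsClosedImmersion i.left →
      Set.range i.left = connectedComponent (pt (@MonObj.one _ _ _ _ (stabGrp a x).toMonObj)) →
    ∀ (ho : (a.orbitMap x).left (genericPoint A.left) = genericPoint X.left)
      (L : X.left.Modules) (hL : PicF.IsInvertible L) (b : X.left → X.left.functionField), HasCoc L b →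
    ∀ (F : A.left.functionField) (n : ℕ), 1 ≤ n →
      (∀ z : A.left, UnitAt z (F * fm (a.orbitMap x).left ho (b ((a.orbitMap x).left z)) ^ n)) →
      (∀ (h : 𝟙_ (Over (Spec (CommRingCat.of k))) ⟶ H')
        (hh : (lift (𝟙 A) (toUnit A ≫ h ≫ i ≫ stabι a x) ≫ μ[A]).left (genericPoint A.left) = genericPoint A.left),
        fm (lift (𝟙 A) (toUnit A ≫ h ≫ i ≫ stabι a x) ≫ μ[A]).left hh F = F) →
    ∃ N : ℕ, 1 ≤ N ∧ ∀ U : X.left.Opens, (U : Set X.left) = Set.range ⇑(a.orbitMap x).left.base →
      pull U.ι (mk L hL ^ N) = 1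

end Groth.Agent.AlgGrp.K408.AlmPlan
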