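import Groth.Agent.AlgGrp.K408.AlmTriv
import Groth.Agent.AlgGrp.K404.Defm
import Groth.Agent.AlgGrp.K244.Boundary
import Groth.Agent.AlgGrp.K493.UnitTor

/-!
# Finitely many automorphisms of an almost homogeneous variety modulo deformation: the assembly
-/

set_option autoImplicit false
universe u

open CategoryTheory MonoidalCategory CartesianMonoidalCategory MonObj GrpObj AlgebraicGeometry
open Groth.Agent.Grpsch.PicGrp

namespace K408.AlmAsm

open OrbDim Groth.Agent.AlgGrp.K408.AlmPlan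

section Conj

variable {S : Scheme.{u}} {A X : Over S} [GrpObj A]

/-- The action transported by an automorphism. -/
noncomputable def conjAct (a : AlgGrp.Action A X) (g : X ≅ X) : AlgGrp.Action A X where
  act := (A ◁ g.inv) ≫ a.act ≫ g.hom
  one_act := by
    rw [← whisker_exchange_assoc, ← Category.assoc (η[A] ▷ X), a.one_act]
    simp
  mul_act := by
    rw [← whisker_exchange_assoc, ← Category.assoc (μ[A] ▷ X), a.mul_act]
    simp

/-- Every automorphism normalizes the largest group. -/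
theorem norm (a : AlgGrp.Action A X)
    (huniv : ∀ b : AlgGrp.Action A X, ∃ φ : A ⟶ A, IsMonHom φ ∧ (φ ▷ X) ≫ a.act = b.act) (g : X ≅ X) :
    ∃ σ : A ⟶ A, IsMonHom σ ∧ (σ ⊗ₘ g.hom) ≫ a.act = a.act ≫ g.hom := by
  obtain ⟨φ, hφ, e⟩ := huniv (conjAct a g)
  refine ⟨φ, hφ, ?_⟩
  rw [MonoidalCategory.tensorHom_def', Category.assoc, e]
  simp [conjAct]

/-- Restriction of an action along a homomorphism. -/
noncomputable def resAct (a : AlgGrp.Action A X) {T : Over S} [GrpObj T] (j : T ⟶ A) [IsMonHom j] :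
    AlgGrp.Action T X where
  act := (j ▷ X) ≫ a.act
  one_act := by
    rw [← Category.assoc, ← comp_whiskerRight, IsMonHom.one_hom, a.one_act]
  mul_act := by
    have h := a.mul_act
    rw [← Category.assoc, ← comp_whiskerRight, IsMonHom.mul_hom, comp_whiskerRight,
      Category.assoc, h]
    simp only [MonoidalCategory.tensorHom_def, comp_whiskerRight, Category.assoc,
      MonoidalCategory.whiskerLeft_comp, whisker_assoc, Iso.inv_hom_id_assoc]
    rw [whisker_exchange_assoc (f := j) (g := a.act)]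
    rw [whisker_exchange_assoc (f := j) (g := j ▷ X)]
    rw [← associator_naturality_left_assoc]

theorem lift_resAct (a : AlgGrp.Action A X) {T : Over S} [GrpObj T] (j : T ⟶ A) [IsMonHom j] {Z : Over S}
    (h : Z ⟶ T) (z : Z ⟶ X) : lift h z ≫ (resAct a j).act = lift (h ≫ j) z ≫ a.act := by
  rw [resAct, ← Category.assoc, lift_whiskerRight]

theorem faithful_resAct {a : AlgGrp.Action A X} (ha : Faithful a) {T : Over S} [GrpObj T] (j : T ⟶ A) [IsMonHom j]
    [Mono j] : Faithful (resAct a j) := by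
  intro Z g hg
  rw [lift_resAct, Category.assoc] at hg
  have h1 := ha Z (g ≫ j) hg
  rw [← cancel_mono j, h1, Category.assoc, IsMonHom.one_hom]

end Conj

variable {K : Type u} [Field K]

/-- The orbit map of the bigger group has an open image. -/
theorem isOpen_range {X Y Z : Scheme.{u}} [IrreducibleSpace Z] (f : X ⟶ Y) (g : Y ⟶ Z) [Nonempty X]
    (h : IsOpen (Set.range (f ≫ g).base)) (hg : IsLocallyClosed (Set.range g.base)) :
    IsOpen (Set.range g.base) := by
  obtain ⟨U, C, hU, hC, e⟩ := hg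
  have hd : Dense (Set.range (f ≫ g).base) := h.dense ⟨(f ≫ g).base (Nonempty.some inferInstance), _, rfl⟩
  have hsub : Set.range (f ≫ g).base ⊆ Set.range g.base := by
    rintro _ ⟨x, rfl⟩
    exact ⟨f.base x, by simp⟩
  have hC' : C = Set.univ := by
    have h1 : closure (Set.range (f ≫ g).base) ⊆ C :=
      hC.closure_subset_iff.mpr (hsub.trans (by rw [e]; exact Set.inter_subset_right))
    rw [hd.closure_eq] at h1
    exact Set.univ_subset_iff.mp h1
  rw [e, hC', Set.inter_univ]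
  exact hU

section Main

variable [IsAlgClosed K] {A X : Over (Spec (CommRingCat.of K))} [GrpObj A]

/-- Classes of automorphisms with the same discrete data are finitely many modulo deformation. -/
theorem finite_classes {D : Type*} [Finite D] (f : (X ≅ X) → D) (f' : (X ≅ X) → (X ≅ X))
    (hf' : ∀ g, K404.Defm.Defm g (f' g))
    (P : (X ≅ X) → Prop) (hP : ∀ g h : X ≅ X, f g = f h → P (f' g ≪≫ (f' h).symm))
    (hfin : ∃ (n : ℕ) (s : Fin n → (X ≅ X)), ∀ g, P g → ∃ i, K404.Defm.Defm (s i) g) :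
    ∃ (n : ℕ) (s : Fin n → (X ≅ X)), ∀ g, ∃ i, K404.Defm.Defm (s i) g := by
  classical
  obtain ⟨n, s, hs⟩ := hfin
  -- representatives
  let r : Set.range f → (X ≅ X) := fun d => d.2.choose
  have hr : ∀ d : Set.range f, f (r d) = d.1 := fun d => d.2.choose_spec
  have : Finite (Set.range f) := inferInstance
  have : Fintype (Set.range f) := Fintype.ofFinite _
  let e := Fintype.equivFin (Set.range f × Fin n)
  refine ⟨_, fun j => s (e.symm j).2 ≪≫ f' (r (e.symm j).1), fun g => ?_⟩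
  let d : Set.range f := ⟨f g, g, rfl⟩
  obtain ⟨i, hi⟩ := hs _ (hP g (r d) (hr d).symm)
  refine ⟨e (d, i), ?_⟩
  beta_reduce
  rw [Equiv.symm_apply_apply]
  have h1 := K404.Defm.comp hi (K404.Defm.refl (f' (r d)))
  have h2 : (f' g ≪≫ (f' (r d)).symm) ≪≫ f' (r d) = f' g := by
    rw [Iso.trans_assoc, Iso.symm_self_id, Iso.trans_refl]
  rw [h2] at h1
  exact K404.Defm.trans h1 (K404.Defm.symm (hf' g))

open K244.Boundary

/-- **The finiteness assertion**, from its parts. -/
theorem main (hC : NodeC.{u}) (hE : NodeE.{u}) (hG : NodeG.{u}) [IsAffine A.left] [Smooth A.hom] [ConnectedSpace A.left]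
    (hpic : Finite (Pic A.left))
    [IsIntegral X.left] (hXn : Pi1.IsNormalScheme X.left) (hX : RelProj.IsHProjective X.hom)
    [IsSeparated X.hom] [LocallyOfFiniteType X.hom] [QuasiCompact X.hom]
    (a : AlgGrp.Action A X) (hf : Faithful a) (x : 𝟙_ (Over (Spec (CommRingCat.of K))) ⟶ X)
    (hop : IsOpen (Set.range ⇑(a.orbitMap x).left.base))
    {H' : Over (Spec (CommRingCat.of K))} [GrpObj H'] [IsAffine H'.left] [Smooth H'.hom] [QuasiCompact H'.hom]
    [ConnectedSpace H'.left] (i : H' ⟶ stab a x)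
    (hi : @IsMonHom _ _ _ _ _ _ (stabGrp a x).toMonObj i) (hic : IsClosedImmersion i.left)
    (hir : Set.range i.left =
      connectedComponent (Groth.Agent.Books.AlgPts.pt (@MonObj.one _ _ _ _ (stabGrp a x).toMonObj)))
    (hij : IsMonHom (i ≫ stabι a x))
    {T : Over (Spec (CommRingCat.of K))} [GrpObj T] (t : T ⟶ H') (ht : AGF.IsMaxTorus t)
    (hadj : ∀ c : X ≅ X, ∃ (g : 𝟙_ (Over (Spec (CommRingCat.of K))) ⟶ A) (c' : X ≅ X) (σ : A ⟶ A) (σ' : H' ⟶ H')
      (τ : T ⟶ T), c'.hom = c.hom ≫ (lift (toUnit X ≫ g) (𝟙 X) ≫ a.act) ∧ x ≫ c'.hom = x ∧ IsMonHom σ ∧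
      (σ ⊗ₘ c'.hom) ≫ a.act = a.act ≫ c'.hom ∧ IsMonHom σ' ∧ σ' ≫ i ≫ stabι a x = (i ≫ stabι a x) ≫ σ ∧
      IsMonHom τ ∧ τ ≫ t = t ≫ σ' ∧ IsIso σ)
    (hU : ∀ c : X ≅ X, c.hom.left ⁻¹ᵁ ⟨_, hop⟩ = (⟨_, hop⟩ : X.left.Opens))
    (L : X.left.Modules) (hLa : CohB1.IsAmple L)
    (h77 : ∃ (n : ℕ) (s : Fin n → (X ≅ X)),
      ∀ g : X ≅ X, (∀ M : X.left.Modules, PicF.IsInvertible M → Nonempty (CohB1.tensorMod L M ≅ Coh.structureModule X.left) →
        @Pic13.IsNumEquivZero K _ X.left ⟨X.hom⟩ (CohB1.tensorMod ((Scheme.Modules.pullback g.hom.left).obj L) M)) →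
        ∃ (i : Fin n), K404.Defm.Defm (s i) g) :
    ∃ (n : ℕ) (s : Fin n → (X ≅ X)), ∀ g, ∃ i, K404.Defm.Defm (s i) g := by
  classical
  have hAi : IsIntegral A.left := Groth.Agent.Sga3B.CellDim.isIntegral_of_connected_grp A
  have htm : IsMonHom t := ht.1
  have htmono : Mono t := ht.2.1
  have htT : Red.IsTorus T := ht.2.2.1
  let U : X.left.Opens := ⟨_, hop⟩
  have hUne : (U : Set X.left).Nonempty := ⟨_, genericPoint A.left, rfl⟩
  have hbd : Finite (bd U) := (finite_bd (X := X) hUne).to_subtype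
  -- the action of the torus
  have himono : Mono i.left := inferInstance
  have himono' : Mono i := Over.mono_of_mono_left i
  let jT : T ⟶ A := t ≫ i ≫ stabι a x
  have hjT : IsMonHom jT := by
    have : IsMonHom (t ≫ (i ≫ stabι a x)) := inferInstance
    exact this
  have hjm : Mono jT := by
    have : Mono (t ≫ (i ≫ stabι a x)) := inferInstance
    exact this
  have hxT : lift (𝟙 T) (toUnit T ≫ x) ≫ (resAct a jT).act = toUnit T ≫ x := by
    rw [lift_resAct, Category.id_comp]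
    have := comp_stabι_sm a x (t ≫ i)
    rw [Category.assoc] at this
    exact this
  choose g c' σ σ' τ h1 h2 h3 h4 h5 h6 h7 h8 h9 using hadj
  have hfinT := hC K T X htT (resAct a jT) (faithful_resAct hf jT) x hxT
  have hτj : ∀ c, τ c ≫ jT = jT ≫ σ c := by
    intro c
    change τ c ≫ t ≫ i ≫ stabι a x = (t ≫ i ≫ stabι a x) ≫ σ c
    rw [← Category.assoc, h8, Category.assoc, h6]
    simp only [Category.assoc]
  have hmem : ∀ c, τ c ∈ {τ : T ⟶ T | IsMonHom τ ∧ ∃ w : X ≅ X, x ≫ w.hom = x ∧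
      (τ ⊗ₘ w.hom) ≫ (resAct a jT).act = (resAct a jT).act ≫ w.hom} := by
    intro c
    refine ⟨h7 c, c' c, h2 c, ?_⟩
    have e1 : (τ c ⊗ₘ (c' c).hom) ≫ (jT ▷ X) = (jT ▷ X) ≫ (σ c ⊗ₘ (c' c).hom) := by
      rw [← tensorHom_id, tensorHom_comp_tensorHom, tensorHom_comp_tensorHom, hτj, Category.comp_id,
        Category.id_comp]
    rw [resAct, ← Category.assoc, e1, Category.assoc, h4, Category.assoc]
  have hfinT' := hfinT.to_subtype
  refine finite_classes (D := {τ : T ⟶ T | IsMonHom τ ∧ ∃ w : X ≅ X, x ≫ w.hom = x ∧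
      (τ ⊗ₘ w.hom) ≫ (resAct a jT).act = (resAct a jT).act ≫ w.hom} × Equiv.Perm (bd U))
    (fun c => (⟨τ c, hmem c⟩, perm (c' c) (hU (c' c)))) c' (fun c => ?_)
    (fun g => ∀ M : X.left.Modules, PicF.IsInvertible M → Nonempty (CohB1.tensorMod L M ≅ Coh.structureModule X.left) →
        @Pic13.IsNumEquivZero K _ X.left ⟨X.hom⟩ (CohB1.tensorMod ((Scheme.Modules.pullback g.hom.left).obj L) M))
    (fun c d hcd => ?_) h77
  · have e1 : c' c = c ≪≫ K404.Defm.tIso a (g c) := Iso.ext (h1 c)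
    rw [e1]
    exact K404.Defm.comp_translation a c (g c)
  · rw [Prod.ext_iff] at hcd
    obtain ⟨hcd1, hcd2⟩ := hcd
    have hτ : τ c = τ d := congrArg Subtype.val hcd1
    have hT' : t ≫ σ' c = t ≫ σ' d := by rw [← h8, ← h8, hτ]
    have := h3 c; have := h3 d; have := h5 c; have := h5 d; have := h9 c; have := h9 d
    obtain ⟨N, hN, hNU⟩ := AlmTriv.main a x hG hpic hop i hi hic hir hij t
      (fun χ hχ e1 e2 => Groth.Agent.AlgGrp.K493.UnitTor.unit_eq_one H' T t ht χ hχ e1 e2)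
      (c' c) (c' d) (σ c) (σ d) (h4 c) (h4 d) (h2 c) (h2 d) (σ' c) (σ' d) (h6 c) (h6 d) hT'
      (pull (c' d).inv.left (mk L hLa.1))
    have e1 : pull (c' d).hom.left (pull (c' d).inv.left (mk L hLa.1)) = mk L hLa.1 := by
      rw [← pull_comp, ← Over.comp_left, Iso.hom_inv_id, Over.id_left, pull_id]
    have e2 : pull (c' c).hom.left (pull (c' d).inv.left (mk L hLa.1)) =
        pull (c' c ≪≫ (c' d).symm).hom.left (mk L hLa.1) := by
      rw [← pull_comp, ← Over.comp_left]
      rfl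
    have e3 := hNU U rfl
    rw [e1, e2] at e3
    exact hE K X hXn hX U hUne (c' c ≪≫ (c' d).symm) (preimage_trans (hU _) (preimage_symm (hU _)))
      (fix_of_perm_eq (hU _) (hU _) hcd2) L hLa.1 hLa N hN e3

end Main

end K408.AlmAsm
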