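import Groth.Agent.AlgGrp.K408.AlmAsm
import Groth.Agent.AlgGrp.K402.AlmF1
import Groth.Agent.AlgGrp.K407.PicFin
import Groth.Agent.AlgGrp.K395.OrbLC

/-!
# Finiteness modulo deformation for almost homogeneous varieties
-/

set_option autoImplicit false
universe u

open CategoryTheory MonoidalCategory CartesianMonoidalCategory MonObj GrpObj AlgebraicGeometry
open Groth.Agent.Grpsch.PicGrp

namespace K408.AlmFin

open OrbDim Groth.Agent.AlgGrp.K408.AlmPlan

variable {K : Type u} [Field K] [IsAlgClosed K]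

/-- The second assertion, from the nodes. -/
theorem main (hA : NodeA.{u}) (hB : NodeB.{u}) (hC : NodeC.{u}) (hE : NodeE.{u}) (hG : NodeG.{u})
    (G₀ X : Over (Spec (CommRingCat.of K))) [GrpObj G₀] [IsAffine G₀.left] [Smooth G₀.hom] [ConnectedSpace ↥G₀.left]
    [IsIntegral X.left] (hXn : Pi1.IsNormalScheme X.left) (hX : RelProj.IsHProjective X.hom) [IsProper X.hom]
    (a₀ : AlgGrp.Action G₀ X) (x : 𝟙_ (Over (Spec (CommRingCat.of K))) ⟶ X)
    (hx : IsOpen (Set.range ⇑(a₀.orbitMap x).left.base))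
    (L : X.left.Modules) (hLa : CohB1.IsAmple L)
    (h77 : ∃ (n : ℕ) (s : Fin n → (X ≅ X)),
      ∀ g : X ≅ X, (∀ M : X.left.Modules, PicF.IsInvertible M → Nonempty (CohB1.tensorMod L M ≅ Coh.structureModule X.left) →
        @Pic13.IsNumEquivZero K _ X.left ⟨X.hom⟩ (CohB1.tensorMod ((Scheme.Modules.pullback g.hom.left).obj L) M)) →
        ∃ (i : Fin n), K404.Defm.Defm (s i) g) :
    ∃ (n : ℕ) (s : Fin n → (X ≅ X)), ∀ g, ∃ i, K404.Defm.Defm (s i) g := by
  obtain ⟨A, _, a, hAs, hAq, hAc, hf, huniv⟩ := hA K X hX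
  have hXq : QuasiCompact X.hom := inferInstance
  have hG₀q : QuasiCompact G₀.hom := inferInstance
  have hAr : IsReduced A.left := Groth.Agent.Etcore.SmoothRed.isReduced_of_smooth A.hom
  have hAff : IsAffine A.left := hB K G₀ X hXn hX a₀ x hx A a hf
  have hN : ∀ c : X ≅ X, ∃ σ : A ⟶ A, IsMonHom σ ∧ (σ ⊗ₘ c.hom) ≫ a.act = a.act ≫ c.hom :=
    AlmAsm.norm a (fun b => huniv A b)
  -- the orbit of the largest group is open
  obtain ⟨φ, hφ, hφa⟩ := huniv G₀ a₀
  have horb : φ ≫ a.orbitMap x = a₀.orbitMap x := by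
    rw [AlgGrp.Action.orbitMap, AlgGrp.Action.orbitMap, ← hφa, ← Category.assoc, ← Category.assoc, comp_lift,
      lift_whiskerRight, Category.comp_id, Category.id_comp, ← Category.assoc, toUnit_unique (φ ≫ toUnit A) (toUnit G₀)]
  have hop : IsOpen (Set.range ⇑(a.orbitMap x).left.base) := by
    have hne : Nonempty G₀.left := inferInstance
    refine AlmAsm.isOpen_range φ.left (a.orbitMap x).left ?_ (K395.OrbLC.isLocallyClosed_range A X a x)
    rw [← Over.comp_left, horb]
    exact hx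
  obtain ⟨H', _, i, hi, hic, hs, hc, hHa, hir, T, _, t, ht⟩ := K402.AlmF1.exists_data a x
  have hjm : @IsMonHom _ _ _ _ _ (stabGrp a x).toMonObj _ (stabι a x) := K402.AlmF1.isMonHom_stabι
  have hij : IsMonHom (i ≫ stabι a x) := by
    let := stabGrp a x
    exact inferInstanceAs (IsMonHom (i ≫ stabι a x))
  have hHq : QuasiCompact H'.hom := inferInstance
  refine AlmAsm.main hC hE hG (K407.PicFin.finite_pic A) hXn hX a hf x hop i hi hic hir hij t ht (fun c => ?_)
    (fun c => ?_) L hLa h77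
  · obtain ⟨g, c', σ, σ', τ, h1, h2, h3, h4, h5, h6, h7, h8⟩ :=
      K402.AlmF1.exists_adjust hf hN hop i hi hic hir ht c
    have h9 : IsIso σ := by
      obtain ⟨s, -, -, hs1, -⟩ := K402.AlmMove.exists_iso hf hN c'
      have : IsIso c'.hom := inferInstance
      have e : σ = s.hom := K402.AlmMove.Cj.unique hf h4 hs1
      rw [e]
      infer_instance
    exact ⟨g, c', σ, σ', τ, h1, h2, h3, h4, h5, h6, h7, h8, h9⟩
  · apply TopologicalSpace.Opens.ext
    exact K402.AlmF1.preimage_orbit hf hN hop c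

end K408.AlmFin
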