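import Groth.Agent.AlgGrp.K408.RatRes
import Groth.Agent.AlgGrp.K408.CharUnit
import Groth.Agent.S16117
import Groth.Agent.Books.AntiAffine

/-!
# Translates of a rational trivialization of a line bundle pulled back along an orbit map
-/

set_option autoImplicit false
universe u

open CategoryTheory MonoidalCategory CartesianMonoidalCategory MonObj GrpObj AlgebraicGeometry
open Groth.Agent.Lefpen.H725.CocDef Groth.Agent.Lefpen.H521.CartierCoc K515.FF

namespace K408.RosRat

open RatRes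

variable {K : Type u} [Field K] [IsAlgClosed K]

section

variable {S : Scheme.{u}} {A H : Over S} [GrpObj A]

/-- Right translation by a section. -/
noncomputable def rt (g : 𝟙_ (Over S) ⟶ A) : A ⟶ A := lift (𝟙 A) (toUnit A ≫ g) ≫ μ[A]

theorem rt_eq (g : 𝟙_ (Over S) ⟶ A) : rt g = 𝟙 A * (toUnit A ≫ g) := rfl

theorem comp_rt {T : Over S} (t : T ⟶ A) (g : 𝟙_ (Over S) ⟶ A) : t ≫ rt g = t * (toUnit T ≫ g) := by
  rw [rt_eq, MonObj.comp_mul, Category.comp_id, ← Category.assoc]
  congr 2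
  exact toUnit_unique _ _

theorem rt_rt (g h : 𝟙_ (Over S) ⟶ A) : rt g ≫ rt h = rt (g * h) := by
  rw [comp_rt, rt_eq, rt_eq, _root_.mul_assoc, MonObj.comp_mul]

theorem rt_one : rt (1 : 𝟙_ (Over S) ⟶ A) = 𝟙 A := by
  rw [rt_eq, MonObj.comp_one, _root_.mul_one]

theorem isIso_rt (g : 𝟙_ (Over S) ⟶ A) : IsIso (rt g) :=
  ⟨rt g⁻¹, by rw [rt_rt, mul_inv_cancel, rt_one], by rw [rt_rt, inv_mul_cancel, rt_one]⟩

theorem isIso_rt_left (g : 𝟙_ (Over S) ⟶ A) : IsIso (rt g).left := by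
  have := isIso_rt g
  exact inferInstanceAs (IsIso ((Over.forget _).map (rt g)))

theorem rt_η [IsIntegral A.left] (g : 𝟙_ (Over S) ⟶ A) : (rt g).left (genericPoint A.left) = genericPoint A.left := by
  have := isIso_rt_left g
  exact map_genericPoint _

theorem appTop_comp {X Y Z : Over S} (f : X ⟶ Y) (g : Y ⟶ Z) (a : Γ(Z.left, ⊤)) :
    (f ≫ g).left.appTop a = f.left.appTop (g.left.appTop a) := by
  have := Scheme.Hom.comp_appTop f.left g.left
  rw [Over.comp_left]
  exact congrArg (fun φ => φ.hom a) this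

theorem appTop_id {X : Over S} (a : Γ(X.left, ⊤)) : (𝟙 X : X ⟶ X).left.appTop a = a :=
  congrArg (fun φ => φ.hom a) (Scheme.Hom.id_appTop (X := X.left))

/-- The translation map `(g, h) ↦ g j(h)`. -/
noncomputable def tm (j : H ⟶ A) : A ⊗ H ⟶ A := fst A H * (snd A H ≫ j)

theorem lift_tm {T : Over S} (j : H ⟶ A) (a : T ⟶ A) (h : T ⟶ H) : lift a h ≫ tm j = a * (h ≫ j) := by
  rw [tm, MonObj.comp_mul, lift_fst, ← Category.assoc, lift_snd]

theorem lift_one_tm [GrpObj H] (j : H ⟶ A) [IsMonHom j] : lift (𝟙 A) (1 : A ⟶ H) ≫ tm j = 𝟙 A := by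
  rw [lift_tm, MonObj.one_comp, _root_.mul_one]

theorem lift_pt_tm (j : H ⟶ A) (h : 𝟙_ (Over S) ⟶ H) : lift (𝟙 A) (toUnit A ≫ h) ≫ tm j = rt (h ≫ j) := by
  rw [lift_tm, rt_eq, Category.assoc]

end

/-- **Rosenlicht.** If `F` trivializes (a power of) a line bundle pulled back along a map `o` constant on the
cosets of `j`, then right translation by `j(h)` multiplies `F` by a constant, the value at `h` of an invertible
function. -/
theorem exists_character {A H : Over (Spec (CommRingCat.of K))} [GrpObj A] [GrpObj H]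
    [Smooth A.hom] [QuasiCompact A.hom] [IsIntegral A.left] [Smooth H.hom] [QuasiCompact H.hom] [IsIntegral H.left]
    (j : H ⟶ A) [IsMonHom j] {X : Scheme.{u}} [IsIntegral X] (o : A.left ⟶ X)
    (ho : o (genericPoint A.left) = genericPoint X) (hinv : (tm j).left ≫ o = (fst A H).left ≫ o)
    (b : X → X.functionField) (F : A.left.functionField) (n : ℕ)
    (hF : ∀ z : A.left, UnitAt z (F * fm o ho (b (o z)) ^ n)) :
    ∃ χ : Γ(H.left, ⊤), IsUnit χ ∧ η[H].left.appTop χ = 1 ∧ ∀ h : 𝟙_ (Over (Spec (CommRingCat.of K))) ⟶ H,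
      fm (rt (h ≫ j)).left (rt_η _) F = ff ⊤ trivial ((toUnit A ≫ h).left.appTop χ) * F := by
  have hint : IsIntegral (A ⊗ H).left := K688.RosUnits.isIntegral_tensor A H
  have hs1 : lift (𝟙 A) (1 : A ⟶ H) ≫ tm j = 𝟙 A := lift_one_tm j
  have hs2 : lift (𝟙 A) (1 : A ⟶ H) ≫ fst A H = 𝟙 A := lift_fst _ _
  have hm : (tm j).left (genericPoint (A ⊗ H).left) = genericPoint A.left :=
    map_genericPoint_of_section _ (lift (𝟙 A) (1 : A ⟶ H)).left (by rw [← Over.comp_left, hs1]; rfl)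
  have hf : (fst A H).left (genericPoint (A ⊗ H).left) = genericPoint A.left :=
    map_genericPoint_of_section _ (lift (𝟙 A) (1 : A ⟶ H)).left (by rw [← Over.comp_left, hs2]; rfl)
  have hF0 : F ≠ 0 := fun h0 => unitAt_ne_zero (hF (genericPoint A.left)) (by rw [h0, zero_mul])
  -- the quotient of the two pullbacks is a unit
  have hu : ∀ w : (A ⊗ H).left, UnitAt w (fm (tm j).left hm F / fm (fst A H).left hf F) := by
    intro w
    have h1 := fm_unitAt (tm j).left hm (hF ((tm j).left w))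
    have h2 := fm_unitAt (fst A H).left hf (hF ((fst A H).left w))
    have hpt : o ((tm j).left w) = o ((fst A H).left w) := by
      rw [← Scheme.Hom.comp_apply, hinv, Scheme.Hom.comp_apply]
    have h3 : fm (tm j).left hm (fm o ho (b (o ((tm j).left w)))) =
        fm (fst A H).left hf (fm o ho (b (o ((fst A H).left w)))) := by
      rw [hpt, ← fm_comp (tm j).left hm o ho (by rw [Scheme.Hom.comp_apply, hm, ho]),
        ← fm_comp (fst A H).left hf o ho (by rw [Scheme.Hom.comp_apply, hf, ho])]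
      exact fm_congr _ _ hinv _ _
    have h4 := unitAt_div h1 h2
    refine unitAt_congr h4 ?_
    rw [map_mul, map_mul, map_pow, map_pow, h3]
    refine mul_div_mul_right _ _ (fun h0 => ?_)
    refine unitAt_ne_zero h2 ?_
    rw [map_mul, map_pow, h0, mul_zero]
  obtain ⟨u, hu1, hu2⟩ := exists_of_unitAt (V := ⊤) trivial (fun z _ => hu z)
  have hsA : IsSeparated A.hom := Groth.Agent.Books.AntiAffine.isSeparated_hom A
  have hsH : IsSeparated H.hom := Groth.Agent.Books.AntiAffine.isSeparated_hom H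
  obtain ⟨g, χ₀, hg, hχ₀, hgχ⟩ := Groth.Agent.S16117.result K A H u hu1
  -- translation by a rational point
  have key : ∀ h : 𝟙_ (Over (Spec (CommRingCat.of K))) ⟶ H,
      fm (rt (h ≫ j)).left (rt_η _) F = ff ⊤ trivial (g * (toUnit A ≫ h).left.appTop χ₀) * F := by
    intro h
    let s : A ⟶ A ⊗ H := lift (𝟙 A) (toUnit A ≫ h)
    have hst : s ≫ tm j = rt (h ≫ j) := lift_pt_tm j h
    have hsf : s ≫ fst A H = 𝟙 A := lift_fst _ _
    have e1 : (s.left ≫ (tm j).left) (genericPoint A.left) = genericPoint A.left := by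
      rw [← Over.comp_left, hst]; exact rt_η _
    have e2 : (s.left ≫ (fst A H).left) (genericPoint A.left) = genericPoint A.left := by
      rw [← Over.comp_left, hsf]; rfl
    have r1 := res_fm s.left (tm j).left hm e1 F
    have r2 := res_fm s.left (fst A H).left hf e2 F
    have r3 := (res_top s.left u).mul r2
    have hFf : fm (fst A H).left hf F ≠ 0 := (map_ne_zero _).mpr hF0
    rw [hu2, div_mul_cancel₀ _ hFf] at r3
    have r4 := r1.unique r3
    have r5 : fm (rt (h ≫ j)).left (rt_η _) F = fm (s.left ≫ (tm j).left) e1 F :=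
      fm_congr _ _ (by rw [← hst, Over.comp_left]) _ _
    have r6 : fm (s.left ≫ (fst A H).left) e2 F = F := by
      rw [fm_congr _ e2 (by rw [← Over.comp_left, hsf]; rfl : s.left ≫ (fst A H).left = 𝟙 A.left) rfl, fm_id]
    rw [r5, r4, r6]
    congr 2
    rw [hgχ, map_mul, ← appTop_comp, ← appTop_comp, hsf, appTop_id, lift_snd]
  have hc₀ : IsUnit (η[H].left.appTop χ₀) := hχ₀.map _
  obtain ⟨c₀, hc₀⟩ := hc₀
  have hg1 : g * (toUnit A).left.appTop (c₀ : Γ((𝟙_ (Over (Spec (CommRingCat.of K)))).left, ⊤)) = 1 := by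
    have h1 := key 1
    have h2 : fm (rt ((1 : 𝟙_ (Over (Spec (CommRingCat.of K))) ⟶ H) ≫ j)).left (rt_η _) F = F := by
      rw [fm_congr _ _ (by rw [MonObj.one_comp, rt_one]; rfl :
        (rt ((1 : 𝟙_ (Over (Spec (CommRingCat.of K))) ⟶ H) ≫ j)).left = 𝟙 A.left) rfl, fm_id]
    rw [h2] at h1
    have h3 : ff ⊤ trivial (g * (toUnit A ≫ (1 : 𝟙_ (Over (Spec (CommRingCat.of K))) ⟶ H)).left.appTop χ₀) = 1 := by
      have := mul_right_cancel₀ hF0 ((one_mul F).trans h1)
      exact this.symm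
    rw [← map_one (ff (X := A.left) ⊤ trivial)] at h3
    have h4 := ff_injective _ _ h3
    rwa [appTop_comp, ← MonObj.one_eq_one, ← hc₀] at h4
  refine ⟨χ₀ * (toUnit H).left.appTop ((c₀⁻¹ : Γ((𝟙_ (Over (Spec (CommRingCat.of K)))).left, ⊤)ˣ) : _), ?_, ?_, ?_⟩
  · exact hχ₀.mul (c₀⁻¹.isUnit.map _)
  · rw [map_mul, ← hc₀, ← appTop_comp, toUnit_unique (η[H] ≫ toUnit H) (𝟙 _), appTop_id, Units.mul_inv]
  · intro h
    rw [key h, map_mul ((toUnit A ≫ h).left.appTop.hom), ← appTop_comp, toUnit_unique ((toUnit A ≫ h) ≫ toUnit H) (toUnit A),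
      _root_.mul_comm g]
    congr 3
    have h5 : (toUnit A).left.appTop (c₀ : Γ((𝟙_ (Over (Spec (CommRingCat.of K)))).left, ⊤)) *
        (toUnit A).left.appTop ((c₀⁻¹ : Γ((𝟙_ (Over (Spec (CommRingCat.of K)))).left, ⊤)ˣ) :
          Γ((𝟙_ (Over (Spec (CommRingCat.of K)))).left, ⊤)) = 1 := by
      rw [← map_mul, Units.mul_inv, map_one]
    calc g = g * ((toUnit A).left.appTop (c₀ : Γ((𝟙_ (Over (Spec (CommRingCat.of K)))).left, ⊤)) *
        (toUnit A).left.appTop ((c₀⁻¹ : Γ((𝟙_ (Over (Spec (CommRingCat.of K)))).left, ⊤)ˣ) :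
          Γ((𝟙_ (Over (Spec (CommRingCat.of K)))).left, ⊤))) := by rw [h5, _root_.mul_one]
      _ = _ := by rw [← _root_.mul_assoc, hg1, _root_.one_mul]

end K408.RosRat
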