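import Groth.Agent.AlgGrp.K408.AlmPlan
import Groth.Agent.AlgGrp.K408.RosRat
import Groth.Agent.Div21.K172.CocOrd

/-!
# Two automorphisms acting in the same way on a maximal torus of the stabilizer

They have the same action on line bundles on the open orbit, up to torsion.
-/

set_option autoImplicit false
universe u

open CategoryTheory MonoidalCategory CartesianMonoidalCategory MonObj GrpObj AlgebraicGeometry
open Groth.Agent.Lefpen.H725.CocDef Groth.Agent.Lefpen.H521.CartierCoc K515.FF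
open Groth.Agent.Grpsch.PicGrp

namespace K408.AlmTriv

open RatRes RosRat OrbDim

section Coc

variable {X Y Z : Scheme.{u}} [IsIntegral X] [IsIntegral Y] [IsIntegral Z]

/-- A morphism of integral schemes with open nonempty image maps the generic point to the generic point. -/
theorem map_genericPoint_of_open (f : X ⟶ Y) (h : IsOpen (Set.range f.base)) :
    f (genericPoint X) = genericPoint Y := by
  have h1 := (genericPoint_spec X).image f.continuous
  have h2 : closure (f '' (Set.univ : Set X)) = Set.univ := by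
    rw [Set.image_univ]
    exact (IsOpen.dense h ⟨f (genericPoint X), genericPoint X, rfl⟩).closure_eq
  rw [h2] at h1
  exact h1.eq (genericPoint_spec Y)

theorem fm_congr_at {f g : X ⟶ Y} (h : f = g) (hf : f (genericPoint X) = genericPoint Y)
    (hg : g (genericPoint X) = genericPoint Y) (b : Y → Y.functionField) (z : X) :
    fm f hf (b (f z)) = fm g hg (b (g z)) := by
  subst h; rfl

/-- Two cocycles with the same class up to iso, expressed through the quotient. -/
theorem exists_quot {L M : X.Modules} (hL : PicF.IsInvertible L) (hM : PicF.IsInvertible M)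
    {a b : X → X.functionField} (ha : HasCoc L a) (hb : HasCoc M b) :
    ∃ (Q : X.Modules) (hQ : PicF.IsInvertible Q), HasCoc Q (fun y => a y / b y) ∧ mk Q hQ = mk L hL / mk M hM := by
  obtain ⟨Q, hQ, hQc⟩ := exists_of_loc (fun y => a y / b y) (fun y => div_ne_zero (ha.1 y) (hb.1 y)) (fun x => by
    obtain ⟨U, hxU, hU⟩ := hasCoc_loc ha x
    obtain ⟨V, hxV, hV⟩ := hasCoc_loc hb x
    refine ⟨U ⊓ V, ⟨hxU, hxV⟩, fun y hy => ?_⟩
    refine unitAt_congr (unitAt_div (hU y hy.1) (hV y hy.2)) ?_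
    have := ha.1 y; have := hb.1 y; have := hb.1 x
    field_simp)
  refine ⟨Q, hQ, hQc, ?_⟩
  rw [eq_div_iff_mul_eq'', mk_mul_mk]
  refine (mk_eq_iff _ _).mpr ?_
  refine hasCoc_iso (hasCoc_tensor hb hQc) ha 1 one_ne_zero (fun y => ?_)
  refine unitAt_congr (unitAt_one y) ?_
  have := ha.1 y; have := hb.1 y
  field_simp

end Coc

variable {K : Type u} [Field K] [IsAlgClosed K]

section

variable {A X : Over (Spec (CommRingCat.of K))} [GrpObj A] (a : AlgGrp.Action A X)
  (x : 𝟙_ (Over (Spec (CommRingCat.of K))) ⟶ X)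

theorem orbitMap_comp {σ : A ⟶ A} {d : X ⟶ X} (e : (σ ⊗ₘ d) ≫ a.act = a.act ≫ d) (hx : x ≫ d = x) :
    a.orbitMap x ≫ d = σ ≫ a.orbitMap x := by
  rw [AlgGrp.Action.orbitMap, Category.assoc, ← e, ← Category.assoc, lift_map, ← Category.assoc, comp_lift,
    Category.id_comp, Category.comp_id, Category.assoc, hx, ← Category.assoc]
  congr 3
  exact toUnit_unique _ _

theorem tm_orbitMap {H' : Over (Spec (CommRingCat.of K))} (i : H' ⟶ stab a x) :
    tm (i ≫ stabι a x) ≫ a.orbitMap x = fst A H' ≫ a.orbitMap x := by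
  rw [tm, Groth.Agent.Books.BorelOrb.comp_orbitMap, Groth.Agent.Books.BorelOrb.mul_sm, ← Category.assoc,
    comp_stabι_sm, ← Groth.Agent.Books.BorelOrb.comp_orbitMap]

/-- A rational trivialization of a power of the pullback of a line bundle to an affine group. -/
theorem exists_rational_triv [IsIntegral A.left] (hfin : Finite (Pic A.left))
    {X : Scheme.{u}} [IsIntegral X] (o : A.left ⟶ X) (ho : o (genericPoint A.left) = genericPoint X)
    {L : X.Modules} (hL : PicF.IsInvertible L) {b : X → X.functionField} (hb : HasCoc L b) :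
    ∃ (n : ℕ) (F : A.left.functionField), 1 ≤ n ∧ ∀ z : A.left, UnitAt z (F * fm o ho (b (o z)) ^ n) := by
  have := hfin
  let n := Nat.card (Pic A.left)
  have hn : 1 ≤ n := Nat.card_pos
  have h1 : (pull o (mk L hL)) ^ n = 1 := pow_card_eq_one'
  rw [pull_mk, ← mk_tensorPow, mk_eq_one_iff] at h1
  obtain ⟨F, -, hF⟩ := exists_const_of_nonempty_iso (hasCoc_pow (hasCoc_pullback o ho hb) n)
    K172.CocOrd.hasCoc_structureModule h1
  refine ⟨n, F, hn, fun z => ?_⟩
  have := hF z
  rwa [div_one] at this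

/-- Right translation by a point of the small group, on the pullback by an equivariant endomorphism. -/
theorem fm_rt_fm [IsIntegral A.left] {H' : Over (Spec (CommRingCat.of K))} [GrpObj H'] {j : H' ⟶ A}
    {s : A ⟶ A} [IsMonHom s] (hs : s.left (genericPoint A.left) = genericPoint A.left) {s' : H' ⟶ H'}
    (hj : s' ≫ j = j ≫ s) {F : A.left.functionField} {χ : Γ(H'.left, ⊤)}
    (hF : ∀ h : 𝟙_ (Over (Spec (CommRingCat.of K))) ⟶ H',
      fm (rt (h ≫ j)).left (rt_η _) F = ff ⊤ trivial ((toUnit A ≫ h).left.appTop χ) * F)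
    (h : 𝟙_ (Over (Spec (CommRingCat.of K))) ⟶ H') :
    fm (rt (h ≫ j)).left (rt_η _) (fm s.left hs F) =
      ff ⊤ trivial ((toUnit A ≫ h).left.appTop (s'.left.appTop χ)) * fm s.left hs F := by
  have h1 : rt (h ≫ j) ≫ s = s ≫ rt ((h ≫ s') ≫ j) := by
    rw [comp_rt, rt_eq, MonObj.mul_comp, Category.id_comp, Category.assoc, Category.assoc, Category.assoc, hj]
  have e1 : ((rt (h ≫ j)).left ≫ s.left) (genericPoint A.left) = genericPoint A.left := by
    rw [Scheme.Hom.comp_apply, rt_η, hs]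
  have e2 : (s.left ≫ (rt ((h ≫ s') ≫ j)).left) (genericPoint A.left) = genericPoint A.left := by
    rw [Scheme.Hom.comp_apply, hs, rt_η]
  rw [← fm_comp (rt (h ≫ j)).left (rt_η _) s.left hs e1, fm_congr _ e1 (by rw [← Over.comp_left, h1, Over.comp_left]) e2,
    fm_comp s.left hs _ (rt_η _) e2, hF, map_mul, fm_germ s.left hs ⊤ trivial trivial]
  congr 2
  change s.left.appTop ((toUnit A ≫ h ≫ s').left.appTop χ) = _
  rw [← appTop_comp, ← appTop_comp, ← Category.assoc, ← Category.assoc, toUnit_unique (s ≫ toUnit A) (toUnit A)]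

/-- **NODE D.** Two automorphisms `g₁ g₂` fixing `x`, equivariant for automorphisms `s₁ s₂` of `A` which agree on
a torus `T` of the reduced neutral component `H'` of the stabilizer of `x` such that invertible functions on `H'`
trivial at the unit and on `T` are trivial: they act in the same way on the classes of invertible modules on the
orbit, up to torsion. -/
theorem main (hG : Groth.Agent.AlgGrp.K408.AlmPlan.NodeG.{u})
    [IsAffine A.left] [Smooth A.hom] [IsIntegral A.left] (hfin : Finite (Pic A.left))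
    [IsIntegral X.left] [IsSeparated X.hom] [LocallyOfFiniteType X.hom] [QuasiCompact X.hom]
    (hop : IsOpen (Set.range ⇑(a.orbitMap x).left.base))
    {H' : Over (Spec (CommRingCat.of K))} [GrpObj H'] [Smooth H'.hom] [QuasiCompact H'.hom]
    [ConnectedSpace H'.left] (i : H' ⟶ stab a x)
    (hi : @IsMonHom _ _ _ _ _ _ (stabGrp a x).toMonObj i) (hic : IsClosedImmersion i.left)
    (hir : Set.range i.left =
      connectedComponent (Groth.Agent.Books.AlgPts.pt (@MonObj.one _ _ _ _ (stabGrp a x).toMonObj)))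
    (hij : IsMonHom (i ≫ stabι a x))
    {T : Over (Spec (CommRingCat.of K))} (t : T ⟶ H')
    (hchar : ∀ χ : Γ(H'.left, ⊤), IsUnit χ → η[H'].left.appTop χ = 1 → t.left.appTop χ = 1 → χ = 1)
    (g₁ g₂ : X ≅ X) (s₁ s₂ : A ⟶ A) [IsMonHom s₁] [IsMonHom s₂] [IsIso s₁] [IsIso s₂]
    (e₁ : (s₁ ⊗ₘ g₁.hom) ≫ a.act = a.act ≫ g₁.hom) (e₂ : (s₂ ⊗ₘ g₂.hom) ≫ a.act = a.act ≫ g₂.hom)
    (hx₁ : x ≫ g₁.hom = x) (hx₂ : x ≫ g₂.hom = x) (s₁' s₂' : H' ⟶ H') [IsMonHom s₁'] [IsMonHom s₂']
    (hj₁ : s₁' ≫ i ≫ stabι a x = (i ≫ stabι a x) ≫ s₁)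
    (hj₂ : s₂' ≫ i ≫ stabι a x = (i ≫ stabι a x) ≫ s₂) (hT : t ≫ s₁' = t ≫ s₂') (c : Pic X.left) :
    ∃ N : ℕ, 1 ≤ N ∧ ∀ U : X.left.Opens, (U : Set X.left) = Set.range ⇑(a.orbitMap x).left.base →
      pull U.ι ((pull g₁.hom.left c / pull g₂.hom.left c) ^ N) = 1 := by
  induction c using ind with | _ L hL => ?_
  have hHi : IsIntegral H'.left := Groth.Agent.Sga3B.CellDim.isIntegral_of_connected_grp H'
  have hAq : QuasiCompact A.hom := inferInstance
  obtain ⟨b, hb⟩ := exists_hasCoc hL
  set o := (a.orbitMap x).left with hodef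
  have ho : o (genericPoint A.left) = genericPoint X.left := map_genericPoint_of_open o hop
  obtain ⟨n, F, hn, hF⟩ := exists_rational_triv (A := A) hfin o ho hL hb
  have hF0 : F ≠ 0 := fun h0 => unitAt_ne_zero (hF (genericPoint A.left)) (by rw [h0, zero_mul])
  -- generic points
  have hg₁ : g₁.hom.left (genericPoint X.left) = genericPoint X.left := by
    have : IsIso g₁.hom.left := inferInstanceAs (IsIso ((Over.forget _).map g₁.hom))
    exact map_genericPoint _
  have hg₂ : g₂.hom.left (genericPoint X.left) = genericPoint X.left := by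
    have : IsIso g₂.hom.left := inferInstanceAs (IsIso ((Over.forget _).map g₂.hom))
    exact map_genericPoint _
  have hs₁ : s₁.left (genericPoint A.left) = genericPoint A.left := by
    have : IsIso s₁.left := inferInstanceAs (IsIso ((Over.forget _).map s₁))
    exact map_genericPoint _
  have hs₂ : s₂.left (genericPoint A.left) = genericPoint A.left := by
    have : IsIso s₂.left := inferInstanceAs (IsIso ((Over.forget _).map s₂))
    exact map_genericPoint _
  -- the quotient module
  obtain ⟨Q, hQ, hQc, hQe⟩ := exists_quot (Groth.Agent.Fdesc.LocGen.isInvertible_pullback g₁.hom.left hL)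
    (Groth.Agent.Fdesc.LocGen.isInvertible_pullback g₂.hom.left hL) (hasCoc_pullback g₁.hom.left hg₁ hb)
    (hasCoc_pullback g₂.hom.left hg₂ hb)
  rw [pull_mk, pull_mk, ← hQe]
  -- the rational trivialization
  have hsw : ∀ (g : X ≅ X) (s : A ⟶ A) (e : (s ⊗ₘ g.hom) ≫ a.act = a.act ≫ g.hom) (hx : x ≫ g.hom = x)
      (hg : g.hom.left (genericPoint X.left) = genericPoint X.left)
      (hs : s.left (genericPoint A.left) = genericPoint A.left) (z : A.left),
      fm o ho (fm g.hom.left hg (b (g.hom.left (o z)))) = fm s.left hs (fm o ho (b (o (s.left z)))) := by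
    intro g s e hx hg hs z
    have h1 : o ≫ g.hom.left = s.left ≫ o := by
      rw [hodef, ← Over.comp_left, orbitMap_comp a x e hx, Over.comp_left]
    rw [← fm_comp o ho g.hom.left hg (by rw [Scheme.Hom.comp_apply, ho, hg]),
      ← fm_comp s.left hs o ho (by rw [Scheme.Hom.comp_apply, hs, ho])]
    exact fm_congr_at h1 _ _ b z
  have hF' : ∀ z : A.left, UnitAt z ((fm s₁.left hs₁ F / fm s₂.left hs₂ F) *
      fm o ho ((fun y => fm g₁.hom.left hg₁ (b (g₁.hom.left y)) / fm g₂.hom.left hg₂ (b (g₂.hom.left y))) (o z)) ^ n) := by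
    intro z
    have h1 := fm_unitAt s₁.left hs₁ (hF (s₁.left z))
    have h2 := fm_unitAt s₂.left hs₂ (hF (s₂.left z))
    refine unitAt_congr (unitAt_div h1 h2) ?_
    rw [map_mul, map_mul, map_pow, map_pow]
    beta_reduce
    rw [map_div₀, hsw g₁ s₁ e₁ hx₁ hg₁ hs₁, hsw g₂ s₂ e₂ hx₂ hg₂ hs₂, div_pow, div_mul_div_comm]
  -- the character
  obtain ⟨χ, hχ1, hχ2, hχ⟩ := exists_character (i ≫ stabι a x) o ho (by
    rw [hodef, ← Over.comp_left, tm_orbitMap, Over.comp_left]) b F n hF
  have hψ : s₁'.left.appTop χ = s₂'.left.appTop χ := by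
    obtain ⟨v, hv⟩ : IsUnit (s₂'.left.appTop χ) := hχ1.map _
    have h1 : s₁'.left.appTop χ * ((v⁻¹ : Γ(H'.left, ⊤)ˣ) : Γ(H'.left, ⊤)) = 1 := by
      refine hchar _ ((hχ1.map _).mul (v⁻¹.isUnit)) ?_ ?_
      · rw [map_mul, ← appTop_comp, IsMonHom.one_hom, hχ2]
        have h2 : η[H'].left.appTop.hom v = 1 := by
          rw [hv]
          change η[H'].left.appTop (s₂'.left.appTop χ) = 1
          rw [← appTop_comp, IsMonHom.one_hom, hχ2]
        have h3 : η[H'].left.appTop.hom ((v⁻¹ : Γ(H'.left, ⊤)ˣ) : Γ(H'.left, ⊤)) = 1 := by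
          have := congrArg η[H'].left.appTop.hom (Units.mul_inv v)
          rwa [map_mul, h2, _root_.one_mul, map_one] at this
        erw [h3]
        rw [_root_.one_mul]
      · rw [map_mul, ← appTop_comp, hT, appTop_comp, ← hv]
        have := congrArg t.left.appTop.hom (Units.mul_inv v)
        rwa [map_mul, map_one] at this
    calc s₁'.left.appTop χ = s₁'.left.appTop χ * (((v⁻¹ : Γ(H'.left, ⊤)ˣ) : Γ(H'.left, ⊤)) * v) := by
          rw [Units.inv_mul, _root_.mul_one]
      _ = s₂'.left.appTop χ := by rw [← _root_.mul_assoc, h1, _root_.one_mul, hv]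
  refine hG K A X a x hop H' i hi hic hir ho Q hQ _ hQc _ n hn hF' fun h hh => ?_
  have hrt : (lift (𝟙 A) (toUnit A ≫ h ≫ i ≫ stabι a x) ≫ μ[A]).left = (rt (h ≫ i ≫ stabι a x)).left := rfl
  change fm (rt (h ≫ i ≫ stabι a x)).left hh (fm s₁.left hs₁ F / fm s₂.left hs₂ F) = _
  rw [map_div₀, fm_rt_fm hs₁ hj₁ hχ h, fm_rt_fm hs₂ hj₂ hχ h, hψ]
  refine mul_div_mul_left _ _ ?_
  exact (((hχ1.map s₂'.left.appTop.hom).map (toUnit A ≫ h).left.appTop.hom).map (ff ⊤ trivial)).ne_zero

end

end K408.AlmTriv
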