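import Groth.Agent.Sga3C.GrpIrr
import Groth.Agent.Sga3B.BcPts
import Groth.Prelude.Def_Red
import Mathlib.AlgebraicGeometry.Geometrically.Irreducible

/-!
# Base change of connected groups along field extensions
-/

set_option autoImplicit false

universe u

open CategoryTheory MonoidalCategory CartesianMonoidalCategory MonObj GrpObj AlgebraicGeometry Limits

namespace Groth.Agent.AlgGrp.K408.BcField

variable {k K : Type u} [Field k] [Field K] (f : Spec (CommRingCat.of K) ⟶ Spec (CommRingCat.of k))
  (G : Over (Spec (CommRingCat.of k)))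

theorem connectedSpace_bc [GrpObj G] [LocallyOfFiniteType G.hom] [ConnectedSpace G.left] :
    ConnectedSpace (Red.bc f G).left := by
  have : GrpObj (Over.mk G.hom) := ‹GrpObj G›
  have : GeometricallyIrreducible G.hom :=
    Groth.Agent.Sga3C.GrpIrr.geometricallyIrreducible_of_connectedSpace G.hom
  have h2 : GeometricallyIrreducible (pullback.snd G.hom f) := inferInstance
  have h3 : IrreducibleSpace ↥(pullback G.hom f) :=
    GeometricallyIrreducible.irreducibleSpace_of_subsingleton (pullback.snd G.hom f)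
  exact inferInstanceAs (ConnectedSpace ↥(pullback G.hom f))

theorem smooth_bc [Smooth G.hom] : Smooth (Red.bc f G).hom :=
  inferInstanceAs (Smooth (pullback.snd G.hom f))

theorem quasiCompact_bc [QuasiCompact G.hom] : QuasiCompact (Red.bc f G).hom :=
  inferInstanceAs (QuasiCompact (pullback.snd G.hom f))

theorem flat_spec (φ : k →+* K) : Flat (Spec.map (CommRingCat.ofHom φ)) := by
  algebraize [φ]
  rw [Flat.SpecMap_iff]
  exact RingHom.flat_algebraMap_iff.mpr inferInstance

theorem surjective_spec (f : Spec (CommRingCat.of K) ⟶ Spec (CommRingCat.of k)) : Surjective f := by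
  constructor
  intro x
  exact ⟨IsLocalRing.closedPoint K, Subsingleton.elim _ _⟩

section kernel

open Groth.Agent.Sga3B.BcPts

variable {S : Scheme.{u}}

/-- points of a kernel -/
theorem isKernel_iff {N G H : Over S} [GrpObj H] (i : N ⟶ G) (u : G ⟶ H) :
    AlgGrp.IsKernel i u ↔ i ≫ u = 1 ∧ ∀ (T : Over S) (g : T ⟶ G), g ≫ u = 1 → ∃! y : T ⟶ N, y ≫ i = g := by
  constructor
  · intro h
    refine ⟨h.w, fun T g hg => ⟨h.lift g (toUnit T) hg, h.lift_fst _ _ _, fun y hy => ?_⟩⟩
    exact h.hom_ext (by rw [h.lift_fst]; exact hy) (toUnit_unique _ _)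
  · rintro ⟨h1, h2⟩
    have h3 : ∀ s : PullbackCone u η[H], s.fst ≫ u = 1 := fun s => by
      rw [s.condition, toUnit_unique s.snd (toUnit _)]; rfl
    choose l hl hl' using h2
    refine ⟨⟨h1⟩, ⟨PullbackCone.IsLimit.mk _ (fun s => l s.pt s.fst (h3 s)) ?_ ?_ ?_⟩⟩
    · intro s
      exact hl _ _ (h3 s)
    · intro s
      exact toUnit_unique _ _
    · intro s m hm _
      exact hl' _ _ (h3 s) m hm

theorem isKernel_bc {S' : Scheme.{u}} (t : S' ⟶ S) {N G H : Over S} [GrpObj H] {i : N ⟶ G} {u : G ⟶ H}
    (h : AlgGrp.IsKernel i u) :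
    AlgGrp.IsKernel (Q := Red.bc t H) ((Over.pullback t).map i) ((Over.pullback t).map u) := by
  rw [isKernel_iff] at h ⊢
  obtain ⟨h1, h2⟩ := h
  refine ⟨?_, fun T g hg => ?_⟩
  · rw [← Functor.map_comp, h1, Functor.map_one]
  · have h3 : (bcEquiv t T G).symm g ≫ u = 1 := by
      rw [← bcEquiv_symm_comp, hg]
      exact (bcEquiv t T H).symm_apply_eq.mpr (bcEquiv_one t).symm
    obtain ⟨y, hy, hy'⟩ := h2 _ _ h3
    refine ⟨bcEquiv t T N y, ?_, fun y' h' => ?_⟩
    · change bcEquiv t T N y ≫ (Over.pullback t).map i = g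
      rw [← bcEquiv_comp, hy, Equiv.apply_symm_apply]
    · have h4 := hy' ((bcEquiv t T N).symm y') (by
        change (bcEquiv t T N).symm y' ≫ i = (bcEquiv t T G).symm g
        rw [← bcEquiv_symm_comp, show y' ≫ (Over.pullback t).map i = g from h'])
      rw [← h4, Equiv.apply_symm_apply]

end kernel

section props

variable {S S' : Scheme.{u}} (t : S' ⟶ S) {X Y : Over S} (f : X ⟶ Y)

theorem isPullback_bc_left :
    IsPullback (pullback.fst X.hom t) ((Over.pullback t).map f).left f.left (pullback.fst Y.hom t) := by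
  have hw : f.left ≫ Y.hom = X.hom := Over.w f
  have h2 : IsPullback (pullback.fst X.hom t) (pullback.snd X.hom t) (f.left ≫ Y.hom) t := by
    rw [hw]
    exact IsPullback.of_hasPullback X.hom t
  have h1 : pullback.fst X.hom t ≫ f.left =
      ((Over.pullback t).map f).left ≫ pullback.fst Y.hom t :=
    (pullback.lift_fst _ _ _).symm
  have h3 : ((Over.pullback t).map f).left ≫ pullback.snd Y.hom t = pullback.snd X.hom t :=
    pullback.lift_snd _ _ _
  refine IsPullback.of_bot (h₂₁ := pullback.fst Y.hom t) (v₂₁ := pullback.snd Y.hom t)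
    (v₂₂ := Y.hom) (h₃₁ := t) ?_ h1 (IsPullback.of_hasPullback Y.hom t)
  rw [h3]
  exact h2

theorem bc_of (P : MorphismProperty Scheme.{u}) [P.IsStableUnderBaseChange] (h : P f.left) :
    P ((Over.pullback t).map f).left :=
  MorphismProperty.of_isPullback (isPullback_bc_left t f) h

end props

end Groth.Agent.AlgGrp.K408.BcField
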