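import Groth.Agent.AlgGrp.K408.TorCrit
import Groth.Agent.S3030
import Groth.Agent.AlgGrp.K408.BcField
import Groth.Agent.S1128
import Groth.Agent.FlatB.GeomRed

/-!
# The largest torus quotient of a connected algebraic group
-/

set_option autoImplicit false

universe u

open CategoryTheory MonoidalCategory CartesianMonoidalCategory MonObj GrpObj AlgebraicGeometry Limits

namespace Groth.Agent.AlgGrp.K408.CharTor

open Books.AlgPts Books.AlgPtsGrp Sga3.H794.FinPts Sga3.H794.ChevKer Sga3.H794.ChevStep Sga3.H794.ChevAff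
open SemiComm TorCrit

variable {K : Type u} [Field K] [IsAlgClosed K]

/-- `H` is the kernel of a flat surjective homomorphism from `G` onto a split torus. -/
def TorKer {G H : Over (Spec (CommRingCat.of K))} [GrpObj G] (h : H ⟶ G) : Prop :=
  ∃ (r : ℕ) (T : Over (Spec (CommRingCat.of K))) (_ : GrpObj T) (_ : Red.IsSplitTorusWith (Fin r → ℤ) T)
    (q : G ⟶ T), IsMonHom q ∧ Flat q.left ∧ Surjective q.left ∧ AlgGrp.IsKernel h q

/-- The reduced identity component of the kernel of a surjection onto a torus is of the same kind. -/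
theorem torKer_redIdComp {G H U : Over (Spec (CommRingCat.of K))} [GrpObj G] [GrpObj H] [GrpObj U]
    [Smooth G.hom] [QuasiCompact G.hom] [ConnectedSpace G.left] (h : H ⟶ G) [IsMonHom h] (hT : TorKer h)
    (u : U ⟶ H) [IsMonHom u] [IsClosedImmersion u.left] [Smooth U.hom] [ConnectedSpace U.left]
    (hu : Set.range u.left = connectedComponent (pt η[H])) : TorKer (u ≫ h) := by
  obtain ⟨r, T, _, hTs, q, hq1, hq2, hq3, hq4⟩ := hT
  have hT' := isTorus_of_split hTs
  have hTsm : Smooth T.hom := Sga3B.TorusAlgClosed.smooth_of_isTorus hT'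
  have hTsep : IsSeparated T.hom := Books.AntiAffine.isSeparated_hom T
  have hcl : IsClosedImmersion h.left := isClosedImmersion_ker h q hq4
  have hHlft : LocallyOfFiniteType H.hom := by rw [← Over.w h]; infer_instance
  have hHqc : QuasiCompact H.hom := by rw [← Over.w h]; infer_instance
  have hUn := Sga3.H794.RedIdNormal.isNormalHom_of_redIdComp h (isNormalHom_ker h q hq4) u hu
  have huh : IsClosedImmersion (u ≫ h).left := by rw [Over.comp_left]; infer_instance
  have huhm : Mono (u ≫ h) := mono_of_isClosedImmersion _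
  obtain ⟨E, _, p, hp1, hp2, hp3, hp4, hp5, hp6, hp7, hp8⟩ := S3030.result K U G (u ≫ h) hUn
  have hEs : Smooth E.hom := hp8 inferInstance
  have hEc : ConnectedSpace E.left := p.left.surjective.connectedSpace p.left.continuous
  have hEqc : QuasiCompact E.hom := quasiCompact_of_surjective p
  obtain ⟨t, ht1, ht2⟩ := exists_desc_hom (u ≫ h) p hp5 q (by
    rw [Category.assoc]
    have := ker_comp hq4 u
    rwa [Category.assoc] at this)
  have hfin : {x : 𝟙_ (Over (Spec (CommRingCat.of K))) ⟶ E | x ≫ t = 1}.Finite := by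
    refine (finite_range u hu (fun y : 𝟙_ (Over (Spec (CommRingCat.of K))) ⟶ H => y ≫ h ≫ p) ?_).subset ?_
    · rintro x y ⟨w, hw⟩
      have h1 : (x * y⁻¹) ≫ h ≫ p = 1 := by
        have h2 := ker_comp hp5 w
        rw [← hw]
        simpa only [Category.assoc] using h2
      rw [MonObj.mul_comp, GrpObj.inv_comp] at h1
      exact mul_inv_eq_one.mp h1
    · intro x hx
      have hx' : x ≫ t = 1 := hx
      obtain ⟨g, rfl⟩ := ExtComm.exists_pt_lift p x
      rw [Category.assoc, ht2] at hx'
      obtain ⟨y, rfl⟩ := exists_lift_ker hq4 g hx'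
      exact ⟨y, (Category.assoc _ _ _).symm⟩
  obtain ⟨r', hE⟩ := exists_split_of_finite hT' t hfin
  exact ⟨r', E, _, hE, p, hp1, hp2, hp3, hp5⟩

/-- The kernel of a character of a smooth connected kernel of a surjection onto a torus is of the same kind. -/
theorem torKer_char {G H N : Over (Spec (CommRingCat.of K))} [GrpObj G] [GrpObj H] [GrpObj N]
    [Smooth G.hom] [QuasiCompact G.hom] [ConnectedSpace G.left] [Smooth H.hom] [ConnectedSpace H.left]
    (h : H ⟶ G) [IsMonHom h] (hT : TorKer h) (χ : H ⟶ Red.Gm (Spec (CommRingCat.of K))) [IsMonHom χ]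
    (n : N ⟶ H) [IsMonHom n] (hN : AlgGrp.IsKernel n χ) : TorKer (n ≫ h) := by
  obtain ⟨r, T, _, hTs, q, hq1, hq2, hq3, hq4⟩ := hT
  have hT' := isTorus_of_split hTs
  have hTsm : Smooth T.hom := Sga3B.TorusAlgClosed.smooth_of_isTorus hT'
  have hTsep : IsSeparated T.hom := Books.AntiAffine.isSeparated_hom T
  have hGmT : Red.IsTorus (Red.Gm (Spec (CommRingCat.of K))) := Sga3B.BorSpan613.isTorus_Gm _
  have hGmsep : IsSeparated (Red.Gm (Spec (CommRingCat.of K))).hom := Books.AntiAffine.isSeparated_hom _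
  have hcl : IsClosedImmersion h.left := isClosedImmersion_ker h q hq4
  have hncl : IsClosedImmersion n.left := isClosedImmersion_ker n χ hN
  have hhm : Mono h := mono_of_isClosedImmersion _
  have hnm : Mono n := mono_of_isClosedImmersion _
  have hHqc : QuasiCompact H.hom := by rw [← Over.w h]; infer_instance
  have hNlft : LocallyOfFiniteType N.hom := by rw [← Over.w n]; infer_instance
  have hNqc : QuasiCompact N.hom := by rw [← Over.w n]; infer_instance
  have hnh : IsClosedImmersion (n ≫ h).left := by rw [Over.comp_left]; infer_instance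
  have hnhm : Mono (n ≫ h) := mono_of_isClosedImmersion _
  have hHn := isNormalHom_ker h q hq4
  have hNn : AlgGrp.IsNormalHom (n ≫ h) := by
    intro S g x
    obtain ⟨y, hy⟩ := hHn S g (x ≫ n)
    have h1 : y ≫ χ = (x ≫ n) ≫ χ := CharUnit.char_conj h hHn χ g (x ≫ n) y hy.symm
    have h2 : (x ≫ n) ≫ χ = 1 := ker_comp hN x
    obtain ⟨z, hz⟩ := exists_lift_ker hN y (h1.trans h2)
    refine ⟨z, ?_⟩
    rw [← Category.assoc z, hz, ← hy, Category.assoc]
  obtain ⟨E, _, p, hp1, hp2, hp3, hp4, hp5, hp6, hp7, hp8⟩ := S3030.result K N G (n ≫ h) hNn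
  have hEs : Smooth E.hom := hp8 inferInstance
  have hEc : ConnectedSpace E.left := p.left.surjective.connectedSpace p.left.continuous
  have hEqc : QuasiCompact E.hom := quasiCompact_of_surjective p
  obtain ⟨t, ht1, ht2⟩ := exists_desc_hom (n ≫ h) p hp5 q (by
    rw [Category.assoc]
    have := ker_comp hq4 n
    rwa [Category.assoc] at this)
  have htf : Flat t.left := by
    have : Flat (p.left ≫ t.left) := by rw [← Over.comp_left, ht2]; exact hq2
    exact S1128.result p.left t.left
  have hts : Surjective t.left := by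
    have : Surjective (p.left ≫ t.left) := by rw [← Over.comp_left, ht2]; exact hq3
    exact Surjective.of_comp p.left t.left
  -- the kernel of `t`
  obtain ⟨M, _, m, hm1, hm2⟩ := Grpsch.KerMul.exists_kernel t
  have hmcl : IsClosedImmersion m.left := isClosedImmersion_ker m t hm2
  have hmm : Mono m := mono_of_isClosedImmersion _
  have hMlft : LocallyOfFiniteType M.hom := by rw [← Over.w m]; infer_instance
  have hMqc : QuasiCompact M.hom := by rw [← Over.w m]; infer_instance
  obtain ⟨h', hh'⟩ := exists_lift_ker hm2 (h ≫ p) (by rw [Category.assoc, ht2]; simpa using ker_comp hq4 (𝟙 H))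
  have hh'm : IsMonHom h' := by
    have : IsMonHom (h' ≫ m) := by rw [hh']; infer_instance
    exact Sga3C.SubGrp.isMonHom_of_comp_mono h' m
  have hpb : IsPullback h h' p m := by
    have h1 : IsPullback h (toUnit H) (p ≫ t) η[T] := by rw [ht2]; exact hq4
    have h2 : IsPullback m (toUnit M) t η[T] := hm2
    have h3 : IsPullback h (h' ≫ toUnit M) (p ≫ t) η[T] := by
      rw [toUnit_unique (h' ≫ toUnit M) (toUnit H)]; exact h1
    exact IsPullback.of_bot h3 hh'.symm h2
  have hh'f : Flat h'.left :=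
    MorphismProperty.of_isPullback (P := @Flat) (hpb.map (Over.forget _)) hp2
  have hh's : Surjective h'.left :=
    MorphismProperty.of_isPullback (P := @Surjective) (hpb.map (Over.forget _)) hp3
  have hh'p : LocallyOfFinitePresentation h'.left :=
    MorphismProperty.of_isPullback (P := @LocallyOfFinitePresentation) (hpb.map (Over.forget _)) hp4
  have hMc : ConnectedSpace M.left := h'.left.surjective.connectedSpace h'.left.continuous
  have hHred : IsReduced H.left := Books.AlgPtsSmooth.isReduced_of_smooth H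
  have hMred : IsReduced M.left := FlatB.GeomRed.isReduced_of_flat_of_surjective h'.left
  have hMs : Smooth M.hom := Books.AlgPtsSmooth.smooth_of_isReduced M
  -- the kernel of `h'` is `N`
  have hNh' : AlgGrp.IsKernel n h' := by
    have h1 : IsPullback (n ≫ h) (toUnit N) p η[E] := hp5
    have h2 : IsPullback (n ≫ h) (toUnit N) p (η[M] ≫ m) := by rw [IsMonHom.one_hom]; exact h1
    have h3 : n ≫ h' = toUnit N ≫ η[M] := by
      rw [← cancel_mono m, Category.assoc, hh', Category.assoc, IsMonHom.one_hom, ← h1.w, Category.assoc]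
    exact IsPullback.of_right h2 h3 hpb
  obtain ⟨χ', hχ1, hχ2⟩ := exists_desc_hom n h' hNh' χ (by simpa using ker_comp hN (𝟙 N))
  have hfin : {x : 𝟙_ (Over (Spec (CommRingCat.of K))) ⟶ M | x ≫ χ' = 1}.Finite := by
    refine (Set.finite_singleton 1).subset ?_
    intro x hx
    have hx' : x ≫ χ' = 1 := hx
    obtain ⟨y, rfl⟩ := ExtComm.exists_pt_lift h' x
    rw [Category.assoc, hχ2] at hx'
    obtain ⟨z, rfl⟩ := exists_lift_ker hN y hx'
    exact ker_comp hNh' z
  obtain ⟨s, hM⟩ := exists_split_of_finite hGmT χ' hfin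
  obtain ⟨r', hE⟩ := exists_split_of_ext (isTorus_of_split hM) hT' m t hm2
  exact ⟨r', E, _, hE, p, hp1, hp2, hp3, hp5⟩

/-- The trivial group is a split torus. -/
theorem exists_split_unit : ∃ r : ℕ, Red.IsSplitTorusWith (Fin r → ℤ) (𝟙_ (Over (Spec (CommRingCat.of K)))) := by
  have h1 : IsAffine (𝟙_ (Over (Spec (CommRingCat.of K)))).left := inferInstanceAs (IsAffine (Spec (CommRingCat.of K)))
  have h2 : Smooth (𝟙_ (Over (Spec (CommRingCat.of K)))).hom := inferInstanceAs (Smooth (𝟙 (Spec (CommRingCat.of K))))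
  have h3 : ConnectedSpace (𝟙_ (Over (Spec (CommRingCat.of K)))).left :=
    inferInstanceAs (ConnectedSpace (Spec (CommRingCat.of K)))
  have h4 : IsCommMonObj (𝟙_ (Over (Spec (CommRingCat.of K)))) := ⟨toUnit_unique _ _⟩
  refine exists_split fun j hj hjc => ?_
  have hjm : Mono j := mono_of_isClosedImmersion j
  have h5 := infinite_ga (K := K)
  have h6 : Subsingleton (𝟙_ (Over (Spec (CommRingCat.of K))) ⟶ Red.Ga (Spec (CommRingCat.of K))) := by
    refine ⟨fun x y => ?_⟩
    rw [← cancel_mono j]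
    exact toUnit_unique _ _
  exact not_finite (𝟙_ (Over (Spec (CommRingCat.of K))) ⟶ Red.Ga (Spec (CommRingCat.of K)))

theorem torKer_id (G : Over (Spec (CommRingCat.of K))) [GrpObj G] [Smooth G.hom] : TorKer (𝟙 G) := by
  obtain ⟨r, hr⟩ := exists_split_unit (K := K)
  have h0 : (toUnit G).left = G.hom := by
    have := Over.w (toUnit G)
    exact (Category.comp_id _).symm.trans this
  refine ⟨r, 𝟙_ _, inferInstance, hr, toUnit G, inferInstance, ?_, ?_, ?_⟩
  · rw [h0]; infer_instance
  · rw [h0]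
    have : Surjective ((η[G] : 𝟙_ (Over (Spec (CommRingCat.of K))) ⟶ G).left ≫ G.hom) := by
      rw [Over.w]
      exact inferInstanceAs (Surjective (𝟙 (Spec (CommRingCat.of K))))
    exact Surjective.of_comp (η[G] : 𝟙_ (Over (Spec (CommRingCat.of K))) ⟶ G).left G.hom
  · rw [BcField.isKernel_iff]
    refine ⟨toUnit_unique _ _, fun T g _ => ⟨g, Category.comp_id g, fun y hy => ?_⟩⟩
    exact (Category.comp_id y).symm.trans hy

/-- **The largest torus quotient.** -/
theorem main (G : Over (Spec (CommRingCat.of K))) [GrpObj G] [Smooth G.hom] [QuasiCompact G.hom] [ConnectedSpace G.left] :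
    ∃ (r : ℕ) (T : Over (Spec (CommRingCat.of K))) (_ : GrpObj T) (_ : Red.IsSplitTorusWith (Fin r → ℤ) T)
      (q : G ⟶ T) (_ : IsMonHom q) (H : Over (Spec (CommRingCat.of K))) (_ : GrpObj H) (h : H ⟶ G) (_ : IsMonHom h),
      Flat q.left ∧ Surjective q.left ∧ AlgGrp.IsKernel h q ∧ ConnectedSpace H.left ∧
      (∀ χ : G ⟶ Red.Gm (Spec (CommRingCat.of K)), IsMonHom χ →
        ∃ χ' : T ⟶ Red.Gm (Spec (CommRingCat.of K)), IsMonHom χ' ∧ q ≫ χ' = χ) ∧
      (∀ ψ : H ⟶ Red.Gm (Spec (CommRingCat.of K)), IsMonHom ψ → ψ = 1) := by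
  have hnoe : IsLocallyNoetherian G.left := LocallyOfFiniteType.isLocallyNoetherian G.hom
  have hcs : CompactSpace G.left := QuasiCompact.compactSpace_of_compactSpace G.hom
  have hN : IsNoetherian G.left := {}
  have hNS : TopologicalSpace.NoetherianSpace G.left := inferInstance
  have hGsep : IsSeparated G.hom := Books.AntiAffine.isSeparated_hom G
  let P : Set (TopologicalSpace.Closeds G.left) := {Z | ∃ (H : Over (Spec (CommRingCat.of K))) (_ : GrpObj H)
    (h : H ⟶ G), IsMonHom h ∧ IsClosedImmersion h.left ∧ Smooth H.hom ∧ ConnectedSpace H.left ∧ TorKer h ∧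
      Set.range h.left = (Z : Set G.left)}
  have hP : P.Nonempty := ⟨⟨Set.univ, isClosed_univ⟩, G, inferInstance, 𝟙 G, inferInstance,
    inferInstanceAs (IsClosedImmersion (𝟙 G.left)), inferInstance, inferInstance, torKer_id G,
    Set.range_eq_univ.mpr fun x => ⟨x, rfl⟩⟩
  obtain ⟨Z, hZ, hmin⟩ := WellFounded.has_min (wellFounded_lt (α := TopologicalSpace.Closeds G.left)) P hP
  obtain ⟨H, _, h, hh1, hh2, hh3, hh4, hh5, hh6⟩ := hZ
  obtain ⟨r, T, _, hTs, q, hq1, hq2, hq3, hq4⟩ := id hh5
  have hhm : Mono h := mono_of_isClosedImmersion h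
  have hψ : ∀ ψ : H ⟶ Red.Gm (Spec (CommRingCat.of K)), IsMonHom ψ → ψ = 1 := by
    intro ψ hψ
    have hGmsep : IsSeparated (Red.Gm (Spec (CommRingCat.of K))).hom := Books.AntiAffine.isSeparated_hom _
    have hGmsm : Smooth (Red.Gm (Spec (CommRingCat.of K))).hom :=
      Sga3B.TorusAlgClosed.smooth_of_isTorus (Sga3B.BorSpan613.isTorus_Gm _)
    obtain ⟨N, _, n, hn1, hn2⟩ := Grpsch.KerMul.exists_kernel ψ
    have hncl : IsClosedImmersion n.left := isClosedImmersion_ker n ψ hn2
    have hNlft : LocallyOfFiniteType N.hom := by rw [← Over.w n]; infer_instance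
    obtain ⟨U, _, u, hu1, hu2, hu3, hu4, hu5⟩ := Sga3B.RedIdComp.exists_redIdComp N
    have h1 : TorKer (n ≫ h) := torKer_char h hh5 ψ n hn2
    have h2 : TorKer (u ≫ n ≫ h) := torKer_redIdComp (n ≫ h) h1 u hu5
    have h3 : IsClosedImmersion (u ≫ n ≫ h).left := by
      rw [Over.comp_left, Over.comp_left]; infer_instance
    let Z' : TopologicalSpace.Closeds G.left :=
      ⟨Set.range (u ≫ n ≫ h).left, (u ≫ n ≫ h).left.isClosedEmbedding.isClosed_range⟩
    have h4 : Z' ∈ P := ⟨U, inferInstance, u ≫ n ≫ h, inferInstance, h3, hu3, hu4, h2, rfl⟩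
    have h5 : Z' ≤ Z := by
      rw [← SetLike.coe_subset_coe]
      change Set.range (u ≫ n ≫ h).left ⊆ (Z : Set G.left)
      rw [← hh6]
      rintro _ ⟨x, rfl⟩
      exact ⟨(u ≫ n).left x, by simp⟩
    have h6 : Z' = Z := by
      by_contra hne
      exact hmin Z' h4 (lt_of_le_of_ne h5 hne)
    refine K718.KPts.hom_ext_pt fun y => ?_
    have h7 : pt (y ≫ h) ∈ Set.range (u ≫ n ≫ h).left := by
      change pt (y ≫ h) ∈ (Z' : Set G.left)
      rw [h6, ← hh6, pt_comp]
      exact ⟨_, rfl⟩
    have hUlft : LocallyOfFiniteType U.hom := inferInstance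
    obtain ⟨w, hw⟩ := exists_comp_eq_of_pt_mem_range (u ≫ n ≫ h) (y ≫ h) h7
    have h8 : (w ≫ u) ≫ n = y := by
      rw [← cancel_mono h, ← hw]
      simp only [Category.assoc]
    rw [← h8, MonObj.comp_one]
    exact ker_comp hn2 (w ≫ u)
  refine ⟨r, T, inferInstance, hTs, q, hq1, H, inferInstance, h, hh1, hq2, hq3, hq4, hh4, ?_, hψ⟩
  intro χ hχ
  have hT' := isTorus_of_split hTs
  have hTsm : Smooth T.hom := Sga3B.TorusAlgClosed.smooth_of_isTorus hT'
  have hTa : IsAffineHom T.hom := Sga3B.TorusAlgClosed.isAffineHom_of_isTorus hT'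
  have hGmT := Sga3B.BorSpan613.isTorus_Gm (Spec (CommRingCat.of K))
  have hGmsm : Smooth (Red.Gm (Spec (CommRingCat.of K))).hom := Sga3B.TorusAlgClosed.smooth_of_isTorus hGmT
  have hGma : IsAffineHom (Red.Gm (Spec (CommRingCat.of K))).hom := Sga3B.TorusAlgClosed.isAffineHom_of_isTorus hGmT
  have h1 : h ≫ χ = 1 := hψ (h ≫ χ) inferInstance
  obtain ⟨χ', hχ1, hχ2, -⟩ := S3280.result K G H T _ q h hq4 χ (by rw [h1]; rfl)
  exact ⟨χ', hχ1, hχ2⟩

end Groth.Agent.AlgGrp.K408.CharTor
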