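import Groth.Agent.AlgGrp.K408.TorsQAff
import Groth.Agent.AlgGrp.K408.AssocAff

/-!
# Associated bundles with quasi-projective fibre

`IsProj` : an equivariant cover `π : C ⟶ Q` with functions on `C` embedding `Q` in a projective representation.
`exists_assoc` : the associated bundle of a principal bundle exists for such a fibre.
-/

set_option autoImplicit false

universe u

open CategoryTheory CategoryTheory.Limits MonoidalCategory CartesianMonoidalCategory MonObj GrpObj AlgebraicGeometry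
open Groth.Agent.Books.BorelOrb
open Groth.Agent.AlgGrp.K408.InvSch Groth.Agent.AlgGrp.K408.OpenSub
open _root_.K408.Assoc

namespace Groth.Agent.AlgGrp.K408.TorsProj

variable {B : Scheme.{u}} {G Q C : Over B} [GrpObj G]

/-- an equivariant projective presentation -/
structure IsProj (b : AlgGrp.Action G Q) (e : AlgGrp.Action G C) (π : C ⟶ Q) {n : ℕ} (cf : Fin n → Γ(C.left, ⊤))
    (ρ : Fin n → Fin n → Γ(G.left, ⊤)) : Prop where
  equiv : e.act ≫ π = (G ◁ π) ≫ b.act
  one : ∀ (T : Over B) (j l : Fin n), ev (1 : T ⟶ G) (ρ j l) = if j = l then 1 else 0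
  mul : ∀ (T : Over B) (g h : T ⟶ G) (j l : Fin n), ev (g * h) (ρ j l) = ∑ r, ev g (ρ j r) * ev h (ρ r l)
  act : ∀ (T : Over B) (g : T ⟶ G) (c : T ⟶ C) (j : Fin n), ev (sm e g c) (cf j) = ∑ l, ev g (ρ j l) * ev c (cf l)
  cover : ∀ x : C.left, ∃ j, x ∈ C.left.basicOpen (cf j)
  lam : ∀ (T : Over B) (c c' : T ⟶ C), c ≫ π = c' ≫ π →
    ∃ r : (Γ(T.left, ⊤))ˣ, ∀ j, ev c' (cf j) = r * ev c (cf j)
  sep : ∀ (T : Over B) (c c' : T ⟶ C) (r : (Γ(T.left, ⊤))ˣ), (∀ j, ev c' (cf j) = r * ev c (cf j)) → c ≫ π = c' ≫ π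

variable {b : AlgGrp.Action G Q} {e : AlgGrp.Action G C} {π : C ⟶ Q} {n : ℕ} {cf : Fin n → Γ(C.left, ⊤)}
  {ρ : Fin n → Fin n → Γ(G.left, ⊤)} {X Y : Over B} {a : AlgGrp.Action G X} {f : X ⟶ Y}

theorem exists_F (hsq : IsPullback a.act (snd G X) f f) [IsAffine X.left] [IsAffine Y.left]
    [IsAffine (G ⊗ X).left] [Flat f.left] (h : IsProj b e π cf ρ) :
    ∃ (I : Type u) (_ : Finite I) (F : I → Γ((X ⊗ C).left, ⊤)),
      (∀ i, ev (prodAct a e).act (F i) = ev (snd G (X ⊗ C)) (F i)) ∧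
      (∀ (T : Over B) (t t' : T ⟶ X ⊗ C), t ≫ (X ◁ π) = t' ≫ (X ◁ π) →
        ∃ r : (Γ(T.left, ⊤))ˣ, ∀ i, ev t' (F i) = r * ev t (F i)) ∧
      (∀ (T : Over B) (t t' : T ⟶ X ⊗ C), (t ≫ (X ◁ π)) ≫ fst X Q = (t' ≫ (X ◁ π)) ≫ fst X Q →
        ∀ r : (Γ(T.left, ⊤))ˣ, (∀ i, ev t' (F i) = r * ev t (F i)) → t ≫ (X ◁ π) = t' ≫ (X ◁ π)) ∧
      ∀ y : (X ⊗ C).left, ∃ i, y ∈ (X ⊗ C).left.basicOpen (F i) := by
  classical
  obtain ⟨I, hI, m, bb, hm, hb⟩ := exists_inv hsq ρ h.one h.mul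
  obtain ⟨F, hF⟩ : ∃ F : I → Γ((X ⊗ C).left, ⊤), ∀ (T : Over B) (t : T ⟶ X ⊗ C) (i : I),
      ev t (F i) = ∑ l, ev (t ≫ fst X C) (m i l) * ev (t ≫ snd X C) (cf l) := by
    refine ⟨fun i => ∑ l, ev (fst X C) (m i l) * ev (snd X C) (cf l), fun T t i => ?_⟩
    rw [map_sum]
    refine Finset.sum_congr rfl fun l _ => ?_
    rw [map_mul, ← ev_comp, ← ev_comp]
  have hrec : ∀ (T : Over B) (t : T ⟶ X ⊗ C) (j : Fin n),
      ∑ i, ev (t ≫ fst X C) (bb j i) * ev t (F i) = ev (t ≫ snd X C) (cf j) := by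
    intro T t j
    have h1 : ∀ l, ∑ i, ev (t ≫ fst X C) (bb j i) * ev (t ≫ fst X C) (m i l) = if j = l then 1 else 0 := by
      intro l
      rw [← map_one (ev (t ≫ fst X C)), ← map_zero (ev (t ≫ fst X C)), ← apply_ite (ev (t ≫ fst X C)), ← hb, map_sum]
      exact Finset.sum_congr rfl fun i _ => (map_mul _ _ _).symm
    calc ∑ i, ev (t ≫ fst X C) (bb j i) * ev t (F i)
        = ∑ i, ∑ l, ev (t ≫ fst X C) (bb j i) * ev (t ≫ fst X C) (m i l) * ev (t ≫ snd X C) (cf l) := by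
          refine Finset.sum_congr rfl fun i _ => ?_
          rw [hF, Finset.mul_sum]
          exact Finset.sum_congr rfl fun l _ => (_root_.mul_assoc _ _ _).symm
      _ = ∑ l, (∑ i, ev (t ≫ fst X C) (bb j i) * ev (t ≫ fst X C) (m i l)) * ev (t ≫ snd X C) (cf l) := by
          rw [Finset.sum_comm]
          exact Finset.sum_congr rfl fun l _ => (Finset.sum_mul _ _ _).symm
      _ = ∑ l, (if j = l then 1 else 0) * ev (t ≫ snd X C) (cf l) := by
          exact Finset.sum_congr rfl fun l _ => by rw [h1]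
      _ = ev (t ≫ snd X C) (cf j) := by simp
  refine ⟨ULift.{u} I, inferInstance, fun i => F i.down, ?_, ?_, ?_, ?_⟩
  · rintro ⟨i⟩
    change ev (prodAct a e).act (F i) = ev (snd G (X ⊗ C)) (F i)
    rw [hF, hF]
    have h1 : (prodAct a e).act ≫ fst X C = sm a (fst G (X ⊗ C)) (snd G (X ⊗ C) ≫ fst X C) := by
      rw [prodAct_fst, sm]; congr 1
    have h2 : (prodAct a e).act ≫ snd X C = sm e (fst G (X ⊗ C)) (snd G (X ⊗ C) ≫ snd X C) := by
      rw [prodAct_snd, sm]; congr 1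
    rw [h1, h2]
    calc ∑ l, ev (sm a (fst G (X ⊗ C)) (snd G (X ⊗ C) ≫ fst X C)) (m i l) *
          ev (sm e (fst G (X ⊗ C)) (snd G (X ⊗ C) ≫ snd X C)) (cf l)
        = ∑ l, ∑ r, ev (sm a (fst G (X ⊗ C)) (snd G (X ⊗ C) ≫ fst X C)) (m i l) *
          ev (fst G (X ⊗ C)) (ρ l r) * ev (snd G (X ⊗ C) ≫ snd X C) (cf r) := by
          refine Finset.sum_congr rfl fun l _ => ?_
          rw [h.act, Finset.mul_sum]
          exact Finset.sum_congr rfl fun r _ => (_root_.mul_assoc _ _ _).symm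
      _ = ∑ r, (∑ l, ev (sm a (fst G (X ⊗ C)) (snd G (X ⊗ C) ≫ fst X C)) (m i l) *
          ev (fst G (X ⊗ C)) (ρ l r)) * ev (snd G (X ⊗ C) ≫ snd X C) (cf r) := by
          rw [Finset.sum_comm]
          exact Finset.sum_congr rfl fun l _ => (Finset.sum_mul _ _ _).symm
      _ = _ := Finset.sum_congr rfl fun r _ => by rw [hm]
  · intro T t t' ht
    have h1 : t ≫ fst X C = t' ≫ fst X C := by
      have := congrArg (fun z => z ≫ fst X Q) ht
      simpa using this
    have h2 : (t ≫ snd X C) ≫ π = (t' ≫ snd X C) ≫ π := by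
      have := congrArg (fun z => z ≫ snd X Q) ht
      simpa using this
    obtain ⟨r, hr⟩ := h.lam T _ _ h2
    refine ⟨r, fun ⟨i⟩ => ?_⟩
    change ev t' (F i) = r * ev t (F i)
    rw [hF, hF, Finset.mul_sum]
    refine Finset.sum_congr rfl fun l _ => ?_
    rw [hr, h1]; ring
  · intro T t t' ht r hr
    have h1 : t ≫ fst X C = t' ≫ fst X C := by simpa using ht
    have h2 : (t ≫ snd X C) ≫ π = (t' ≫ snd X C) ≫ π := by
      refine h.sep T _ _ r fun j => ?_
      rw [← hrec, ← hrec, Finset.mul_sum]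
      refine Finset.sum_congr rfl fun i _ => ?_
      have h3 : ev t' (F i) = r * ev t (F i) := hr ⟨i⟩
      rw [h3, h1]; ring
    apply CartesianMonoidalCategory.hom_ext
    · simpa using h1
    · simpa using h2
  · intro y
    by_contra hcon
    push Not at hcon
    obtain ⟨j, hj⟩ := h.cover ((snd X C).left y)
    rw [mem_basicOpen_ev] at hj
    have h1 := hrec (X ⊗ C) (𝟙 _) j
    rw [Category.id_comp, Category.id_comp] at h1
    rw [← h1, Scheme.mem_basicOpen_top, map_sum] at hj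
    have h2 : ∀ i, (X ⊗ C).left.presheaf.germ ⊤ y trivial (F i) ∈
        IsLocalRing.maximalIdeal ((X ⊗ C).left.presheaf.stalk y) := by
      intro i
      have h3 := hcon ⟨i⟩
      rw [Scheme.mem_basicOpen_top] at h3
      exact h3
    have h4 : ∑ i, (X ⊗ C).left.presheaf.germ ⊤ y trivial (ev (fst X C) (bb j i) * ev (𝟙 (X ⊗ C)) (F i)) ∈
        IsLocalRing.maximalIdeal ((X ⊗ C).left.presheaf.stalk y) := by
      refine Ideal.sum_mem _ fun i _ => ?_
      rw [ev_id, map_mul]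
      exact Ideal.mul_mem_left _ _ (h2 i)
    exact h4 hj

/-- a torsor restricted to an open of the base -/
theorem exists_restrict (hsq : IsPullback a.act (snd G X) f f) (U : Y.left.Opens) :
    ∃ (fU : opn X (f.left ⁻¹ᵁ U) ⟶ opn Y U) (aU : AlgGrp.Action G (opn X (f.left ⁻¹ᵁ U))),
      IsPullback (opnι X (f.left ⁻¹ᵁ U)) fU f (opnι Y U) ∧
      aU.act ≫ opnι X (f.left ⁻¹ᵁ U) = (G ◁ opnι X (f.left ⁻¹ᵁ U)) ≫ a.act ∧
      IsPullback aU.act (snd G (opn X (f.left ⁻¹ᵁ U))) fU fU := by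
  obtain ⟨fU, hfU⟩ := exists_lift_opn (U := U) (opnι X (f.left ⁻¹ᵁ U) ≫ f) (by
    intro x
    rw [comp_left_apply]
    exact opnι_mem X (f.left ⁻¹ᵁ U) x)
  obtain ⟨aU, haU⟩ := exists_action_opn a (f.left ⁻¹ᵁ U) (by
    intro p hp
    change f.left (a.act.left p) ∈ U
    rw [← comp_left_apply, hsq.w, comp_left_apply]
    exact hp)
  have hs : ∀ s : PullbackCone f (opnι Y U), ∀ x : s.pt.left, s.fst.left x ∈ f.left ⁻¹ᵁ U := by
    intro s x
    change f.left (s.fst.left x) ∈ U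
    rw [← comp_left_apply, s.condition, comp_left_apply]
    exact opnι_mem _ _ _
  refine ⟨fU, aU, ⟨⟨hfU.symm⟩, ⟨PullbackCone.IsLimit.mk _ (fun s => (exists_lift_opn s.fst (hs s)).choose) ?_ ?_ ?_⟩⟩,
    haU, ?_⟩
  · intro s; exact (exists_lift_opn s.fst (hs s)).choose_spec
  · intro s
    rw [← cancel_mono (opnι Y U), Category.assoc, hfU, ← Category.assoc,
      (exists_lift_opn s.fst (hs s)).choose_spec, s.condition]
  · intro s m h1 h2
    rw [← cancel_mono (opnι X (f.left ⁻¹ᵁ U)), h1, (exists_lift_opn s.fst (hs s)).choose_spec]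
  · have hsm : ∀ (T : Over B) (g : T ⟶ G) (x : T ⟶ opn X (f.left ⁻¹ᵁ U)),
        sm aU g x ≫ opnι X (f.left ⁻¹ᵁ U) = sm a g (x ≫ opnι X (f.left ⁻¹ᵁ U)) :=
      fun T g x => _root_.K408.TorsDesc.sm_comp_of_equivariant haU g x
    refine _root_.K408.TorsDesc.sq_of_existsUnique ?_ ?_
    · rw [← cancel_mono (opnι Y U), Category.assoc, hfU, ← Category.assoc, haU, Category.assoc, hsq.w,
        Category.assoc, hfU, ← Category.assoc, whiskerLeft_snd, Category.assoc]
    · intro T x₀ x₁ hx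
      obtain ⟨g, hg, huniq⟩ := _root_.K408.TorsDesc.existsUnique_of_sq hsq (x₀ ≫ opnι X (f.left ⁻¹ᵁ U))
        (x₁ ≫ opnι X (f.left ⁻¹ᵁ U)) (by
          rw [Category.assoc, Category.assoc, ← hfU, ← Category.assoc, hx, Category.assoc])
      refine ⟨g, ?_, fun g' hg' => huniq g' ?_⟩
      · change sm aU g x₁ = x₀
        rw [← cancel_mono (opnι X (f.left ⁻¹ᵁ U)), hsm]; exact hg
      · change sm a g' _ = _
        rw [← hsm, hg']

theorem isPullback_whiskerRight {X' X Q : Over B} (j : X' ⟶ X) :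
    IsPullback (j ▷ Q) (fst X' Q) (fst X Q) j := by
  refine ⟨⟨by simp⟩, ⟨PullbackCone.IsLimit.mk _ (fun s => lift s.snd (s.fst ≫ snd X Q)) ?_ ?_ ?_⟩⟩
  · intro s
    apply CartesianMonoidalCategory.hom_ext
    · simp [s.condition]
    · simp
  · intro s; simp
  · intro s m h1 h2
    apply CartesianMonoidalCategory.hom_ext
    · rw [lift_fst, ← h2]
    · rw [lift_snd, ← h1]; simp

/-- stable quasi-affine neighbourhoods, affine case -/
theorem local_main (hsq : IsPullback a.act (snd G X) f f) [IsAffine X.left] [IsAffine Y.left]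
    [IsAffine (G ⊗ X).left] [Flat f.left] (h : IsProj b e π cf ρ)
    [Flat π.left] [Surjective π.left] [LocallyOfFinitePresentation π.left] [LocallyOfFiniteType Q.hom]
    [QuasiCompact C.hom] (v : (X ⊗ Q).left) :
    ∃ (V : Over B) (w : V ⟶ X ⊗ Q) (cV : AlgGrp.Action G V), IsOpenImmersion w.left ∧ v ∈ Set.range w.left ∧
      cV.act ≫ w = (G ◁ w) ≫ (prodAct a b).act ∧ Mor2.IsQuasiAffine (w ≫ fst X Q).left := by
  obtain ⟨I, hI, F, hinv, hlam, hsep, hcov⟩ := exists_F hsq h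
  have hw := isPullback_whisker X π
  have hwl := _root_.K408.TorsDesc.isPullback_left hw
  have h1 : Flat (X ◁ π).left := MorphismProperty.of_isPullback hwl.flip ‹_›
  have h2 : Surjective (X ◁ π).left := MorphismProperty.of_isPullback hwl.flip ‹_›
  have h3 : LocallyOfFinitePresentation (X ◁ π).left := MorphismProperty.of_isPullback hwl.flip ‹_›
  have h4 : CompactSpace (X ⊗ C).left := by
    have h5 : QuasiCompact (fst X C).left :=
      MorphismProperty.of_isPullback (isPullback_fst_left X C).flip ‹_›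
    exact QuasiCompact.compactSpace_of_compactSpace (fst X C).left
  have h6 : LocallyOfFiniteType (fst X Q).left :=
    MorphismProperty.of_isPullback (isPullback_fst_left X Q).flip ‹_›
  obtain ⟨v', hv'⟩ := (X ◁ π).left.surjective v
  obtain ⟨i, hi⟩ := hcov v'
  have hequiv : (prodAct a e).act ≫ (X ◁ π) = (G ◁ (X ◁ π)) ≫ (prodAct a b).act := by
    apply CartesianMonoidalCategory.hom_ext
    · rw [Category.assoc, whiskerLeft_fst, prodAct_fst, Category.assoc, prodAct_fst, ← Category.assoc,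
        ← MonoidalCategory.whiskerLeft_comp, whiskerLeft_fst]
    · rw [Category.assoc, whiskerLeft_snd, ← Category.assoc, prodAct_snd, Category.assoc, h.equiv, Category.assoc,
        prodAct_snd, ← Category.assoc, ← MonoidalCategory.whiskerLeft_comp, ← Category.assoc,
        ← MonoidalCategory.whiskerLeft_comp, whiskerLeft_snd]
  obtain ⟨cV, hcV⟩ := exists_action_opn (prodAct a b) (TorsQAff.im (X ◁ π) ((X ⊗ C).left.basicOpen (F i)))
    (fun p hp => TorsQAff.stable i (prodAct a b) (prodAct a e) hequiv (hinv i) hlam p hp)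
  refine ⟨_, _, cV, inferInstance, ?_, hcV, TorsQAff.quasiAffine (fst X Q) hlam hsep i⟩
  rw [range_opnι]
  exact ⟨v', hi, hv'⟩

/-- the associated bundle exists -/
theorem exists_assoc [IsAffineHom G.hom] (hsq : IsPullback a.act.left (snd G X).left f.left f.left)
    [Flat f.left] [Surjective f.left] [IsAffineHom f.left] (h : IsProj b e π cf ρ)
    [Flat π.left] [Surjective π.left] [LocallyOfFinitePresentation π.left] [LocallyOfFiniteType Q.hom]
    [QuasiCompact C.hom] :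
    ∃ (W : Over B) (φ : X ⊗ Q ⟶ W) (ψ : W ⟶ Y), (prodAct a b).act ≫ φ = snd G (X ⊗ Q) ≫ φ ∧
      IsPullback (fst X Q).left φ.left f.left ψ.left := by
  apply TorsEff.glue hsq (prodAct_fst a b)
  intro v
  obtain ⟨U, hU, hvU, -⟩ := exists_isAffineOpen_mem_and_subset (U := (⊤ : Y.left.Opens))
    (x := f.left ((fst X Q).left v)) trivial
  obtain ⟨fU, aU, hpb, haU, hsqU⟩ := exists_restrict (_root_.K408.TorsDesc.isPullback_of_left hsq) U
  obtain ⟨XU, hXU⟩ : ∃ XU, XU = opn X (f.left ⁻¹ᵁ U) := ⟨_, rfl⟩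
  have i1 : IsAffine (opn X (f.left ⁻¹ᵁ U)).left := hU.preimage f.left
  have i2 : IsAffine (opn Y U).left := hU
  have i3 : IsAffineHom (snd G (opn X (f.left ⁻¹ᵁ U))).left :=
    MorphismProperty.of_isPullback (isPullback_fst_left G (opn X (f.left ⁻¹ᵁ U))) ‹_›
  have i4 : IsAffine (G ⊗ opn X (f.left ⁻¹ᵁ U)).left := isAffine_of_isAffineHom (snd G (opn X (f.left ⁻¹ᵁ U))).left
  have hpbl := _root_.K408.TorsDesc.isPullback_left hpb
  have i5 : Flat fU.left := MorphismProperty.of_isPullback hpbl ‹_›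
  have i6 : Surjective fU.left := MorphismProperty.of_isPullback hpbl ‹_›
  have i7 : QuasiCompact fU.left := MorphismProperty.of_isPullback hpbl inferInstance
  have hwr := _root_.K408.TorsDesc.isPullback_left (isPullback_whiskerRight (Q := Q) (opnι X (f.left ⁻¹ᵁ U)))
  have i8 : IsOpenImmersion (opnι X (f.left ⁻¹ᵁ U) ▷ Q).left := MorphismProperty.of_isPullback hwr.flip inferInstance
  obtain ⟨x', hx'⟩ : (fst X Q).left v ∈ Set.range (opnι X (f.left ⁻¹ᵁ U)).left := by
    rw [range_opnι]; exact hvU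
  obtain ⟨v', hv'1, hv'2⟩ := Scheme.exists_preimage_of_isPullback hwr v x' hx'.symm
  obtain ⟨V, w, cV, hwo, hvw, hw, hqa⟩ := local_main hsqU h v'
  have hwp : cV.act ≫ (w ≫ fst (opn X (f.left ⁻¹ᵁ U)) Q) = (G ◁ (w ≫ fst (opn X (f.left ⁻¹ᵁ U)) Q)) ≫ aU.act := by
    rw [← Category.assoc, hw, Category.assoc, prodAct_fst, MonoidalCategory.whiskerLeft_comp, Category.assoc]
  obtain ⟨W, φ, ψ, hφ, hpb2⟩ := TorsEff.of_isQuasiAffine (_root_.K408.TorsDesc.isPullback_left hsqU) hwp hqa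
  refine ⟨V, w ≫ (opnι X (f.left ⁻¹ᵁ U) ▷ Q), cV, W, φ, ψ ≫ opnι Y U, ?_, ?_, ?_, hφ, ?_⟩
  · rw [Over.comp_left]; infer_instance
  · obtain ⟨z, hz⟩ := hvw
    exact ⟨z, by rw [comp_left_apply, hz, hv'1]⟩
  · rw [← Category.assoc, hw, Category.assoc, MonoidalCategory.whiskerLeft_comp, Category.assoc]
    congr 1
    apply CartesianMonoidalCategory.hom_ext
    · rw [Category.assoc, whiskerRight_fst, ← Category.assoc, prodAct_fst, Category.assoc, haU, Category.assoc,
        prodAct_fst, ← Category.assoc, ← Category.assoc, ← MonoidalCategory.whiskerLeft_comp,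
        ← MonoidalCategory.whiskerLeft_comp, whiskerRight_fst]
    · rw [Category.assoc, whiskerRight_snd, prodAct_snd, Category.assoc, prodAct_snd, ← Category.assoc,
        ← MonoidalCategory.whiskerLeft_comp, whiskerRight_snd]
  · have h1 := hpb2.paste_horiz hpbl
    have h2 : ((w ≫ (opnι X (f.left ⁻¹ᵁ U) ▷ Q)) ≫ fst X Q).left =
        (w ≫ fst (opn X (f.left ⁻¹ᵁ U)) Q).left ≫ (opnι X (f.left ⁻¹ᵁ U)).left := by
      rw [← Over.comp_left, Category.assoc, whiskerRight_fst, Category.assoc]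
    rw [h2, Over.comp_left]
    exact h1

end Groth.Agent.AlgGrp.K408.TorsProj
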