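import Groth.Agent.AlgGrp.K408.ChevMat
import Groth.Agent.AlgGrp.K408.TorsProj
import Groth.Agent.AlgGrp.K413.Homog

/-!
# The projective presentation of a quotient of an affine group
-/

set_option autoImplicit false

universe u

open CategoryTheory CategoryTheory.Limits MonoidalCategory CartesianMonoidalCategory MonObj GrpObj AlgebraicGeometry
open scoped TensorProduct

namespace Groth.Agent.AlgGrp.K408.ChevProj

open Groth.Agent.Books.CoeffMat Groth.Agent.Books.AffBridge Groth.Agent.Books.AffBridge2 Groth.Agent.Books.BorelOrb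
open Groth.Agent.AlgGrp.K408.InvSch Groth.Agent.AlgGrp.K408.OpenSub Groth.Agent.AlgGrp.K408.ChevMat
open Groth.Agent.AlgGrp.K408.TorsProj
open _root_.K413.Homog

variable {k : Type u} [Field k] {G H Q : Over (Spec (CommRingCat.of k))} [GrpObj G]

theorem sharp_comp {A : Type u} [CommRing A] [Algebra k A] {T T' : Over (Spec (CommRingCat.of k))} (g : T' ⟶ T)
    (x : T ⟶ SpecOver k A) : sharp (g ≫ x) = sharp x ≫ g.left.appTop := by
  rw [sharp, sharp, Over.comp_left, Scheme.Hom.comp_appTop, Category.assoc]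
  rfl

theorem sharp_specMap {A A' : Type u} [CommRing A] [Algebra k A] [CommRing A'] [Algebra k A']
    {T : Over (Spec (CommRingCat.of k))} (y : T ⟶ SpecOver k A') (ψ : A →ₐ[k] A') :
    sharp (y ≫ specMap k ψ) = CommRingCat.ofHom ψ.toRingHom ≫ sharp y := by
  rw [sharp, sharp, Over.comp_left, Scheme.Hom.comp_appTop]
  change (Scheme.ΓSpecIso (CommRingCat.of A)).inv ≫ ((Spec.map (CommRingCat.ofHom ψ.toRingHom)).appTop ≫
    y.left.appTop) = CommRingCat.ofHom ψ.toRingHom ≫ (Scheme.ΓSpecIso (CommRingCat.of A')).inv ≫ y.left.appTop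
  rw [← Category.assoc, ← Scheme.ΓSpecIso_inv_naturality, Category.assoc]

theorem strHom_comp {T T' : Over (Spec (CommRingCat.of k))} (g : T' ⟶ T) :
    strHom T ≫ g.left.appTop = strHom T' := by
  rw [strHom, strHom, Category.assoc, ← Scheme.Hom.comp_appTop, Over.w]

theorem exists_coords [IsAffine G.left] [LocallyOfFiniteType G.hom] [GrpObj H] (i : H ⟶ G) [IsMonHom i]
    [IsClosedImmersion i.left] :
    ∃ (n : ℕ) (v : Fin n → k) (cf : Fin n → Γ(G.left, ⊤)) (ρ : Fin n → Fin n → Γ(G.left, ⊤)),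
      (∃ j, v j ≠ 0) ∧
      (∀ (T : Over (Spec (CommRingCat.of k))) (j l : Fin n), ev (1 : T ⟶ G) (ρ j l) = if j = l then 1 else 0) ∧
      (∀ (T : Over (Spec (CommRingCat.of k))) (g h : T ⟶ G) (j l : Fin n),
        ev (g * h) (ρ j l) = ∑ r, ev g (ρ j r) * ev h (ρ r l)) ∧
      (∀ (T : Over (Spec (CommRingCat.of k))) (g : T ⟶ G) (j : Fin n),
        ev g (cf j) = ∑ l, (strHom T).hom (v l) * ev g (ρ j l)) ∧
      ∀ (T : Over (Spec (CommRingCat.of k))) (x : T ⟶ G), (∃ y : T ⟶ H, y ≫ i = x) ↔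
        ∃ c : Γ(T.left, ⊤), ∀ j, ev x (cf j) = (strHom T).hom (v j) * c := by
  obtain ⟨A, _, _, E, hE⟩ := exists_hopf k G
  have hi' : IsClosedImmersion (i ≫ E.hom).left := by rw [Over.comp_left]; infer_instance
  obtain ⟨I, hI, e, he, hei⟩ := exists_hopfIdeal k (i ≫ E.hom)
  have hft : Algebra.FiniteType k A := by
    rw [← locallyOfFiniteType_specOver_iff]
    have h1 : (SpecOver k A).hom = E.inv.left ≫ G.hom := hom_eq_of_iso E.symm
    rw [h1]; infer_instance
  obtain ⟨n, m, v, hm, hv, hrep⟩ := exists_matrix k A I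
  have hev : ∀ (T : Over (Spec (CommRingCat.of k))) (g : T ⟶ G) (a : A),
      ev g ((sharp E.hom).hom a) = (sharp (g ≫ E.hom)).hom a := by
    intro T g a
    rw [sharp_comp]; rfl
  have hstr : ∀ (T : Over (Spec (CommRingCat.of k))) (g : T ⟶ G) (a : k),
      ev g ((strHom G).hom a) = (strHom T).hom a := by
    intro T g a
    rw [← strHom_comp g]; rfl
  have hcf : ∀ (T : Over (Spec (CommRingCat.of k))) (g : T ⟶ G) (j : Fin n),
        ev g (∑ l, (strHom G).hom (v l) * (sharp E.hom).hom (m j l)) =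
          ∑ l, (strHom T).hom (v l) * ev g ((sharp E.hom).hom (m j l)) := by
    intro T g j
    rw [map_sum]
    refine Finset.sum_congr rfl fun l _ => ?_
    rw [map_mul, hstr]
  refine ⟨n, v, fun j => ∑ l, (strHom G).hom (v l) * (sharp E.hom).hom (m j l),
    fun j l => (sharp E.hom).hom (m j l), hv, ?_, ?_, hcf, ?_⟩
  · intro T j l
    rw [hev, MonObj.one_comp, sharp_one, hm.counit]
    split_ifs
    · exact map_one _
    · exact map_zero _
  · intro T g h j l
    rw [hev, MonObj.mul_comp, sharp_mul _ _ _ _ _ (hm.comul j l)]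
    exact Finset.sum_congr rfl fun r _ => by rw [hev, hev]
  · intro T x
    obtain ⟨_, t, hst, ht1, ht2⟩ := exists_hull T
    obtain ⟨φ, hφ, hφ'⟩ := ht2 A (x ≫ E.hom)
    have h1 : (∃ c : Γ(T.left, ⊤), ∀ j, ev x (∑ l, (strHom G).hom (v l) * (sharp E.hom).hom (m j l)) =
        (strHom T).hom (v j) * c) ↔ ∃ c : Γ(T.left, ⊤), ∀ j, ∑ l, v l • φ (m j l) = v j • c := by
      refine exists_congr fun c => forall_congr' fun j => ?_
      rw [hcf, Algebra.smul_def, ← hst]
      have h2 : ∀ l, v l • φ (m j l) =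
          (CommRingCat.ofHom (algebraMap k Γ(T.left, ⊤))).hom (v l) * ev x ((sharp E.hom).hom (m j l)) := by
        intro l
        rw [Algebra.smul_def, hev, ← hφ']
        rfl
      simp only [h2]
      rfl
    rw [h1, ← hrep]
    constructor
    · rintro ⟨y, rfl⟩ a ha
      have h3 : φ a = (sharp ((y ≫ i) ≫ E.hom)).hom a := by rw [← hφ']; rfl
      rw [h3, Category.assoc, ← hei, ← Category.assoc, sharp_specMap]
      change (sharp (y ≫ e.hom)).hom (Ideal.Quotient.mk I a) = 0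
      rw [Ideal.Quotient.eq_zero_iff_mem.mpr ha, map_zero]
    · intro hφI
      let ψ : (A ⧸ I) →ₐ[k] Γ(T.left, ⊤) := Ideal.Quotient.liftₐ I φ hφI
      refine ⟨t ≫ specMap k ψ ≫ e.inv, ?_⟩
      have h3 : ψ.comp (Ideal.Quotient.mkₐ k I) = φ := Ideal.Quotient.liftₐ_comp I φ hφI
      rw [← cancel_mono E.hom]
      simp only [Category.assoc]
      rw [← hei, Iso.inv_hom_id_assoc, ← specMap_comp, h3, hφ]

theorem exists_isProj [IsAffine G.left] [LocallyOfFiniteType G.hom] [GrpObj H] (i : H ⟶ G) [IsMonHom i]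
    [IsClosedImmersion i.left] (b : AlgGrp.Action G Q) (o : 𝟙_ (Over (Spec (CommRingCat.of k))) ⟶ Q)
    (hsq : IsPullback (fst G H) ((G ◁ i) ≫ μ[G]) (b.orbitMap o) (b.orbitMap o)) :
    ∃ (n : ℕ) (cf : Fin n → Γ(G.left, ⊤)) (ρ : Fin n → Fin n → Γ(G.left, ⊤)),
      IsProj b (leftAct G) (b.orbitMap o) cf ρ := by
  obtain ⟨n, v, cf, ρ, ⟨j₀, hj₀⟩, hone, hmul, hcf, hstab⟩ := exists_coords i
  have hact : ∀ (T : Over (Spec (CommRingCat.of k))) (g c : T ⟶ G) (j : Fin n),
      ev (g * c) (cf j) = ∑ l, ev g (ρ j l) * ev c (cf l) := by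
    intro T g c j
    rw [hcf]
    calc ∑ l, (strHom T).hom (v l) * ev (g * c) (ρ j l)
        = ∑ l, ∑ r, ev g (ρ j r) * ((strHom T).hom (v l) * ev c (ρ r l)) := by
          refine Finset.sum_congr rfl fun l _ => ?_
          rw [hmul, Finset.mul_sum]
          exact Finset.sum_congr rfl fun r _ => by ring
      _ = ∑ r, ev g (ρ j r) * ∑ l, (strHom T).hom (v l) * ev c (ρ r l) := by
          rw [Finset.sum_comm]
          exact Finset.sum_congr rfl fun r _ => (Finset.mul_sum _ _ _).symm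
      _ = _ := Finset.sum_congr rfl fun r _ => by rw [hcf]
  have hcf1 : ∀ (T : Over (Spec (CommRingCat.of k))) (j : Fin n), ev (1 : T ⟶ G) (cf j) = (strHom T).hom (v j) := by
    intro T j
    rw [hcf]
    simp [hone]
  have hv₀ : ∀ (T : Over (Spec (CommRingCat.of k))), IsUnit ((strHom T).hom (v j₀)) := fun T =>
    (IsUnit.mk0 _ hj₀).map (strHom T).hom
  refine ⟨n, cf, ρ, ?_, hone, hmul, ?_, ?_, ?_, ?_⟩
  · apply _root_.K408.TorsDesc.equivariant_of_sm
    intro T g c
    rw [sm_leftAct, mul_comp_orbitMap]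
    rfl
  · intro T g c j
    rw [sm_leftAct]
    exact hact T g c j
  · intro x
    by_contra hcon
    push Not at hcon
    have h1 := hact G (𝟙 G)⁻¹ (𝟙 G) j₀
    rw [inv_mul_cancel, hcf1] at h1
    have h2 : IsUnit (G.left.presheaf.germ ⊤ x trivial ((strHom G).hom (v j₀))) := (hv₀ G).map _
    rw [h1, map_sum] at h2
    have h4 : ∑ l, G.left.presheaf.germ ⊤ x trivial (ev (𝟙 G)⁻¹ (ρ j₀ l) * ev (𝟙 G) (cf l)) ∈
        IsLocalRing.maximalIdeal (G.left.presheaf.stalk x) := by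
      refine Ideal.sum_mem _ fun i _ => ?_
      rw [ev_id, map_mul]
      refine Ideal.mul_mem_left _ _ ?_
      have h3 := hcon i
      rw [Scheme.mem_basicOpen_top] at h3
      exact h3
    exact h4 h2
  · intro T c c' h
    obtain ⟨x, hx⟩ := exists_of_comp_orbitMap_eq hsq c c' h
    obtain ⟨r, hr⟩ := (hstab T (x ≫ i)).mp ⟨x, rfl⟩
    obtain ⟨r', hr'⟩ := (hstab T (x ≫ i)⁻¹).mp ⟨x⁻¹, GrpObj.inv_comp _ _⟩
    have h1 : ∀ (g : T ⟶ G) (z : T ⟶ G) (s : Γ(T.left, ⊤)), (∀ j, ev z (cf j) = (strHom T).hom (v j) * s) → ∀ j,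
        ev (g * z) (cf j) = s * ev g (cf j) := by
      intro g z s hz j
      rw [hact, hcf, Finset.mul_sum]
      exact Finset.sum_congr rfl fun l _ => by rw [hz]; ring
    have h2 : r' * r = 1 := by
      have h3 := h1 (x ≫ i) (x ≫ i)⁻¹ r' hr' j₀
      rw [mul_inv_cancel, hcf1, hr] at h3
      refine (hv₀ T).mul_left_cancel ?_
      rw [_root_.mul_one]
      refine Eq.trans ?_ h3.symm
      ring
    refine ⟨⟨r, r', by rw [_root_.mul_comm]; exact h2, h2⟩, fun j => ?_⟩
    rw [hx, h1 c (x ≫ i) r hr]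
  · intro T c c' r hr
    obtain ⟨y, hy⟩ := (hstab T (c⁻¹ * c')).mpr ⟨r, fun j => by
      rw [hact]
      have h1 := hact T c⁻¹ c j
      rw [inv_mul_cancel, hcf1] at h1
      rw [h1, Finset.sum_mul]
      exact Finset.sum_congr rfl fun l _ => by rw [hr]; ring⟩
    have h2 := mul_comp_orbitMap_of_sub hsq c y
    rw [hy, mul_inv_cancel_left] at h2
    exact h2.symm

end Groth.Agent.AlgGrp.K408.ChevProj
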