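import Groth.Agent.S3718
import Groth.Agent.S3280
import Groth.Agent.Grpsch.AbEtale
import Groth.Agent.Books.AntiAffine
import Groth.Agent.Books.AlgPts
import Groth.Agent.WittGrp.K718.KPts

/-!
# Extensions of commutative groups with dense torsion are commutative

Over an algebraically closed field: let `E` be a connected smooth algebraic group which is an extension of `Q` by
`N`, both commutative and with "dense `ℓ`-power torsion".  Then `E` is commutative.
-/

set_option autoImplicit false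

universe u

open CategoryTheory MonoidalCategory CartesianMonoidalCategory MonObj GrpObj AlgebraicGeometry Limits

namespace Groth.Agent.AlgGrp.K408.ExtComm

variable {K : Type u} [Field K]

/-- Homomorphisms out of `S` are determined by their values on the `ℓ`-power torsion points. -/
def Dens (l : ℕ) (S : Over (Spec (CommRingCat.of K))) [GrpObj S] : Prop :=
  ∀ (H : Over (Spec (CommRingCat.of K))) [GrpObj H] (f g : S ⟶ H) [IsMonHom f] [IsMonHom g],
    (∀ (n : ℕ) (x : 𝟙_ (Over (Spec (CommRingCat.of K))) ⟶ S), x ^ (l ^ n) = 1 → x ≫ f = x ≫ g) → f = g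

theorem exists_lift_ker {C : Type*} [Category C] [CartesianMonoidalCategory C] {N G Q T : C} [GrpObj Q]
    {n : N ⟶ G} {f : G ⟶ Q} (h : IsPullback n (toUnit N) f η[Q]) (x : T ⟶ G) (hx : x ≫ f = 1) :
    ∃ y : T ⟶ N, y ≫ n = x := by
  refine ⟨h.lift x (toUnit T) ?_, h.lift_fst _ _ _⟩
  rw [hx, Hom.one_def]

theorem ker_comp {C : Type*} [Category C] [CartesianMonoidalCategory C] {N G Q T : C} [GrpObj Q]
    {n : N ⟶ G} {f : G ⟶ Q} (h : IsPullback n (toUnit N) f η[Q]) (y : T ⟶ N) : (y ≫ n) ≫ f = 1 := by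
  rw [Category.assoc, h.w, ← Category.assoc, Hom.one_def, toUnit_unique (y ≫ toUnit N) (toUnit T)]

theorem mono_of_isPullback_one {C : Type*} [Category C] [CartesianMonoidalCategory C] {N G Q : C} [GrpObj Q]
    {n : N ⟶ G} {f : G ⟶ Q} (h : IsPullback n (toUnit N) f η[Q]) : Mono n where
  right_cancellation _ _ hab := h.hom_ext hab (toUnit_unique _ _)

variable [IsAlgClosed K]

/-- Maps from a connected scheme whose `N`-th powers agree and which agree at a point are equal. -/
theorem eq_of_pow_eq {S E : Over (Spec (CommRingCat.of K))} [GrpObj S] [IsCommMonObj S] [Smooth S.hom]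
    [ConnectedSpace E.left] (N : ℕ) (hN : (N : K) ≠ 0) (f g : E ⟶ S) (hfg : f ^ N = g ^ N)
    (e : 𝟙_ (Over (Spec (CommRingCat.of K))) ⟶ E) (he : e ≫ f = e ≫ g) : f = g := by
  have hN' : ((N : ℤ) : K) ≠ 0 := by simpa using hN
  have h1 : Etale (𝟙 S ^ (N : ℤ)).left := Grpsch.AbEtale.etale_zpow_of_isAlgClosed hN'
  have hsep : IsSeparated S.hom := Books.AntiAffine.isSeparated_hom S
  have hsep' : IsSeparated (𝟙 S ^ (N : ℤ)).left := by
    have : IsSeparated ((𝟙 S ^ (N : ℤ)).left ≫ S.hom) := by rw [Over.w]; infer_instance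
    exact IsSeparated.of_comp _ S.hom
  have hne : Nonempty (𝟙_ (Over (Spec (CommRingCat.of K)))).left :=
    inferInstanceAs (Nonempty (Spec (CommRingCat.of K)))
  ext1
  refine S3718.eq_of_agree (𝟙 S ^ (N : ℤ)).left e.left f.left g.left ?_ ?_
  · rw [← Over.comp_left, ← Over.comp_left, GrpObj.comp_zpow, GrpObj.comp_zpow, Category.comp_id, Category.comp_id,
      zpow_natCast, zpow_natCast, hfg]
  · rw [← Over.comp_left, ← Over.comp_left, he]

omit [IsAlgClosed K] in
theorem isMonHom_of_pts {C : Type*} [Category C] [CartesianMonoidalCategory C] {G H : C} [MonObj G]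
    [GrpObj H] (f : G ⟶ H) (h : ∀ (X : C) (x y : X ⟶ G), (x * y) ≫ f = (x ≫ f) * (y ≫ f)) :
    IsMonHom f where
  one_hom := by
    have h1 := h (𝟙_ C) η[G] η[G]
    rw [one_eq_one, _root_.mul_one] at h1
    rw [one_eq_one, one_eq_one]
    exact (mul_eq_left.mp h1.symm)
  mul_hom := by
    have h1 := h (G ⊗ G) (fst G G) (snd G G)
    rw [← mul_eq_mul] at h1
    rw [h1, mul_eq_mul, MonObj.comp_mul, tensorHom_fst, tensorHom_snd]

variable {N E Q : Over (Spec (CommRingCat.of K))} [GrpObj N] [GrpObj E] [GrpObj Q] [Smooth N.hom] [Smooth E.hom]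
  [ConnectedSpace E.left] [IsCommMonObj N]

/-- A normal commutative subgroup with dense torsion in a connected group is central. -/
theorem central {l : ℕ} (hl : (l : K) ≠ 0) (hN : Dens l N) (i : N ⟶ E) [IsMonHom i] [Mono i]
    (hn : AlgGrp.IsNormalHom i)
    {T : Over (Spec (CommRingCat.of K))} (g : T ⟶ E) (x : T ⟶ N) : g * (x ≫ i) = (x ≫ i) * g := by
  have hsep : IsSeparated E.hom := Books.AntiAffine.isSeparated_hom E
  -- torsion points are central
  have h1 : ∀ (n : ℕ) (x : 𝟙_ (Over (Spec (CommRingCat.of K))) ⟶ N), x ^ (l ^ n) = 1 →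
      ∀ g : 𝟙_ (Over (Spec (CommRingCat.of K))) ⟶ E, g * (x ≫ i) * g⁻¹ = x ≫ i := by
    intro n x hx g
    obtain ⟨c, hc⟩ := hn E (𝟙 E) (toUnit E ≫ x)
    have h2 : c = toUnit E ≫ x := by
      refine eq_of_pow_eq (l ^ n) (by push_cast; exact pow_ne_zero _ hl) c _ ?_ (1 : 𝟙_ _ ⟶ E) ?_
      · rw [← cancel_mono i, MonObj.pow_comp, MonObj.pow_comp, ← hc, conj_pow, ← MonObj.pow_comp, ← MonObj.comp_pow, hx,
          MonObj.comp_one, MonObj.one_comp, _root_.mul_one, mul_inv_cancel]
      · rw [← cancel_mono i, Category.assoc, ← hc, MonObj.comp_mul, MonObj.comp_mul, GrpObj.comp_inv, Category.comp_id,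
          _root_.one_mul, inv_one, _root_.mul_one, Category.assoc, Category.assoc, Category.assoc]
    have h3 := congrArg (fun z => g ≫ z) hc
    beta_reduce at h3
    rw [MonObj.comp_mul, MonObj.comp_mul, GrpObj.comp_inv, Category.comp_id, h2, Category.assoc,
      ← Category.assoc g, toUnit_unique (g ≫ toUnit E) (𝟙 _), Category.id_comp] at h3
    exact h3
  -- every rational point of `E` acts trivially
  have h2 : ∀ (g : 𝟙_ (Over (Spec (CommRingCat.of K))) ⟶ E) {T : Over (Spec (CommRingCat.of K))} (x : T ⟶ N),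
      (toUnit T ≫ g) * (x ≫ i) * (toUnit T ≫ g)⁻¹ = x ≫ i := by
    intro g T x
    let f : N ⟶ E := (toUnit N ≫ g) * i * (toUnit N ≫ g)⁻¹
    have hf : ∀ {T : Over (Spec (CommRingCat.of K))} (x : T ⟶ N),
        x ≫ f = (toUnit T ≫ g) * (x ≫ i) * (toUnit T ≫ g)⁻¹ := by
      intro T x
      rw [MonObj.comp_mul, MonObj.comp_mul, GrpObj.comp_inv, ← Category.assoc, toUnit_unique (x ≫ toUnit N) (toUnit T)]
    have hfm : IsMonHom f := isMonHom_of_pts f fun T x y => by
      rw [hf, hf, hf, MonObj.mul_comp]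
      group
    have h3 : f = i := by
      refine hN E f i fun n x hx => ?_
      rw [hf, toUnit_unique (toUnit (𝟙_ (Over (Spec (CommRingCat.of K))))) (𝟙 _), Category.id_comp]
      exact h1 n x hx g
    rw [← hf, h3]
  have h3 : fst E N * (snd E N ≫ i) = (snd E N ≫ i) * fst E N := by
    refine K718.KPts.hom_ext_pt₂ fun g x => ?_
    have h4 := h2 g x
    rw [toUnit_unique (toUnit (𝟙_ (Over (Spec (CommRingCat.of K))))) (𝟙 _), Category.id_comp] at h4
    rw [MonObj.comp_mul, MonObj.comp_mul, lift_fst, ← Category.assoc, lift_snd]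
    exact mul_inv_eq_iff_eq_mul.mp h4
  have h4 := congrArg (fun z => lift g x ≫ z) h3
  simpa only [MonObj.comp_mul, lift_fst, ← Category.assoc, lift_snd] using h4

omit [IsAlgClosed K] in
/-- The kernel of a homomorphism is normal. -/
theorem isNormalHom_of_isKernel {N E Q : Over (Spec (CommRingCat.of K))} [GrpObj N] [GrpObj E] [GrpObj Q]
    (i : N ⟶ E) [IsMonHom i] (q : E ⟶ Q) [IsMonHom q] (hK : AlgGrp.IsKernel i q) : AlgGrp.IsNormalHom i := by
  intro T g n
  obtain ⟨y, hy⟩ := exists_lift_ker hK (g * (n ≫ i) * g⁻¹) (by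
    rw [MonObj.mul_comp, MonObj.mul_comp, GrpObj.inv_comp, ker_comp hK, _root_.mul_one, mul_inv_cancel])
  exact ⟨y, hy.symm⟩

/-- Rational points lift along surjective morphisms. -/
theorem exists_pt_lift {G H : Over (Spec (CommRingCat.of K))} [LocallyOfFiniteType G.hom]
    [LocallyOfFiniteType H.hom] (q : G ⟶ H) [Surjective q.left]
    (y : 𝟙_ (Over (Spec (CommRingCat.of K))) ⟶ H) : ∃ x : 𝟙_ (Over (Spec (CommRingCat.of K))) ⟶ G, x ≫ q = y :=
  Books.AlgPts.exists_comp_eq_of_pt_mem_range q y (q.left.surjective _)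

/-- Homomorphisms from `Q` to `N` which are trivial on the `ℓ`-power torsion points are trivial. -/
def Rigid (l : ℕ) (Q N : Over (Spec (CommRingCat.of K))) [GrpObj Q] [GrpObj N] : Prop :=
  ∀ (f : Q ⟶ N) [IsMonHom f],
    (∀ (n : ℕ) (x : 𝟙_ (Over (Spec (CommRingCat.of K))) ⟶ Q), x ^ (l ^ n) = 1 → x ≫ f = 1) → f = 1

omit [IsAlgClosed K] [Smooth N.hom] [IsCommMonObj N] in
theorem Dens.rigid {l : ℕ} (hQ : Dens l Q) : Rigid l Q N := by
  intro f hf h
  have : IsMonHom (1 : Q ⟶ N) := isMonHom_of_pts _ fun T x y => by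
    rw [MonObj.comp_one, MonObj.comp_one, MonObj.comp_one, _root_.mul_one]
  exact hQ N f 1 fun n z hz => by rw [h n z hz, MonObj.comp_one]

/-- **An extension of commutative groups with dense torsion is commutative.** -/
theorem comm [QuasiCompact E.hom] [QuasiCompact Q.hom] [QuasiCompact N.hom] [LocallyOfFiniteType Q.hom]
    [IsCommMonObj Q] {l : ℕ} (hl : (l : K) ≠ 0)
    (hN : Dens l N) (hQ : Rigid l Q N) (i : N ⟶ E) [IsMonHom i] (q : E ⟶ Q) [IsMonHom q] [Flat q.left]
    [Surjective q.left] (hK : AlgGrp.IsKernel i q) : IsCommMonObj E := by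
  have hsep : IsSeparated E.hom := Books.AntiAffine.isSeparated_hom E
  have hmono : Mono i := mono_of_isPullback_one hK
  have hcen : ∀ {T : Over (Spec (CommRingCat.of K))} (g : T ⟶ E) (x : T ⟶ N), g * (x ≫ i) = (x ≫ i) * g :=
    fun g x => central hl hN i (isNormalHom_of_isKernel i q hK) g x
  -- the commutators with a rational point
  have hcomm : ∀ {T : Over (Spec (CommRingCat.of K))} (g h : T ⟶ E), ∃ x : T ⟶ N, x ≫ i = g * h * g⁻¹ * h⁻¹ := by
    intro T g h
    refine exists_lift_ker hK _ ?_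
    rw [MonObj.mul_comp, MonObj.mul_comp, MonObj.mul_comp, GrpObj.inv_comp, GrpObj.inv_comp,
      mul_comm (g ≫ q) (h ≫ q)]
    group
  -- `[g g', y] = [g', y] [g, y]`
  have hbim : ∀ {T : Over (Spec (CommRingCat.of K))} (g g' y : T ⟶ E),
      (g * g') * y * (g * g')⁻¹ * y⁻¹ = (g * y * g⁻¹ * y⁻¹) * (g' * y * g'⁻¹ * y⁻¹) := by
    intro T g g' y
    obtain ⟨x, hx⟩ := hcomm g' y
    have h1 : (g * g') * y * (g * g')⁻¹ * y⁻¹ = g * (g' * y * g'⁻¹ * y⁻¹) * y * g⁻¹ * y⁻¹ := by group
    rw [h1, ← hx, hcen g x]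
    have h2 : x ≫ i * g * y * g⁻¹ * y⁻¹ = x ≫ i * (g * y * g⁻¹ * y⁻¹) := by group
    rw [h2, ← hcen]
  -- all rational points commute
  have key : ∀ g y : 𝟙_ (Over (Spec (CommRingCat.of K))) ⟶ E, g * y = y * g := by
    intro g y
    -- the homomorphism `k : E ⟶ N`, `g ↦ [g, y]`
    obtain ⟨k, hk⟩ := hcomm (𝟙 E) (toUnit E ≫ y)
    have hk' : ∀ {T : Over (Spec (CommRingCat.of K))} (g : T ⟶ E),
        (g ≫ k) ≫ i = g * (toUnit T ≫ y) * g⁻¹ * (toUnit T ≫ y)⁻¹ := by
      intro T g
      rw [Category.assoc, hk]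
      simp only [MonObj.comp_mul, GrpObj.comp_inv, Category.comp_id]
      rw [← Category.assoc, toUnit_unique (g ≫ toUnit E) (toUnit T)]
    have hkm : IsMonHom k := isMonHom_of_pts k fun T a b => by
      rw [← cancel_mono i, MonObj.mul_comp (a ≫ k) (b ≫ k) i, hk', hk', hk']
      exact hbim a b _
    have hik : i ≫ k = toUnit N ≫ η[N] := by
      have h2 := hcen (toUnit N ≫ y) (𝟙 N)
      rw [Category.id_comp] at h2
      rw [← cancel_mono i, hk', ← h2, mul_inv_cancel_right, mul_inv_cancel, Category.assoc, IsMonHom.one_hom]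
      rfl
    obtain ⟨kb, hkb1, hkb2, -⟩ := S3280.result K E N Q N q i hK k hik
    have hkb3 : kb = 1 := by
      refine hQ kb fun n z hz => ?_
      obtain ⟨g, rfl⟩ := exists_pt_lift q z
      rw [Category.assoc, hkb2]
      -- the map `y ↦ [g, y]`
      obtain ⟨c, hc⟩ := hcomm (toUnit E ≫ g) (𝟙 E)
      have hc' : ∀ (m : ℕ), (c ^ m : E ⟶ N) ≫ i = (toUnit E ≫ g) ^ m * 𝟙 E * ((toUnit E ≫ g) ^ m)⁻¹ * (𝟙 E)⁻¹ := by
        intro m
        induction m with
        | zero => rw [pow_zero, pow_zero, MonObj.one_comp]; group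
        | succ m ih => rw [pow_succ, pow_succ, MonObj.mul_comp, ih, hc, hbim]
      have h2 : c = 1 := by
        refine eq_of_pow_eq (l ^ n) (by push_cast; exact pow_ne_zero _ hl) c _ ?_ (1 : 𝟙_ _ ⟶ E) ?_
        · rw [← MonObj.pow_comp] at hz
          obtain ⟨w, hw⟩ := exists_lift_ker hK _ hz
          rw [← cancel_mono i, hc', ← MonObj.comp_pow, ← hw, ← Category.assoc, ← hcen, mul_inv_cancel_right,
            mul_inv_cancel, one_pow, MonObj.one_comp]
        · rw [← cancel_mono i, Category.assoc, hc]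
          simp only [MonObj.comp_mul, GrpObj.comp_inv, Category.comp_id, MonObj.comp_one, MonObj.one_comp]
          group
      have h3 := congrArg (fun z => y ≫ z) hc
      beta_reduce at h3
      rw [h2, MonObj.one_comp, MonObj.comp_one] at h3
      simp only [MonObj.comp_mul, GrpObj.comp_inv, Category.comp_id] at h3
      rw [← Category.assoc, toUnit_unique (y ≫ toUnit E) (𝟙 _), Category.id_comp] at h3
      rw [← cancel_mono i, MonObj.one_comp, hk', toUnit_unique (toUnit (𝟙_ (Over (Spec (CommRingCat.of K))))) (𝟙 _),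
        Category.id_comp]
      exact h3.symm
    have h1 : (g ≫ k) ≫ i = 1 := by
      rw [← hkb2, hkb3, MonObj.comp_one, MonObj.comp_one, MonObj.one_comp]
    rw [hk', toUnit_unique (toUnit (𝟙_ (Over (Spec (CommRingCat.of K))))) (𝟙 _), Category.id_comp] at h1
    rw [mul_inv_eq_one, mul_inv_eq_iff_eq_mul] at h1
    exact h1
  have h1 : fst E E * snd E E = snd E E * fst E E := by
    refine K718.KPts.hom_ext_pt₂ fun g y => ?_
    rw [MonObj.comp_mul, MonObj.comp_mul, lift_fst, lift_snd]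
    exact key g y
  constructor
  rw [Hom.mul_def, Hom.mul_def, lift_fst_snd, Category.id_comp] at h1
  have h3 : (β_ E E).hom = lift (snd E E) (fst E E) := by
    apply CartesianMonoidalCategory.hom_ext <;> simp
  rw [h3, ← h1]

end Groth.Agent.AlgGrp.K408.ExtComm
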