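import Mathlib.RingTheory.Smooth.Basic
import Mathlib.RingTheory.FinitePresentation

/-!
# Fixed loci of finite groups of invertible order acting on a smooth algebra

For a finite family `ρ` of `A`-algebra endomorphisms of `B` stable under composition, of invertible
cardinality, the quotient `B / (b - ρ g b)` is formally smooth over `A` if `B` is, and of finite
presentation if `B` is.
-/

namespace K408.FixAlg

universe u v w

variable {A : Type u} {B : Type v} [CommRing A] [CommRing B] [Algebra A B]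
  {G : Type w}

/-- The ideal of the fixed locus. -/
def fixIdeal (ρ : G → B →ₐ[A] B) : Ideal B := Ideal.span {x | ∃ g b, x = b - ρ g b}

lemma sub_mem (ρ : G → B →ₐ[A] B) (g : G) (b : B) : b - ρ g b ∈ fixIdeal ρ :=
  Ideal.subset_span ⟨g, b, rfl⟩

lemma fixIdeal_le_iff (ρ : G → B →ₐ[A] B) (J : Ideal B) :
    fixIdeal ρ ≤ J ↔ ∀ g b, b - ρ g b ∈ J := by
  constructor
  · intro h g b
    exact h (sub_mem ρ g b)
  · intro h
    rw [fixIdeal, Ideal.span_le]
    rintro _ ⟨g, b, rfl⟩
    exact h g b

/-- The fixed ideal is generated by the differences of a set of algebra generators. -/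
lemma fixIdeal_eq_of_adjoin (ρ : G → B →ₐ[A] B) (s : Set B) (hs : Algebra.adjoin A s = ⊤) :
    fixIdeal ρ = Ideal.span (Set.range fun p : G × s => (p.2 : B) - ρ p.1 p.2) := by
  apply le_antisymm
  · rw [fixIdeal_le_iff]
    intro g b
    have hb : b ∈ Algebra.adjoin A s := by rw [hs]; trivial
    induction hb using Algebra.adjoin_induction with
    | mem x hx => exact Ideal.subset_span ⟨(g, ⟨x, hx⟩), rfl⟩
    | algebraMap r => simp
    | add x y _ _ hx hy =>
      have : x + y - ρ g (x + y) = (x - ρ g x) + (y - ρ g y) := by simp; ring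
      rw [this]; exact Ideal.add_mem _ hx hy
    | mul x y _ _ hx hy =>
      have : x * y - ρ g (x * y) = x * (y - ρ g y) + ρ g y * (x - ρ g x) := by simp; ring
      rw [this]
      exact Ideal.add_mem _ (Ideal.mul_mem_left _ _ hy) (Ideal.mul_mem_left _ _ hx)
  · rw [Ideal.span_le]
    rintro _ ⟨p, rfl⟩
    exact sub_mem ρ _ _

lemma fixIdeal_fg [Finite G] [Algebra.FiniteType A B] (ρ : G → B →ₐ[A] B) : (fixIdeal ρ).FG := by
  obtain ⟨s, hs⟩ := ‹Algebra.FiniteType A B›.out
  rw [fixIdeal_eq_of_adjoin ρ (s : Set B) hs]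
  have hfin : Finite ((s : Set B) : Type _) := Finset.finite_toSet s
  exact Submodule.fg_span (Set.finite_range _)

lemma finitePresentation [Finite G] [Algebra.FinitePresentation A B] (ρ : G → B →ₐ[A] B) :
    Algebra.FinitePresentation A (B ⧸ fixIdeal ρ) :=
  Algebra.FinitePresentation.quotient (fixIdeal_fg ρ)

/-- Averaging. -/
lemma exists_average {R : Type*} [CommRing R] [Algebra A R] (I : Ideal R) (hI : I ^ 2 = ⊥)
    [Fintype G] (hG : IsUnit (Fintype.card G : A)) (φ : G → B →ₐ[A] R)
    (h : ∀ g g' b, φ g b - φ g' b ∈ I) [Nonempty G] :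
    ∃ ψ : B →ₐ[A] R, (∀ b, (Fintype.card G : R) * ψ b = ∑ g, φ g b) := by
  classical
  obtain ⟨u, hu⟩ := hG
  let c : R := algebraMap A R ↑(u⁻¹)
  have hc : (Fintype.card G : R) * c = 1 := by
    have : (Fintype.card G : R) = algebraMap A R (Fintype.card G : A) := by simp
    rw [this, ← hu, ← map_mul]; simp
  let g₀ : G := Classical.arbitrary G
  have hII : ∀ x ∈ I, ∀ y ∈ I, x * y = 0 := by
    intro x hx y hy
    have : x * y ∈ I ^ 2 := by rw [pow_two]; exact Ideal.mul_mem_mul hx hy
    rw [hI] at this; exact this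
  have hsum : ∀ b, ∑ g, φ g b = (Fintype.card G : R) * φ g₀ b + ∑ g, (φ g b - φ g₀ b) := by
    intro b
    rw [Finset.sum_sub_distrib]; simp
  let D : B → R := fun b => c * ∑ g, (φ g b - φ g₀ b)
  have hD : ∀ b, c * ∑ g, φ g b = φ g₀ b + D b := by
    intro b
    rw [hsum, mul_add, ← mul_assoc, mul_comm c, hc, one_mul]
  have hDI : ∀ b, D b ∈ I := fun b => Ideal.mul_mem_left _ _ (Ideal.sum_mem _ fun g _ => h _ _ _)
  have hDmul : ∀ b b', D (b * b') = φ g₀ b * D b' + φ g₀ b' * D b := by
    intro b b'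
    have : ∀ g, φ g (b * b') - φ g₀ (b * b') =
        φ g₀ b * (φ g b' - φ g₀ b') + φ g₀ b' * (φ g b - φ g₀ b) := by
      intro g
      have := hII _ (h g g₀ b) _ (h g g₀ b')
      rw [map_mul, map_mul]
      linear_combination this
    simp only [D]
    rw [Finset.sum_congr rfl fun g _ => this g, Finset.sum_add_distrib, ← Finset.mul_sum,
      ← Finset.mul_sum]
    ring
  refine ⟨{ toFun := fun b => c * ∑ g, φ g b
            map_one' := ?_
            map_mul' := ?_
            map_zero' := by simp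
            map_add' := ?_
            commutes' := ?_ }, ?_⟩
  · simp only [map_one, Finset.sum_const, Finset.card_univ, nsmul_eq_mul, mul_one]
    rw [mul_comm]; exact hc
  · intro b b'
    rw [hD, hD, hD, hDmul, map_mul]
    have := hII _ (hDI b) _ (hDI b')
    linear_combination -this
  · intro b b'
    simp only [map_add, Finset.sum_add_distrib]; ring
  · intro a
    simp only [AlgHom.commutes, Finset.sum_const, Finset.card_univ, nsmul_eq_mul]
    rw [← mul_assoc, mul_comm c, hc, one_mul]
  · intro b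
    change (Fintype.card G : R) * (c * ∑ g, φ g b) = _
    rw [← mul_assoc, hc, one_mul]

/-- The quotient defining the fixed locus of a finite group of invertible order is formally smooth. -/
theorem formallySmooth [Finite G] [Nonempty G] (hG : IsUnit (Nat.card G : A)) (ρ : G → B →ₐ[A] B)
    (hρ : ∀ h, ∃ e : G ≃ G, ∀ g b, ρ g (ρ h b) = ρ (e g) b)
    [Algebra.FormallySmooth A B] : Algebra.FormallySmooth A (B ⧸ fixIdeal ρ) := by
  classical
  cases nonempty_fintype G
  rw [Nat.card_eq_fintype_card] at hG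
  refine Algebra.FormallySmooth.of_comp_surjective ?_
  intro R _ _ I hI f
  let f' : B →ₐ[A] R ⧸ I := f.comp (Ideal.Quotient.mkₐ A (fixIdeal ρ))
  obtain ⟨φ, hφ⟩ := Algebra.FormallySmooth.comp_surjective A B I hI f'
  have hφ' : ∀ b, Ideal.Quotient.mk I (φ b) = f (Ideal.Quotient.mk _ b) := fun b =>
    DFunLike.congr_fun hφ b
  have hf' : ∀ g b, f (Ideal.Quotient.mk _ (ρ g b)) = f (Ideal.Quotient.mk _ b) := by
    intro g b
    congr 1
    rw [eq_comm, Ideal.Quotient.eq]
    exact sub_mem ρ g b
  obtain ⟨ψ, hψ⟩ := exists_average (G := G) I hI hG (fun g => φ.comp (ρ g)) (by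
    intro g g' b
    rw [← Ideal.Quotient.eq]
    simp only [AlgHom.comp_apply]
    rw [hφ', hφ', hf', hf'])
  have hcard : IsUnit (Fintype.card G : R) := by
    have : (Fintype.card G : R) = algebraMap A R (Fintype.card G : A) := by simp
    rw [this]; exact hG.map _
  have hψρ : ∀ h b, ψ (ρ h b) = ψ b := by
    intro h b
    apply hcard.mul_left_cancel
    rw [hψ, hψ]
    obtain ⟨e, he⟩ := hρ h
    simp only [AlgHom.comp_apply, he]
    exact Equiv.sum_comp e (fun g => φ (ρ g b))
  have hle : fixIdeal ρ ≤ RingHom.ker ψ := by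
    rw [fixIdeal_le_iff]
    intro g b
    rw [RingHom.mem_ker, map_sub, hψρ, sub_self]
  refine ⟨Ideal.Quotient.liftₐ _ ψ hle, ?_⟩
  apply Ideal.Quotient.algHom_ext
  ext b
  change Ideal.Quotient.mk I (ψ b) = f (Ideal.Quotient.mk _ b)
  have hcard' : IsUnit (Fintype.card G : R ⧸ I) := by
    have : (Fintype.card G : R ⧸ I) = Ideal.Quotient.mk I (Fintype.card G : R) := by simp
    rw [this]; exact hcard.map _
  apply hcard'.mul_left_cancel
  have h1 : (Fintype.card G : R ⧸ I) * Ideal.Quotient.mk I (ψ b) =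
      Ideal.Quotient.mk I ((Fintype.card G : R) * ψ b) := by simp
  rw [h1, hψ, map_sum]
  simp only [AlgHom.comp_apply]
  rw [Finset.sum_congr rfl (fun g _ => (hφ' (ρ g b)).trans (hf' g b))]
  simp

theorem smooth [Finite G] [Nonempty G] (hG : IsUnit (Nat.card G : A)) (ρ : G → B →ₐ[A] B)
    (hρ : ∀ h, ∃ e : G ≃ G, ∀ g b, ρ g (ρ h b) = ρ (e g) b)
    [Algebra.Smooth A B] : Algebra.Smooth A (B ⧸ fixIdeal ρ) :=
  have := formallySmooth hG ρ hρ
  have := finitePresentation ρ
  { }

end K408.FixAlg
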