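import Mathlib.AlgebraicGeometry.Morphisms.Smooth
import Mathlib.AlgebraicGeometry.Morphisms.Separated
import Mathlib.AlgebraicGeometry.Morphisms.ClosedImmersion
import Mathlib.CategoryTheory.Comma.Over.Basic
import Mathlib.CategoryTheory.Endomorphism
import Mathlib.SetTheory.Cardinal.Finite
import Groth.Agent.AlgGrp.K408.FixAlg

/-!
# Fixed-point schemes of finite groups
-/

set_option autoImplicit false
universe u v
open CategoryTheory AlgebraicGeometry Limits TopologicalSpace

namespace K408.FixSch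

section cov

/-- A morphism has a Zariski-local-at-source property if it has it on open immersions covering every point. -/
lemma of_forall_exists {P : MorphismProperty Scheme.{u}} [IsZariskiLocalAtSource P] {X Y : Scheme.{u}}
    (f : X ⟶ Y) (h : ∀ x : X, ∃ (W : Scheme.{u}) (j : W ⟶ X) (_ : IsOpenImmersion j),
      x ∈ Set.range j.base ∧ P (j ≫ f)) : P f := by
  choose W j hj hx hP using h
  let 𝒰 : X.OpenCover :=
    { I₀ := X
      X := W
      f := j
      mem₀ := by
        rw [Scheme.ofArrows_mem_precoverage_iff]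
        exact ⟨fun x => ⟨x, hx x⟩, hj⟩ }
  exact IsZariskiLocalAtSource.of_openCover 𝒰 hP

end cov

section aff

lemma isAffineOpen_iInf_of_le {X : Scheme.{u}} (W : X.Opens) [W.toScheme.IsSeparated] {ι : Type v} [Finite ι]
    [Nonempty ι] (U : ι → X.Opens) (hU : ∀ i, IsAffineOpen (U i)) (hW : ∀ i, U i ≤ W) :
    IsAffineOpen (⨅ i, U i) := by
  have h1 : ∀ i, IsAffineOpen (W.ι ⁻¹ᵁ (U i)) := fun i =>
    (hU i).preimage_of_isOpenImmersion _ (by rw [Scheme.Opens.opensRange_ι]; exact hW i)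
  have h2 : IsAffineOpen (⨅ i, W.ι ⁻¹ᵁ (U i)) := IsAffineOpen.iInf h1
  have h3 := h2.image_of_isOpenImmersion W.ι
  convert h3
  apply Opens.ext
  rw [Opens.coe_iInf]
  ext x
  simp only [Set.mem_iInter, SetLike.mem_coe]
  constructor
  · intro hx
    refine ⟨⟨x, hW (Classical.arbitrary ι) (hx _)⟩, ?_, rfl⟩
    rw [Opens.coe_iInf]
    simp only [Set.mem_iInter]
    exact hx
  · rintro ⟨y, hy, rfl⟩ i
    rw [Opens.coe_iInf] at hy
    simp only [Set.mem_iInter] at hy
    exact hy i

end aff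

variable {S : Scheme.{u}} {X : Over S} {G : Type v} [Group G] (ρ : G →* Aut X)

/-- Step A: the fixed locus of a finite set of automorphisms exists as a closed subscheme. -/
lemma exists_closed [IsSeparated X.hom] (s : Finset G) :
    ∃ (Z : Over S) (j : Z ⟶ X), IsClosedImmersion j.left ∧
      ∀ (T : Over S) (t : T ⟶ X), (∀ g ∈ s, t ≫ (ρ g).hom = t) ↔ ∃ t' : T ⟶ Z, t' ≫ j = t := by
  classical
  induction s using Finset.induction_on with
  | empty =>
    refine ⟨X, 𝟙 X, by rw [Over.id_left]; infer_instance, fun T t => ?_⟩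
    simp
  | insert g s hg ih =>
    obtain ⟨Z, j, hj, h⟩ := ih
    refine ⟨equalizer (j ≫ (ρ g).hom) j, equalizer.ι _ _ ≫ j, ?_, fun T t => ?_⟩
    · rw [Over.comp_left]
      have := isClosedImmersion_equalizer_ι_left (j ≫ (ρ g).hom) j
      infer_instance
    · constructor
      · intro ht
        obtain ⟨t', ht'⟩ := (h T t).1 (fun g' hg' => ht g' (Finset.mem_insert_of_mem hg'))
        refine ⟨equalizer.lift t' ?_, ?_⟩
        · rw [← Category.assoc, ht', ht g (Finset.mem_insert_self _ _)]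
        · rw [equalizer.lift_ι_assoc, ht']
      · rintro ⟨t', rfl⟩ g' hg'
        rw [Finset.mem_insert] at hg'
        rcases hg' with rfl | hg'
        · simp only [Category.assoc]
          rw [equalizer.condition]
        · exact (h T _).2 ⟨t' ≫ equalizer.ι _ _, by simp⟩ g' hg'

variable (Z : Over S) (ι : Z ⟶ X) (hι : ∀ g : G, ι ≫ (ρ g).hom = ι)
    (hZ : ∀ (T : Over S) (t : T ⟶ X), (∀ g : G, t ≫ (ρ g).hom = t) ↔ ∃! t' : T ⟶ Z, t' ≫ ι = t)

include hZ hι in
lemma isClosedImmersion [IsSeparated X.hom] [Finite G] : IsClosedImmersion ι.left := by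
  cases nonempty_fintype G
  obtain ⟨Z', j, hj, h⟩ := exists_closed ρ (Finset.univ : Finset G)
  obtain ⟨e, he⟩ := (h Z ι).1 (fun g _ => hι g)
  have hj' : ∀ g, j ≫ (ρ g).hom = j := fun g => (h Z' j).2 ⟨𝟙 _, by simp⟩ g (Finset.mem_univ _)
  obtain ⟨e', he', -⟩ := (hZ Z' j).1 hj'
  have h1 : e ≫ e' = 𝟙 _ := by
    obtain ⟨a, ha, hau⟩ := (hZ Z ι).1 hι
    rw [hau (e ≫ e') (by simp [he', he]), hau (𝟙 _) (by simp)]
  have h2 : e' ≫ e = 𝟙 _ := by
    have : Mono j.left := inferInstance
    apply Over.OverMorphism.ext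
    rw [← cancel_mono j.left, ← Over.comp_left, ← Over.comp_left, Category.assoc, he, he']
    simp
  obtain ⟨i, rfl⟩ : ∃ i : Z ≅ Z', i.hom = e := ⟨⟨e, e', h1, h2⟩, rfl⟩
  have hi : IsIso i.hom.left := inferInstanceAs (IsIso ((Over.forget S).map i.hom))
  have : ι.left = i.hom.left ≫ j.left := by
    rw [← Over.comp_left]; exact congrArg CommaMorphism.left he.symm
  rw [this]
  exact MorphismProperty.comp_mem _ _ _ inferInstance hj

section chart

variable {ρ}

/-- The ring endomorphism attached to an automorphism preserving an open. -/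
lemma appLE_self_comp {V : S.Opens} {U : X.left.Opens} (e : U ≤ X.hom ⁻¹ᵁ V) (f : X ⟶ X)
    (hf : U ≤ f.left ⁻¹ᵁ U) : X.hom.appLE V U e ≫ f.left.appLE U U hf = X.hom.appLE V U e := by
  rw [Scheme.Hom.appLE_comp_appLE]
  congr 1
  exact Over.w f

end chart

include hZ hι in
lemma exists_chart [Smooth X.hom] [IsSeparated X.hom] [Finite G]
    (hG : IsUnit (Nat.card G : Γ(S, ⊤))) (z : Z.left) :
    ∃ (W : Scheme.{u}) (j : W ⟶ Z.left) (_ : IsOpenImmersion j),
      z ∈ Set.range j.base ∧ Smooth (j ≫ Z.hom) := by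
  classical
  have hcl := isClosedImmersion ρ Z ι hι hZ
  obtain ⟨x, hx⟩ : ∃ x, x = ι.left z := ⟨_, rfl⟩
  -- affine neighbourhoods
  obtain ⟨V, hV, hxV, -⟩ := exists_isAffineOpen_mem_and_subset (X := S) (x := X.hom x) (U := ⊤) trivial
  obtain ⟨U₀, hU₀, hxU₀, hU₀V⟩ := exists_isAffineOpen_mem_and_subset (X := X.left) (x := x)
    (U := X.hom ⁻¹ᵁ V) hxV
  have hρx : ∀ g, (ρ g).hom.left x = x := by
    intro g
    have : ι.left ≫ (ρ g).hom.left = ι.left := by
      rw [← Over.comp_left]; exact congrArg CommaMorphism.left (hι g)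
    rw [hx, ← Scheme.Hom.comp_apply, this]
  have hw : ∀ g, (ρ g).hom.left ≫ X.hom = X.hom := fun g => Over.w _
  have hWsep : (X.hom ⁻¹ᵁ V).toScheme.IsSeparated := by
    have h1 : IsSeparated (X.hom ∣_ V) := inferInstance
    have hVaff : IsAffine V.toScheme := hV
    constructor
    have : terminal.from (X.hom ⁻¹ᵁ V).toScheme = (X.hom ∣_ V) ≫ terminal.from _ := Subsingleton.elim _ _
    rw [this]
    infer_instance
  let U : X.left.Opens := ⨅ g : G, (ρ g).hom.left ⁻¹ᵁ U₀
  have hUmem : ∀ y, y ∈ U ↔ ∀ g, (ρ g).hom.left y ∈ U₀ := by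
    intro y
    change y ∈ ((⨅ g : G, (ρ g).hom.left ⁻¹ᵁ U₀ : X.left.Opens) : Set X.left) ↔ _
    rw [Opens.coe_iInf]
    simp only [Set.mem_iInter]
    rfl
  have hUaff : IsAffineOpen U := by
    refine isAffineOpen_iInf_of_le (X.hom ⁻¹ᵁ V) _ (fun g => hU₀.preimage_of_isIso _) (fun g => ?_)
    intro y hy
    have : (ρ g).hom.left y ∈ X.hom ⁻¹ᵁ V := hU₀V hy
    change X.hom y ∈ V
    rw [← hw g, Scheme.Hom.comp_apply]
    exact this
  have hxU : x ∈ U := by
    rw [hUmem]; intro g; rw [hρx]; exact hxU₀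
  have hmul : ∀ g h, (ρ (h * g)).hom = (ρ g).hom ≫ (ρ h).hom := by
    intro g h
    rw [map_mul]; rfl
  have hUst : ∀ g, U ≤ (ρ g).hom.left ⁻¹ᵁ U := by
    intro g y hy
    rw [hUmem] at hy
    change (ρ g).hom.left y ∈ U
    rw [hUmem]
    intro h
    have := hy (h * g)
    rw [hmul, Over.comp_left, Scheme.Hom.comp_apply] at this
    exact this
  have hUV : U ≤ X.hom ⁻¹ᵁ V := by
    intro y hy
    rw [hUmem] at hy
    change X.hom y ∈ V
    rw [← hw 1, Scheme.Hom.comp_apply]
    exact hU₀V (hy 1)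
  -- the rings
  let : Algebra Γ(S, V) Γ(X.left, U) := (X.hom.appLE V U hUV).hom.toAlgebra
  have hsm : (X.hom.appLE V U hUV).hom.Smooth := Scheme.Hom.smooth_appLE X.hom hV hUaff hUV
  have : Algebra.Smooth Γ(S, V) Γ(X.left, U) := hsm
  have hcomm : ∀ g, X.hom.appLE V U hUV ≫ (ρ g).hom.left.appLE U U (hUst g) = X.hom.appLE V U hUV :=
    fun g => appLE_self_comp _ _ _
  let σ : G → Γ(X.left, U) →ₐ[Γ(S, V)] Γ(X.left, U) := fun g =>
    { ((ρ g).hom.left.appLE U U (hUst g)).hom with
      commutes' := fun a => by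
        have := congrArg (fun f => f.hom a) (hcomm g)
        exact this }
  have hσ : ∀ g b, σ g b = ((ρ g).hom.left.appLE U U (hUst g)).hom b := fun g b => rfl
  have hσmul : ∀ h, ∃ e : G ≃ G, ∀ g b, σ g (σ h b) = σ (e g) b := by
    intro h
    refine ⟨Equiv.mulLeft h, fun g b => ?_⟩
    rw [hσ, hσ, hσ]
    have : (ρ h).hom.left.appLE U U (hUst h) ≫ (ρ g).hom.left.appLE U U (hUst g) =
        (ρ (h * g)).hom.left.appLE U U (hUst (h * g)) := by
      rw [Scheme.Hom.appLE_comp_appLE]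
      congr 1
      rw [hmul, Over.comp_left]
    exact congrArg (fun f => f.hom b) this
  have hGV : IsUnit (Nat.card G : Γ(S, V)) := by
    have : (Nat.card G : Γ(S, V)) = (S.presheaf.map (homOfLE (le_top : V ≤ ⊤)).op).hom (Nat.card G : Γ(S, ⊤)) := by
      simp
    rw [this]; exact hG.map _
  have hCsm : Algebra.Smooth Γ(S, V) (Γ(X.left, U) ⧸ FixAlg.fixIdeal σ) := FixAlg.smooth hGV σ hσmul
  let q : Γ(X.left, U) ⟶ CommRingCat.of (Γ(X.left, U) ⧸ FixAlg.fixIdeal σ) :=
    CommRingCat.ofHom (Ideal.Quotient.mk _)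
  have hq : ∀ g, (ρ g).hom.left.appLE U U (hUst g) ≫ q = q := by
    intro g
    ext b
    change Ideal.Quotient.mk _ (σ g b) = Ideal.Quotient.mk _ b
    rw [eq_comm, Ideal.Quotient.eq]
    exact FixAlg.sub_mem σ g b
  let T : Over S := Over.mk ((Spec.map q ≫ hUaff.fromSpec) ≫ X.hom)
  let t : T ⟶ X := Over.homMk (Spec.map q ≫ hUaff.fromSpec) rfl
  have ht : ∀ g, t ≫ (ρ g).hom = t := by
    intro g
    apply Over.OverMorphism.ext
    change (Spec.map q ≫ hUaff.fromSpec) ≫ (ρ g).hom.left = Spec.map q ≫ hUaff.fromSpec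
    rw [Category.assoc, ← IsAffineOpen.SpecMap_appLE_fromSpec _ hUaff hUaff (hUst g), ← Spec.map_comp_assoc, hq]
  obtain ⟨t', ht', -⟩ := (hZ T t).1 ht
  have ht'l : t'.left ≫ ι.left = Spec.map q ≫ hUaff.fromSpec := by
    rw [← Over.comp_left, ht']; rfl
  have hqcl : IsClosedImmersion (Spec.map q) := IsClosedImmersion.spec_of_surjective _ Ideal.Quotient.mk_surjective
  have hkey : ∀ (R : CommRingCat.{u}) (φ : Γ(X.left, U) ⟶ R) (H : ∀ a ∈ FixAlg.fixIdeal σ, φ.hom a = 0),
      q ≫ CommRingCat.ofHom (Ideal.Quotient.lift _ φ.hom H) = φ := fun R φ H => by ext b; rfl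
  have hpb : IsPullback t'.left (Spec.map q) ι.left hUaff.fromSpec := by
    refine ⟨⟨ht'l⟩, ⟨PullbackCone.IsLimit.mk _ (fun s => ?_) ?_ ?_ ?_⟩⟩
    · -- the lift
      refine s.pt.toSpecΓ ≫ Spec.map (CommRingCat.ofHom (Ideal.Quotient.lift (FixAlg.fixIdeal σ)
        ((Scheme.ΓSpecIso Γ(X.left, U)).inv ≫ s.snd.appTop).hom ?_))
      intro a ha
      have hle : FixAlg.fixIdeal σ ≤ RingHom.ker ((Scheme.ΓSpecIso Γ(X.left, U)).inv ≫ s.snd.appTop).hom := by
        rw [FixAlg.fixIdeal_le_iff]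
        intro g b
        rw [RingHom.mem_ker, map_sub, sub_eq_zero, hσ]
        have h1 : s.snd ≫ Spec.map ((ρ g).hom.left.appLE U U (hUst g)) = s.snd := by
          rw [← cancel_mono hUaff.fromSpec, Category.assoc, IsAffineOpen.SpecMap_appLE_fromSpec _ hUaff hUaff,
            ← Category.assoc, ← s.condition, Category.assoc]
          congr 1
          rw [← Over.comp_left]; exact congrArg CommaMorphism.left (hι g)
        have h2 : (ρ g).hom.left.appLE U U (hUst g) ≫ (Scheme.ΓSpecIso Γ(X.left, U)).inv ≫ s.snd.appTop =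
            (Scheme.ΓSpecIso Γ(X.left, U)).inv ≫ s.snd.appTop := by
          rw [← Category.assoc, Scheme.ΓSpecIso_inv_naturality, Category.assoc, ← Scheme.Hom.comp_appTop, h1]
        exact (congrArg (fun f => f.hom b) h2).symm
      exact hle ha
    · intro s
      have hmono : Mono ι.left := inferInstance
      rw [← cancel_mono ι.left, Category.assoc, ht'l, Category.assoc, ← Spec.map_comp_assoc]
      refine Eq.trans ?_ s.condition.symm
      rw [hkey, Spec.map_comp, ← Category.assoc, ← Category.assoc, ← Scheme.toSpecΓ_naturality]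
      simp
    · intro s
      rw [Category.assoc, ← Spec.map_comp]
      rw [hkey, Spec.map_comp, ← Category.assoc, ← Scheme.toSpecΓ_naturality]
      simp
    · intro s m h1 h2
      have hmono : Mono (Spec.map q) := inferInstance
      rw [← cancel_mono (Spec.map q), h2, Category.assoc, ← Spec.map_comp]
      rw [hkey, Spec.map_comp, ← Category.assoc, ← Scheme.toSpecΓ_naturality]
      simp
  have hopen : IsOpenImmersion t'.left := MorphismProperty.of_isPullback hpb.flip inferInstance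
  refine ⟨_, t'.left, hopen, ?_, ?_⟩
  · obtain ⟨w, hw⟩ : x ∈ Set.range hUaff.fromSpec.base := by
      rw [hUaff.range_fromSpec]; exact hxU
    obtain ⟨p, hp, -⟩ := Scheme.Pullback.exists_preimage_pullback (f := ι.left) (g := hUaff.fromSpec) z w
      (by rw [← hx]; exact hw.symm)
    refine ⟨hpb.isoPullback.inv p, ?_⟩
    rw [← Scheme.Hom.comp_apply, hpb.isoPullback_inv_fst]
    exact hp
  · rw [Over.w t']
    change Smooth ((Spec.map q ≫ hUaff.fromSpec) ≫ X.hom)
    rw [Category.assoc, ← IsAffineOpen.SpecMap_appLE_fromSpec _ hV hUaff hUV, ← Spec.map_comp_assoc]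
    have : Smooth (Spec.map (X.hom.appLE V U hUV ≫ q)) := by
      rw [HasRingHomProperty.Spec_iff (P := @Smooth)]
      exact hCsm
    infer_instance

include hZ hι in
theorem main [Smooth X.hom] [QuasiCompact X.hom] [IsSeparated X.hom] [Finite G]
    (hG : IsUnit (Nat.card G : Γ(S, ⊤))) :
    IsClosedImmersion ι.left ∧ Smooth Z.hom ∧ QuasiCompact Z.hom ∧ QuasiSeparated Z.hom := by
  have hcl := isClosedImmersion ρ Z ι hι hZ
  have hw : ι.left ≫ X.hom = Z.hom := Over.w ι
  refine ⟨hcl, of_forall_exists _ (fun z => exists_chart ρ Z ι hι hZ hG z), ?_, ?_⟩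
  · rw [← hw]; infer_instance
  · rw [← hw]; infer_instance

end K408.FixSch
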