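import Mathlib.AlgebraicGeometry.Sites.Fpqc
import Mathlib.AlgebraicGeometry.Restrict

/-!
# Descent of functions along fpqc morphisms
-/

set_option autoImplicit false
universe u

open CategoryTheory AlgebraicGeometry Opposite

namespace K408.FunDesc

/-- The coordinate ring of the affine line. -/
noncomputable abbrev ZX : CommRingCat.{u} := CommRingCat.of (Polynomial (ULift.{u} ℤ))

/-- The ring homomorphism given by an element. -/
noncomputable def evx {R : CommRingCat.{u}} (s : R) : ZX.{u} ⟶ R :=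
  CommRingCat.ofHom (Polynomial.eval₂RingHom ((Int.castRingHom R).comp ULift.ringEquiv.toRingHom) s)

theorem evx_X {R : CommRingCat.{u}} (s : R) : (evx s).hom (Polynomial.X : Polynomial (ULift.{u} ℤ)) = s :=
  Polynomial.eval₂_X _ _

theorem ulift_int_hom_ext {R : Type u} [CommRing R] (f g : ULift.{u} ℤ →+* R) : f = g := by
  have h := RingHom.ext_int (f.comp (ULift.ringEquiv (R := ℤ)).symm.toRingHom)
    (g.comp (ULift.ringEquiv (R := ℤ)).symm.toRingHom)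
  refine RingHom.ext fun n => ?_
  obtain ⟨n⟩ := n
  exact DFunLike.congr_fun h n

theorem evx_comp {R R' : CommRingCat.{u}} (s : R) (φ : R ⟶ R') : evx s ≫ φ = evx (φ.hom s) := by
  ext1
  refine Polynomial.ringHom_ext' (ulift_int_hom_ext _ _) ?_
  · change φ.hom ((evx s).hom Polynomial.X) = (evx (φ.hom s)).hom Polynomial.X
    rw [evx_X, evx_X]

/-- The morphism to the line defined by a function. -/
noncomputable def mor {X : Scheme.{u}} (s : Γ(X, ⊤)) : X ⟶ Spec ZX.{u} := X.toSpecΓ ≫ Spec.map (evx s)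

/-- The function defined by a morphism to the line. -/
noncomputable def coord {X : Scheme.{u}} (g : X ⟶ Spec ZX.{u}) : Γ(X, ⊤) :=
  g.appTop.hom ((Scheme.ΓSpecIso ZX.{u}).inv.hom (Polynomial.X : Polynomial (ULift.{u} ℤ)))

theorem comp_mor {X Y : Scheme.{u}} (f : X ⟶ Y) (s : Γ(Y, ⊤)) : f ≫ mor s = mor (f.appTop.hom s) := by
  rw [mor, ← Category.assoc, Scheme.toSpecΓ_naturality, Category.assoc, ← Spec.map_comp, evx_comp, mor]

theorem coord_comp {X Y : Scheme.{u}} (f : X ⟶ Y) (g : Y ⟶ Spec ZX.{u}) :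
    coord (f ≫ g) = f.appTop.hom (coord g) := by
  rw [coord, Scheme.Hom.comp_appTop]
  rfl

theorem coord_mor {X : Scheme.{u}} (s : Γ(X, ⊤)) : coord (mor s) = s := by
  have h : (Scheme.ΓSpecIso ZX.{u}).inv ≫ (X.toSpecΓ ≫ Spec.map (evx s)).appTop = evx s := by
    rw [Scheme.Hom.comp_appTop, ← Category.assoc, ← Scheme.ΓSpecIso_inv_naturality, Category.assoc,
      Scheme.toSpecΓ_appTop, Iso.inv_hom_id, Category.comp_id]
  exact (congrArg (fun φ => φ.hom (Polynomial.X : Polynomial (ULift.{u} ℤ))) h).trans (evx_X s)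

/-- Functions descend along effective epimorphisms. -/
theorem exists_desc_top {X Y : Scheme.{u}} (f : X ⟶ Y) [EffectiveEpi f] (s : Γ(X, ⊤))
    (h : ∀ (Z : Scheme.{u}) (g₁ g₂ : Z ⟶ X), g₁ ≫ f = g₂ ≫ f → g₁.appTop.hom s = g₂.appTop.hom s) :
    ∃ t : Γ(Y, ⊤), f.appTop.hom t = s := by
  have h' : ∀ {Z : Scheme.{u}} (g₁ g₂ : Z ⟶ X), g₁ ≫ f = g₂ ≫ f → g₁ ≫ mor s = g₂ ≫ mor s := by
    intro Z g₁ g₂ hg
    rw [comp_mor, comp_mor, h Z g₁ g₂ hg]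
  refine ⟨coord (EffectiveEpi.desc f (mor s) h'), ?_⟩
  rw [← coord_comp, EffectiveEpi.fac, coord_mor]

/-- Descent of functions on an open. -/
theorem exists_desc {X Y P : Scheme.{u}} (f : X ⟶ Y) [Flat f] [QuasiCompact f] (V : Y.Opens)
    (hV : (V : Set Y) ⊆ Set.range f) (s : Γ(X, f ⁻¹ᵁ V)) (p₁ p₂ : P ⟶ X) (hsq : IsPullback p₁ p₂ f f)
    (hle : p₁ ⁻¹ᵁ f ⁻¹ᵁ V ≤ p₂ ⁻¹ᵁ f ⁻¹ᵁ V)
    (h : (p₁.app (f ⁻¹ᵁ V)).hom s = (p₂.appLE (f ⁻¹ᵁ V) (p₁ ⁻¹ᵁ f ⁻¹ᵁ V) hle).hom s) :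
    ∃ t : Γ(Y, V), (f.app V).hom t = s := by
  let W : X.Opens := f ⁻¹ᵁ V
  have hsurj : Surjective (f ∣_ V) := by
    refine ⟨fun y => ?_⟩
    obtain ⟨x, hx⟩ := hV y.2
    have hxV : x ∈ f ⁻¹ᵁ V := by
      change f x ∈ V
      rw [hx]
      exact y.2
    exact ⟨⟨x, hxV⟩, Subtype.ext ((morphismRestrict_base_coe f V ⟨x, hxV⟩).trans hx)⟩
  have hflat : Flat (f ∣_ V) := inferInstance
  have hqc : QuasiCompact (f ∣_ V) := inferInstance
  have key : ∀ {Z : Scheme.{u}} (g : Z ⟶ W) (hg : ⊤ ≤ (g ≫ W.ι) ⁻¹ᵁ W),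
      g.appTop.hom ((Scheme.Opens.topIso W).inv.hom s) = ((g ≫ W.ι).appLE W ⊤ hg).hom s := by
    intro Z g hg
    have h1 : (Scheme.Opens.topIso W).inv = W.ι.appLE W ⊤ W.ι_preimage_self.ge := by
      rw [Scheme.Opens.ι_appLE, Scheme.Opens.topIso_inv]
      rfl
    have h2 : (g ≫ W.ι).appLE W ⊤ hg = (Scheme.Opens.topIso W).inv ≫ g.appTop := by
      have h3 : g.appTop = g.appLE ⊤ ⊤ le_top := Scheme.Hom.app_eq_appLE g
      rw [h1, h3, Scheme.Hom.appLE_comp_appLE]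
    rw [h2]
    rfl
  obtain ⟨t, ht⟩ := exists_desc_top (f ∣_ V) ((Scheme.Opens.topIso W).inv.hom s) (fun Z g₁ g₂ hg => by
    have e1 : (g₁ ≫ W.ι) ≫ f = (g₂ ≫ W.ι) ≫ f := by
      have := congrArg (fun φ => φ ≫ V.ι) hg
      simpa [morphismRestrict_ι] using this
    let l : Z ⟶ P := hsq.lift (g₁ ≫ W.ι) (g₂ ≫ W.ι) e1
    have hl1 : l ≫ p₁ = g₁ ≫ W.ι := hsq.lift_fst _ _ _
    have hl2 : l ≫ p₂ = g₂ ≫ W.ι := hsq.lift_snd _ _ _
    have hg₁ : ⊤ ≤ (g₁ ≫ W.ι) ⁻¹ᵁ W := fun z _ => (g₁ z).2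
    have hg₂ : ⊤ ≤ (g₂ ≫ W.ι) ⁻¹ᵁ W := fun z _ => (g₂ z).2
    have hlt : ⊤ ≤ l ⁻¹ᵁ p₁ ⁻¹ᵁ W := by
      rw [← Scheme.Hom.comp_preimage, hl1]; exact hg₁
    rw [key g₁ hg₁, key g₂ hg₂]
    have a1 : ((g₁ ≫ W.ι).appLE W ⊤ hg₁) = p₁.app W ≫ l.appLE (p₁ ⁻¹ᵁ W) ⊤ hlt := by
      rw [← Scheme.Hom.comp_appLE]
      simp only [hl1]
    have a2 : ((g₂ ≫ W.ι).appLE W ⊤ hg₂) = p₂.appLE W (p₁ ⁻¹ᵁ W) hle ≫ l.appLE (p₁ ⁻¹ᵁ W) ⊤ hlt := by
      rw [Scheme.Hom.appLE_comp_appLE]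
      simp only [hl2]
    rw [a1, a2, CommRingCat.comp_apply, CommRingCat.comp_apply]
    exact congrArg _ h)
  refine ⟨(Scheme.Opens.topIso V).hom.hom t, ?_⟩
  have h5 : (Scheme.Opens.topIso V).hom ≫ f.app V = (f ∣_ V).appTop ≫ (Scheme.Opens.topIso W).hom := by
    have a1 : (Scheme.Opens.topIso V).hom ≫ f.app V =
        f.appLE (V.ι ''ᵁ ⊤) (f ⁻¹ᵁ V) (f.preimage_mono V.ι_image_top.ge) := by
      rw [Scheme.Hom.app_eq_appLE]
      exact Scheme.Hom.map_appLE f _ _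
    have a2 : (f ∣_ V).appTop ≫ (Scheme.Opens.topIso W).hom =
        f.appLE (V.ι ''ᵁ ⊤) (f ⁻¹ᵁ V) (f.preimage_mono V.ι_image_top.ge) := by
      rw [Scheme.Hom.appTop, morphismRestrict_app']
      exact Scheme.Hom.appLE_map f _ _
    rw [a1, a2]
  have h6 := congrArg (fun φ => φ.hom t) h5
  refine h6.trans ?_
  change (Scheme.Opens.topIso W).hom.hom ((f ∣_ V).appTop.hom t) = s
  rw [ht]
  exact congrArg (fun φ => φ.hom s) (Scheme.Opens.topIso W).inv_hom_id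

end K408.FunDesc
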