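import Groth.Agent.Sga3B.RootHomDict
import Groth.Agent.Sga3B.DSRigid

/-!
# Homomorphisms from the additive group to diagonalizable groups are trivial
-/

set_option autoImplicit false

universe u

open CategoryTheory MonoidalCategory CartesianMonoidalCategory MonObj GrpObj AlgebraicGeometry Limits Polynomial

namespace Groth.Agent.AlgGrp.K408.GaTor

open Sga3B Sga3B.InfConj Sga3B.InfConjFam Sga3B.DSPts Sga3B.DSRigid Sga3B.RootHomDict Books.AffBridge

variable {K : Type u} [Field K]

theorem pt_hom_ext {T : Over (Spec (CommRingCat.of K))} (a b : T ⟶ pt K K) : a = b := by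
  ext1
  have h : ∀ a : T ⟶ pt K K, a.left = T.hom := by
    intro a
    have h1 := Over.w a
    have h2 : (pt K K).hom = 𝟙 _ := Spec.map_id _
    rw [h2] at h1
    exact (Category.comp_id _).symm.trans h1
  rw [h, h]

/-- Morphisms from the affine line to a diagonalizable group are constant. -/
theorem ga_ds_const {M : Type} [AddCommGroup M]
    (j : Red.Ga (Spec (CommRingCat.of K)) ⟶ Red.DS (Spec (CommRingCat.of K)) M) :
    ∃ (t : Red.Ga (Spec (CommRingCat.of K)) ⟶ pt K K) (p : pt K K ⟶ Red.DS (Spec (CommRingCat.of K)) M), j = t ≫ p := by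
  obtain ⟨χ, hχ⟩ := exists_eq_charPt (R := K) (E := K[X]) (M := M) (gaFrom ≫ j)
  have h1 : ∀ m, ∃ c : K, C c = χ m := by
    intro m
    have h2 : IsUnit (χ m) := (Group.isUnit m).map χ
    obtain ⟨c, -, hc⟩ := Polynomial.isUnit_iff.mp h2
    exact ⟨c, hc⟩
  choose c hc using h1
  let c' : Multiplicative M →* K := {
    toFun := c
    map_one' := by
      apply C_injective
      rw [hc, map_one, map_one]
    map_mul' := fun a b => by
      apply C_injective
      rw [hc, map_mul, map_mul, hc, hc] }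
  have h2 : (((Algebra.ofId K K[X] : K →ₐ[K] K[X]) : K →* K[X]).comp c') = χ := by
    refine MonoidHom.ext fun m => ?_
    exact hc m
  let u : SpecOver K K[X] ⟶ pt K K := ptMap (C := K) (Algebra.ofId K K[X])
  have h3 : u ≫ charPt (C := K) c' = charPt (C := K) χ := by
    have h3 := ptMap_charPt (C := K) (Algebra.ofId K K[X]) c'
    rw [h2] at h3
    exact h3
  refine ⟨gaTo ≫ u, charPt (C := K) c', ?_⟩
  have h4 : (gaTo ≫ u) ≫ charPt (C := K) c' = gaTo ≫ gaFrom ≫ j :=
    (Category.assoc _ _ _).trans (congrArg (fun z => gaTo ≫ z) (h3.trans hχ.symm))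
  rw [h4, ← Category.assoc, gaTo_gaFrom, Category.id_comp]

/-- Homomorphisms from the additive group to diagonalizable groups are trivial. -/
theorem hom_ga_ds_eq_one {M : Type} [AddCommGroup M]
    (j : Red.Ga (Spec (CommRingCat.of K)) ⟶ Red.DS (Spec (CommRingCat.of K)) M) [IsMonHom j] : j = 1 := by
  obtain ⟨t, p, rfl⟩ := ga_ds_const j
  have h1 : η[Red.Ga (Spec (CommRingCat.of K))] ≫ t ≫ p = η := IsMonHom.one_hom (t ≫ p)
  have h2 : t = toUnit _ ≫ η[Red.Ga (Spec (CommRingCat.of K))] ≫ t := pt_hom_ext _ _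
  rw [h2, Category.assoc, Category.assoc, h1, Hom.one_def]

end Groth.Agent.AlgGrp.K408.GaTor
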