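import Mathlib.RingTheory.Flat.Basic
import Mathlib.RingTheory.TensorProduct.Basic
import Mathlib.LinearAlgebra.TensorProduct.Pi

/-!
# Invariants of a representation along a torsor: the algebra

`exists_inv` : abstract form of "the invariant sections generate".
-/

set_option autoImplicit false

universe u

open TensorProduct

namespace Groth.Agent.AlgGrp.K408.InvAlg

variable {R B C₁ C₂ : Type u} [CommRing R] [CommRing B] [CommRing C₁] [CommRing C₂] [Algebra R B] [Algebra R C₁]
  [Algebra R C₂]

/-- the difference of the two coactions on `Bⁿ` -/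
def Phi {n : ℕ} (α s : B →ₐ[R] C₁) (c : Fin n → Fin n → C₁) : (Fin n → B) →ₗ[R] (Fin n → C₁) where
  toFun m r := ∑ l, α (m l) * c l r - s (m r)
  map_add' m m' := by
    ext r
    simp only [Pi.add_apply, map_add, add_mul, Finset.sum_add_distrib]
    ring
  map_smul' t m := by
    ext r
    simp only [Pi.smul_apply, map_smul, smul_mul_assoc, RingHom.id_apply, smul_sub, Finset.smul_sum]

theorem exists_inv [Module.Flat R B] {n : ℕ} (α s : B →ₐ[R] C₁) (c : Fin n → Fin n → C₁)
    (hsurj : Function.Surjective (Algebra.TensorProduct.lift α s fun _ _ => .all _ _))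
    (β : B →ₐ[R] C₂) (σ : C₁ →ₐ[R] C₂)
    (hinj : Function.Injective (Algebra.TensorProduct.lift β σ fun _ _ => .all _ _))
    (e₁ e₂ : C₁ →ₐ[R] C₂) (h1a : e₁.comp α = β) (h1s : e₁.comp s = σ.comp α) (h2a : e₂.comp α = β)
    (h2s : e₂.comp s = σ.comp s) (hc : ∀ j r, ∑ l, e₁ (c j l) * σ (c l r) = e₂ (c j r)) :
    ∃ (ι : Type) (_ : Fintype ι) (m : ι → Fin n → B) (b : Fin n → ι → B),
      (∀ i r, ∑ l, α (m i l) * c l r = s (m i r)) ∧ ∀ j l, ∑ i, α (b j i) * s (m i l) = c j l := by
  classical
  let Φ := Phi α s c
  -- the tensors
  choose z hz using fun j l => hsurj (c j l)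
  let U : Fin n → B ⊗[R] (Fin n → B) := fun j => ∑ l, LinearMap.lTensor B (LinearMap.single R (fun _ => B) l) (z j l)
  have hU : ∀ j, LinearMap.lTensor B Φ (U j) = 0 := by
    intro j
    -- check componentwise
    have key : ∀ y : B ⊗[R] (Fin n → C₁), (∀ r, (Algebra.TensorProduct.lift β σ fun _ _ => .all _ _)
        (LinearMap.lTensor B (LinearMap.proj (R := R) (φ := fun _ : Fin n => C₁) r) y) = 0) → y = 0 := by
      intro y hy
      have h1 : ∀ r, LinearMap.lTensor B (LinearMap.proj (R := R) (φ := fun _ : Fin n => C₁) r) y = 0 := fun r =>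
        hinj (by rw [hy r, map_zero])
      have h2 : y = ∑ r, LinearMap.lTensor B (LinearMap.single R (fun _ : Fin n => C₁) r)
          (LinearMap.lTensor B (LinearMap.proj (R := R) (φ := fun _ : Fin n => C₁) r) y) := by
        have h3 : (LinearMap.id : (Fin n → C₁) →ₗ[R] (Fin n → C₁)) =
            ∑ r, (LinearMap.single R (fun _ : Fin n => C₁) r) ∘ₗ (LinearMap.proj (R := R) (φ := fun _ : Fin n => C₁) r) := by
          refine LinearMap.ext fun m => ?_
          simp only [LinearMap.id_apply, LinearMap.sum_apply, LinearMap.comp_apply, LinearMap.proj_apply,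
            LinearMap.single_apply]
          exact (Finset.univ_sum_single m).symm
        have h4 := congrArg (fun φ => LinearMap.lTensor B φ y) h3
        simp only [LinearMap.lTensor_id, LinearMap.id_apply] at h4
        have h5 : ∀ g : Fin n → ((Fin n → C₁) →ₗ[R] (Fin n → C₁)), LinearMap.lTensor B (∑ r, g r) y =
            ∑ r, LinearMap.lTensor B (g r) y := by
          intro g
          have h6 := map_sum (LinearMap.lTensorHom (R := R) (N := Fin n → C₁) (P := Fin n → C₁) B) g Finset.univ
          exact (congrArg (fun φ => φ y) h6).trans (LinearMap.sum_apply _ _ _)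
        rw [h5] at h4
        refine h4.trans (Finset.sum_congr rfl fun r _ => ?_)
        rw [LinearMap.lTensor_comp, LinearMap.comp_apply]
      rw [h2]
      exact Finset.sum_eq_zero fun r _ => by rw [h1 r, map_zero]
    apply key
    intro r
    -- for a single tensor
    have h5 : ∀ (l : Fin n) (w : B ⊗[R] B), (Algebra.TensorProduct.lift β σ fun _ _ => .all _ _)
        (LinearMap.lTensor B (LinearMap.proj (R := R) (φ := fun _ : Fin n => C₁) r)
          (LinearMap.lTensor B Φ (LinearMap.lTensor B (LinearMap.single R (fun _ => B) l) w))) =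
        e₁ ((Algebra.TensorProduct.lift α s fun _ _ => .all _ _) w) * σ (c l r) -
          (if l = r then e₂ ((Algebra.TensorProduct.lift α s fun _ _ => .all _ _) w) else 0) := by
      intro l w
      induction w using TensorProduct.induction_on with
      | zero => simp
      | add x y hx hy =>
        simp only [map_add, add_mul] at hx hy ⊢
        rw [hx, hy]
        split_ifs <;> ring
      | tmul b b' =>
        have e1a : e₁ (α b) = β b := DFunLike.congr_fun h1a b
        have e1s : e₁ (s b') = σ (α b') := DFunLike.congr_fun h1s b'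
        have e2a : e₂ (α b) = β b := DFunLike.congr_fun h2a b
        have e2s : e₂ (s b') = σ (s b') := DFunLike.congr_fun h2s b'
        simp only [LinearMap.lTensor_tmul, LinearMap.proj_apply, LinearMap.single_apply,
          Algebra.TensorProduct.lift_tmul, map_mul, e1a, e1s, e2a, e2s]
        have h6 : Φ (Pi.single l b') r = α b' * c l r - if l = r then s b' else 0 := by
          change ∑ l', α ((Pi.single l b' : Fin n → B) l') * c l' r - s ((Pi.single l b' : Fin n → B) r) = _
          rw [Finset.sum_eq_single l]
          · rw [Pi.single_eq_same]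
            by_cases h : l = r
            · subst h; simp
            · rw [Pi.single_eq_of_ne (Ne.symm h), map_zero, if_neg h]
          · intro l' _ hl'
            rw [Pi.single_eq_of_ne hl', map_zero, zero_mul]
          · intro h; exact absurd (Finset.mem_univ _) h
        rw [h6]
        by_cases h : l = r
        · simp only [h, if_true, map_sub, map_mul]; ring
        · simp only [h, if_false, sub_zero, map_mul]; ring
    simp only [U, map_sum]
    rw [Finset.sum_congr rfl fun l _ => h5 l (z j l)]
    rw [Finset.sum_sub_distrib, Finset.sum_ite_eq' Finset.univ r]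
    simp only [Finset.mem_univ, if_true, hz, hc, sub_self]
  -- flatness
  have hex : Function.Exact (LinearMap.lTensor B (LinearMap.ker Φ).subtype) (LinearMap.lTensor B Φ) :=
    Module.Flat.lTensor_exact B (LinearMap.exact_subtype_ker_map Φ)
  have hM : ∀ j, ∃ (N : ℕ) (b : Fin N → B) (m : Fin N → LinearMap.ker Φ),
      U j = ∑ i, b i ⊗ₜ[R] (m i : Fin n → B) := by
    intro j
    obtain ⟨y, hy⟩ := (hex (U j)).mp (hU j)
    rw [← hy]
    clear hy
    induction y using TensorProduct.induction_on with
    | zero => exact ⟨0, Fin.elim0, Fin.elim0, by simp⟩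
    | tmul b m => exact ⟨1, fun _ => b, fun _ => m, by simp⟩
    | add x y hx hy =>
      obtain ⟨N, b, m, h⟩ := hx
      obtain ⟨N', b', m', h'⟩ := hy
      refine ⟨N + N', Fin.append b b', Fin.append m m', ?_⟩
      rw [map_add, h, h', Fin.sum_univ_add]
      simp
  choose N b m hbm using hM
  refine ⟨Σ j, Fin (N j), inferInstance, fun i => (m i.1 i.2 : Fin n → B),
    fun j i => if i.1 = j then b i.1 i.2 else 0, ?_, ?_⟩
  · rintro ⟨j, i⟩ r
    have h1 : Φ (m j i : Fin n → B) r = 0 := by
      rw [(m j i).2]; rfl
    exact sub_eq_zero.mp h1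
  · intro j l
    have h1 : (Algebra.TensorProduct.lift α s fun _ _ => .all _ _)
        (LinearMap.lTensor B (LinearMap.proj (R := R) (φ := fun _ : Fin n => B) l) (U j)) = c j l := by
      simp only [U, map_sum]
      rw [Finset.sum_eq_single l]
      · rw [← LinearMap.comp_apply, ← LinearMap.lTensor_comp]
        have : (LinearMap.proj (R := R) (φ := fun _ : Fin n => B) l) ∘ₗ (LinearMap.single R (fun _ => B) l) =
            LinearMap.id := by
          refine LinearMap.ext fun x => ?_
          simp
        rw [this, LinearMap.lTensor_id, LinearMap.id_apply, hz]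
      · intro l' _ hl'
        rw [← LinearMap.comp_apply, ← LinearMap.lTensor_comp]
        have : (LinearMap.proj (R := R) (φ := fun _ : Fin n => B) l) ∘ₗ (LinearMap.single R (fun _ => B) l') = 0 := by
          refine LinearMap.ext fun x => ?_
          simp [Pi.single_eq_of_ne (Ne.symm hl')]
        rw [this, LinearMap.lTensor_zero, LinearMap.zero_apply, map_zero]
      · intro h; exact absurd (Finset.mem_univ _) h
    rw [← h1, hbm j]
    simp only [map_sum, LinearMap.lTensor_tmul, LinearMap.proj_apply, Algebra.TensorProduct.lift_tmul]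
    rw [Fintype.sum_sigma]
    rw [Finset.sum_eq_single j]
    · simp
    · intro j' _ hj'
      simp [hj']
    · intro h; exact absurd (Finset.mem_univ _) h

end Groth.Agent.AlgGrp.K408.InvAlg
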