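import Groth.Agent.Books.BorelOrb
import Groth.Prelude.Def_Desc

/-!
# Descent along a principal bundle of schemes with a group action

`a` is an action of `G` on `X` and `f : X ⟶ Y` is such that the square `(act, snd, f, f)` is cartesian.
An equivariant morphism `p : P ⟶ X` carries a canonical descent datum relative to `f`, and if this datum
is effective there is a quotient `φ : P ⟶ W`, `ψ : W ⟶ Y` with `(p, φ, f, ψ)` cartesian.
-/

set_option autoImplicit false
universe u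
open CategoryTheory CategoryTheory.Limits MonoidalCategory CartesianMonoidalCategory MonObj GrpObj AlgebraicGeometry
open Groth.Agent.Books.BorelOrb

namespace K408.TorsDesc

variable {B : Scheme.{u}}

section

variable {P X Y Z : Over B} {f : P ⟶ X} {g : P ⟶ Y} {h : X ⟶ Z} {k : Y ⟶ Z}

lemma isPullback_left (H : IsPullback f g h k) : IsPullback f.left g.left h.left k.left := H.map (Over.forget B)

lemma isPullback_of_left (H : IsPullback f.left g.left h.left k.left) : IsPullback f g h k :=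
  IsPullback.of_map (Over.forget B) (Over.OverMorphism.ext (by simpa using H.w)) H

end

variable {G X Y P : Over B} [GrpObj G] {a : AlgGrp.Action G X} {f : X ⟶ Y}

/-- points form of a pseudo-torsor square -/
lemma existsUnique_of_sq (hsq : IsPullback a.act (snd G X) f f) {T : Over B} (x₀ x₁ : T ⟶ X)
    (h : x₀ ≫ f = x₁ ≫ f) : ∃! g : T ⟶ G, sm a g x₁ = x₀ := by
  refine ⟨hsq.lift x₀ x₁ h ≫ fst G X, ?_, ?_⟩
  · have h1 : lift (hsq.lift x₀ x₁ h ≫ fst G X) x₁ = hsq.lift x₀ x₁ h := by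
      apply CartesianMonoidalCategory.hom_ext
      · simp
      · simp
    simp only [sm]
    rw [h1, hsq.lift_fst]
  · intro g hg
    have h1 : lift g x₁ = hsq.lift x₀ x₁ h := by
      apply hsq.hom_ext
      · rw [hsq.lift_fst]; exact hg
      · rw [hsq.lift_snd, lift_snd]
    rw [← h1, lift_fst]

lemma sq_of_existsUnique (hw : a.act ≫ f = snd G X ≫ f)
    (h : ∀ (T : Over B) (x₀ x₁ : T ⟶ X), x₀ ≫ f = x₁ ≫ f → ∃! g : T ⟶ G, sm a g x₁ = x₀) :
    IsPullback a.act (snd G X) f f := by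
  refine ⟨⟨hw⟩, ⟨PullbackCone.IsLimit.mk _ (fun s => lift (h _ s.fst s.snd s.condition).choose s.snd) ?_ ?_ ?_⟩⟩
  · intro s
    exact (h _ s.fst s.snd s.condition).choose_spec.1
  · intro s; simp
  · intro s m h1 h2
    apply CartesianMonoidalCategory.hom_ext
    · rw [lift_fst]
      refine (h _ s.fst s.snd s.condition).unique ?_ (h _ s.fst s.snd s.condition).choose_spec.1
      rw [sm, ← h2, ← comp_lift]
      rw [← h1]; congr 1
      apply CartesianMonoidalCategory.hom_ext <;> simp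
    · rw [lift_snd, h2]

/-- equivariance on points -/
lemma sm_comp_of_equivariant {c : AlgGrp.Action G P} {p : P ⟶ X} (hp : c.act ≫ p = (G ◁ p) ≫ a.act)
    {T : Over B} (g : T ⟶ G) (v : T ⟶ P) : sm c g v ≫ p = sm a g (v ≫ p) := by
  rw [sm, Category.assoc, hp, ← Category.assoc, sm]
  congr 1
  apply CartesianMonoidalCategory.hom_ext <;> simp

lemma equivariant_of_sm {c : AlgGrp.Action G P} {p : P ⟶ X}
    (h : ∀ (T : Over B) (g : T ⟶ G) (v : T ⟶ P), sm c g v ≫ p = sm a g (v ≫ p)) :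
    c.act ≫ p = (G ◁ p) ≫ a.act := by
  have h1 := h (G ⊗ P) (fst G P) (snd G P)
  rw [sm, sm, lift_fst_snd, Category.id_comp] at h1
  rw [h1]
  congr 1

lemma inv_sm_of_eq (a : AlgGrp.Action G X) {T : Over B} {g : T ⟶ G} {x y : T ⟶ X} (h : sm a g x = y) :
    sm a g⁻¹ y = x := by
  rw [← h, ← mul_sm, inv_mul_cancel, one_sm]

/-- The square saying that a point of `P` and a point of `X` with the same image in `Y` come from a unique
point of `G ⊗ P`. -/
lemma isPullback_P (hsq : IsPullback a.act (snd G X) f f) {c : AlgGrp.Action G P} {p : P ⟶ X}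
    (hp : c.act ≫ p = (G ◁ p) ≫ a.act) : IsPullback c.act (snd G P ≫ p) (p ≫ f) f := by
  have hw : c.act ≫ p ≫ f = (snd G P ≫ p) ≫ f := by
    rw [← Category.assoc, hp, Category.assoc, hsq.w, ← Category.assoc]
    simp
  refine ⟨⟨hw⟩, ⟨PullbackCone.IsLimit.mk _ (fun s => lift (existsUnique_of_sq hsq (s.fst ≫ p) s.snd
    (by rw [Category.assoc]; exact s.condition)).choose
    (sm c (existsUnique_of_sq hsq (s.fst ≫ p) s.snd (by rw [Category.assoc]; exact s.condition)).choose⁻¹ s.fst))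
      ?_ ?_ ?_⟩⟩
  · intro s
    change sm c _ (sm c _ _) = _
    rw [← mul_sm, mul_inv_cancel, one_sm]
  · intro s
    rw [lift_snd_assoc, sm_comp_of_equivariant hp]
    exact inv_sm_of_eq a (existsUnique_of_sq hsq (s.fst ≫ p) s.snd (by rw [Category.assoc]; exact s.condition)).choose_spec.1
  · intro s m h1 h2
    have h3 : m = lift (m ≫ fst G P) (m ≫ snd G P) := by
      apply CartesianMonoidalCategory.hom_ext <;> simp
    have h4 : sm c (m ≫ fst G P) (m ≫ snd G P) = s.fst := by rw [sm, ← h3, h1]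
    have h5 : sm a (m ≫ fst G P) s.snd = s.fst ≫ p := by
      rw [← h4, sm_comp_of_equivariant hp, ← h2]; simp
    have h6 := (existsUnique_of_sq hsq (s.fst ≫ p) s.snd (by rw [Category.assoc]; exact s.condition)).unique h5
      (existsUnique_of_sq hsq (s.fst ≫ p) s.snd (by rw [Category.assoc]; exact s.condition)).choose_spec.1
    apply CartesianMonoidalCategory.hom_ext
    · rw [lift_fst, h6]
    · rw [lift_snd, ← h6, ← h4, ← mul_sm, inv_mul_cancel, one_sm]

variable (hsq : IsPullback a.act.left (snd G X).left f.left f.left) {c : AlgGrp.Action G P} {p : P ⟶ X}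
    (hp : c.act ≫ p = (G ◁ p) ≫ a.act)

include hsq hp in
lemma isPullback_P_left : IsPullback c.act.left ((snd G P).left ≫ p.left) (p.left ≫ f.left) f.left :=
  isPullback_left (isPullback_P (isPullback_of_left hsq) hp)

/-- the transport on points of `P` -/
noncomputable def tp {T : Scheme.{u}} (x₀ x₁ : T ⟶ X.left) (h : x₀ ≫ f.left = x₁ ≫ f.left)
    (v : Desc.Lifts (Over.mk p.left) x₀) : Desc.Lifts (Over.mk p.left) x₁ :=
  ⟨(isPullback_P_left hsq hp).lift v.1 x₁ (by
      have h1 : v.1 ≫ p.left = x₀ := v.2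
      rw [← Category.assoc, h1, h]) ≫ (snd G P).left, by
    have := (isPullback_P_left hsq hp).lift_snd v.1 x₁ (by
      have h1 : v.1 ≫ p.left = x₀ := v.2
      rw [← Category.assoc, h1, h])
    simp⟩

/-- Characterisation of the transport. -/
lemma tp_eq_iff {T : Scheme.{u}} (x₀ x₁ : T ⟶ X.left) (h : x₀ ≫ f.left = x₁ ≫ f.left)
    (v : Desc.Lifts (Over.mk p.left) x₀) (w : Desc.Lifts (Over.mk p.left) x₁)
    (m : T ⟶ (G ⊗ P).left) (h1 : m ≫ c.act.left = v.1) (h2 : m ≫ (snd G P).left = w.1) :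
    tp hsq hp x₀ x₁ h v = w := by
  apply Subtype.ext
  rw [← h2]
  change (isPullback_P_left hsq hp).lift v.1 x₁ _ ≫ (snd G P).left = _
  congr 1
  apply (isPullback_P_left hsq hp).hom_ext
  · rw [IsPullback.lift_fst, h1]
  · rw [IsPullback.lift_snd, ← Category.assoc, h2]
    exact w.2.symm

/-- existence of the intermediate point -/
lemma exists_tp {T : Scheme.{u}} (x₀ x₁ : T ⟶ X.left) (h : x₀ ≫ f.left = x₁ ≫ f.left)
    (v : Desc.Lifts (Over.mk p.left) x₀) : ∃ m : T ⟶ (G ⊗ P).left, m ≫ c.act.left = v.1 ∧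
      m ≫ (snd G P).left = (tp hsq hp x₀ x₁ h v).1 :=
  ⟨_, (isPullback_P_left hsq hp).lift_fst v.1 x₁ (by
      have h1 : v.1 ≫ p.left = x₀ := v.2
      rw [← Category.assoc, h1, h]), rfl⟩

lemma tp_self {T : Scheme.{u}} (x : T ⟶ X.left) (v : Desc.Lifts (Over.mk p.left) x) :
    tp hsq hp x x rfl v = v := by
  refine tp_eq_iff hsq hp x x rfl v v (v.1 ≫ (lift (1 : P ⟶ G) (𝟙 P)).left) ?_ ?_
  · rw [Category.assoc, ← Over.comp_left]
    have : lift (1 : P ⟶ G) (𝟙 P) ≫ c.act = 𝟙 P := one_sm c (𝟙 P)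
    rw [this]; simp
  · rw [Category.assoc, ← Over.comp_left, lift_snd]; simp

lemma tp_comp {T : Scheme.{u}} (x₀ x₁ x₂ : T ⟶ X.left) (h₀₁ : x₀ ≫ f.left = x₁ ≫ f.left)
    (h₁₂ : x₁ ≫ f.left = x₂ ≫ f.left) (v : Desc.Lifts (Over.mk p.left) x₀) :
    tp hsq hp x₁ x₂ h₁₂ (tp hsq hp x₀ x₁ h₀₁ v) = tp hsq hp x₀ x₂ (h₀₁.trans h₁₂) v := by
  obtain ⟨m, hm1, hm2⟩ := exists_tp hsq hp x₀ x₁ h₀₁ v
  obtain ⟨n, hn1, hn2⟩ := exists_tp hsq hp x₁ x₂ h₁₂ (tp hsq hp x₀ x₁ h₀₁ v)
  -- everything over the base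
  let T' : Over B := Over.mk (n ≫ (G ⊗ P).hom)
  have e1 : n ≫ (snd G P).left ≫ P.hom = n ≫ (G ⊗ P).hom := by rw [Over.w]
  have e2 : n ≫ c.act.left ≫ P.hom = n ≫ (G ⊗ P).hom := by rw [Over.w]
  have e3 : m ≫ (G ⊗ P).hom = n ≫ (G ⊗ P).hom := by
    rw [← e2, ← Category.assoc, hn1, ← hm2, Category.assoc, Over.w]
  let m' : T' ⟶ G ⊗ P := Over.homMk m e3
  let n' : T' ⟶ G ⊗ P := Over.homMk n rfl
  have hmn : m' ≫ snd G P = n' ≫ c.act := by
    apply Over.OverMorphism.ext
    change m ≫ (snd G P).left = n ≫ c.act.left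
    rw [hm2, hn1]
  symm
  refine tp_eq_iff hsq hp x₀ x₂ (h₀₁.trans h₁₂) v _
    (lift ((m' ≫ fst G P) * (n' ≫ fst G P)) (n' ≫ snd G P)).left ?_ ?_
  · have h1 : lift ((m' ≫ fst G P) * (n' ≫ fst G P)) (n' ≫ snd G P) ≫ c.act = m' ≫ c.act := by
      change sm c _ _ = _
      rw [mul_sm]
      have h2 : sm c (n' ≫ fst G P) (n' ≫ snd G P) = n' ≫ c.act := by
        rw [sm]; congr 1
        apply CartesianMonoidalCategory.hom_ext <;> simp
      rw [h2, ← hmn, sm]; congr 1
      apply CartesianMonoidalCategory.hom_ext <;> simp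
    rw [← Over.comp_left, h1]
    exact hm1
  · rw [← Over.comp_left, lift_snd]
    exact hn2

/-- The descent datum relative to the principal bundle `f` carried by an equivariant `p : P ⟶ X`. -/
noncomputable def datum : Desc.SchDD f.left where
  obj := Over.mk p.left
  φ T x₀ x₁ h :=
    { toFun := tp hsq hp x₀ x₁ h
      invFun := tp hsq hp x₁ x₀ h.symm
      left_inv := fun v => by rw [tp_comp, tp_self]
      right_inv := fun v => by rw [tp_comp, tp_self] }
  φ_natural := by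
    intro T T' g x₀ x₁ h h' v v' hv'
    obtain ⟨m, hm1, hm2⟩ := exists_tp hsq hp x₀ x₁ h v
    have h1 : v'.1 = g ≫ v.1 := hv'
    have hw : (g ≫ (tp hsq hp x₀ x₁ h v).1) ≫ (Over.mk p.left).hom = g ≫ x₁ := by
      rw [Category.assoc, (tp hsq hp x₀ x₁ h v).2]
    have := tp_eq_iff hsq hp (g ≫ x₀) (g ≫ x₁) h' v' ⟨g ≫ (tp hsq hp x₀ x₁ h v).1, hw⟩ (g ≫ m)
      (by rw [Category.assoc, hm1, h1]) (by rw [Category.assoc, hm2])
    exact congrArg Subtype.val this
  φ_self T x v := tp_self hsq hp x v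
  φ_comp T x₀ x₁ x₂ h₀₁ h₁₂ v := tp_comp hsq hp x₀ x₁ x₂ h₀₁ h₁₂ v

@[simp] lemma datum_obj : (datum hsq hp).obj = Over.mk p.left := rfl

/-- If the descent datum of `p : P ⟶ X` is effective, the quotient exists. -/
theorem exists_quotient (heff : ∃ U : Over Y.left, Nonempty ((Desc.toDD f.left).obj U ≅ datum hsq hp)) :
    ∃ (W : Over B) (φ : P ⟶ W) (ψ : W ⟶ Y), c.act ≫ φ = snd G P ≫ φ ∧
      IsPullback p.left φ.left f.left ψ.left := by
  obtain ⟨U, ⟨e⟩⟩ := heff
  -- the isomorphism `P ≅ X ×_Y U` over `X`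
  have hid : e.inv.hom ≫ e.hom.hom = 𝟙 _ := by
    rw [← Desc.SchDD.comp_hom, e.inv_hom_id]; rfl
  have hid' : e.hom.hom ≫ e.inv.hom = 𝟙 _ := by
    rw [← Desc.SchDD.comp_hom, e.hom_inv_id]; rfl
  obtain ⟨j, hj⟩ : ∃ j : P.left ⟶ pullback f.left U.hom, j = e.inv.hom.left := ⟨_, rfl⟩
  obtain ⟨j', hj'⟩ : ∃ j' : pullback f.left U.hom ⟶ P.left, j' = e.hom.hom.left := ⟨_, rfl⟩
  have hw : j ≫ pullback.fst f.left U.hom = p.left := by rw [hj]; exact Over.w e.inv.hom
  have hidl : j ≫ j' = 𝟙 _ := by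
    rw [hj, hj']; exact congrArg CommaMorphism.left hid
  have hidl' : j' ≫ j = 𝟙 _ := by
    rw [hj, hj']; exact congrArg CommaMorphism.left hid'
  let i : P.left ≅ pullback f.left U.hom := ⟨j, j', hidl, hidl'⟩
  let W : Over B := Over.mk (U.hom ≫ Y.hom)
  let ψ : W ⟶ Y := Over.homMk U.hom rfl
  let φ₀ : P.left ⟶ U.left := j ≫ pullback.snd f.left U.hom
  have hφ₀ : φ₀ ≫ U.hom = p.left ≫ f.left := by
    change (j ≫ pullback.snd f.left U.hom) ≫ U.hom = _
    rw [Category.assoc, ← pullback.condition, ← Category.assoc, hw]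
  let φ : P ⟶ W := Over.homMk φ₀ (by
    change φ₀ ≫ U.hom ≫ Y.hom = P.hom
    rw [← Category.assoc, hφ₀, Category.assoc, Over.w, Over.w])
  refine ⟨W, φ, ψ, ?_, ?_⟩
  · apply Over.OverMorphism.ext
    change c.act.left ≫ φ₀ = (snd G P).left ≫ φ₀
    -- the point `act` over `x₀ = act ≫ p` and its transport `snd`
    let x₀ : (G ⊗ P).left ⟶ X.left := c.act.left ≫ p.left
    let x₁ : (G ⊗ P).left ⟶ X.left := (snd G P).left ≫ p.left
    have hx : x₀ ≫ f.left = x₁ ≫ f.left := by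
      have := (isPullback_P_left hsq hp).w
      simpa [x₀, x₁] using this
    let v : Desc.Lifts (datum hsq hp).obj x₀ := ⟨c.act.left, rfl⟩
    let w : Desc.Lifts (datum hsq hp).obj x₁ := ⟨(snd G P).left, rfl⟩
    have htp : (datum hsq hp).φ x₀ x₁ hx v = w :=
      tp_eq_iff hsq hp x₀ x₁ hx v w (𝟙 _) (by simp [v]) (by simp [w])
    let v' : Desc.Lifts (Desc.canonicalDD f.left U).obj x₀ :=
      ⟨c.act.left ≫ j, by
        change (c.act.left ≫ j) ≫ pullback.fst f.left U.hom = _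
        rw [Category.assoc, hw]⟩
    have hcomm : ((Desc.canonicalDD f.left U).φ x₀ x₁ hx v').1 = ((datum hsq hp).φ x₀ x₁ hx v).1 ≫ e.inv.hom.left :=
      e.inv.comm x₀ x₁ hx v v' (by
        change c.act.left ≫ j = c.act.left ≫ e.inv.hom.left
        rw [hj]; rfl)
    rw [htp] at hcomm
    have h1 : (Desc.canMap f.left U x₀ x₁ hx v').1 = (snd G P).left ≫ j := by
      rw [hj]; exact hcomm
    have h2 : (Desc.canMap f.left U x₀ x₁ hx v').1 ≫ pullback.snd f.left U.hom =
        (c.act.left ≫ j) ≫ pullback.snd f.left U.hom := by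
      rw [Desc.canMap_val, pullback.lift_snd]; rfl
    rw [h1] at h2
    change c.act.left ≫ j ≫ pullback.snd f.left U.hom = (snd G P).left ≫ j ≫ pullback.snd f.left U.hom
    rw [← Category.assoc, ← Category.assoc, h2]
  · exact IsPullback.of_iso_pullback ⟨hφ₀.symm⟩ i hw rfl

end K408.TorsDesc
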