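import Groth.Agent.AlgGrp.K408.InvAlg
import Groth.Agent.AlgGrp.K408.TorsDesc
import Mathlib.AlgebraicGeometry.Morphisms.Affine
import Mathlib.AlgebraicGeometry.Morphisms.Flat

/-!
# Invariants of a representation along a torsor: schemes
-/

set_option autoImplicit false

universe u

open CategoryTheory CategoryTheory.Limits MonoidalCategory CartesianMonoidalCategory MonObj GrpObj AlgebraicGeometry
open Groth.Agent.Books.BorelOrb
open scoped TensorProduct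

namespace Groth.Agent.AlgGrp.K408.InvSch

theorem bijective_lift_of_isPushout {R A B P : Type u} [CommRing R] [CommRing A] [CommRing B] [CommRing P]
    [Algebra R A] [Algebra R B] [Algebra R P] (α : A →ₐ[R] P) (s : B →ₐ[R] P)
    (h : IsPushout (CommRingCat.ofHom (algebraMap R A)) (CommRingCat.ofHom (algebraMap R B))
      (CommRingCat.ofHom (α : A →+* P)) (CommRingCat.ofHom (s : B →+* P))) :
    Function.Bijective (Algebra.TensorProduct.lift α s fun _ _ => .all _ _) := by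
  let e := (CommRingCat.isPushout_tensorProduct R A B).isoIsPushout _ _ h
  have h1 : (CommRingCat.ofHom (Algebra.TensorProduct.includeLeftRingHom : A →+* A ⊗[R] B)) ≫ e.hom =
      CommRingCat.ofHom (α : A →+* P) :=
    (CommRingCat.isPushout_tensorProduct R A B).inl_isoIsPushout_hom _ _ h
  have h2 : (CommRingCat.ofHom ((Algebra.TensorProduct.includeRight : B →ₐ[R] A ⊗[R] B) : B →+* A ⊗[R] B)) ≫ e.hom =
      CommRingCat.ofHom (s : B →+* P) :=
    (CommRingCat.isPushout_tensorProduct R A B).inr_isoIsPushout_hom _ _ h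
  have h3 : ∀ x, (Algebra.TensorProduct.lift α s fun _ _ => .all _ _) x = e.hom x := by
    intro x
    induction x using TensorProduct.induction_on with
    | zero => simp
    | add x y hx hy => rw [map_add, map_add, hx, hy]
    | tmul a b =>
      have h4 : (a ⊗ₜ[R] b : A ⊗[R] B) = (a ⊗ₜ[R] 1) * (1 ⊗ₜ[R] b) := by simp
      rw [Algebra.TensorProduct.lift_tmul, h4, map_mul]
      have h5 : e.hom (a ⊗ₜ[R] 1) = α a := congrArg (fun φ => φ.hom a) h1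
      have h6 : e.hom (1 ⊗ₜ[R] b) = s b := congrArg (fun φ => φ.hom b) h2
      rw [h5, h6]
  have h4 : ⇑(Algebra.TensorProduct.lift α s fun _ _ => .all _ _) = ⇑e.hom.hom := funext h3
  rw [h4]
  exact ConcreteCategory.bijective_of_isIso e.hom

theorem exists_inv_cat {R B C₁ C₂ : CommRingCat.{u}} {i : R ⟶ B} {a s : B ⟶ C₁} {β : B ⟶ C₂} {σ e₁ e₂ : C₁ ⟶ C₂}
    (hi : i.hom.Flat) (h1 : IsPushout i i a s) (h2 : IsPushout i (i ≫ s) β σ)
    (h1a : a ≫ e₁ = β) (h1s : s ≫ e₁ = a ≫ σ) (h2a : a ≫ e₂ = β) (h2s : s ≫ e₂ = s ≫ σ) {n : ℕ}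
    (c : Fin n → Fin n → C₁) (hc : ∀ j r, ∑ l, e₁.hom (c j l) * σ.hom (c l r) = e₂.hom (c j r)) :
    ∃ (I : Type) (_ : Fintype I) (m : I → Fin n → B) (b : Fin n → I → B),
      (∀ i r, ∑ l, a.hom (m i l) * c l r = s.hom (m i r)) ∧ ∀ j l, ∑ i, a.hom (b j i) * s.hom (m i l) = c j l := by
  algebraize [i.hom, (i ≫ s).hom, (i ≫ s ≫ σ).hom]
  have hβ : i ≫ β = i ≫ s ≫ σ := by rw [h2.w, Category.assoc]
  let α' : B →ₐ[R] C₁ := ⟨a.hom, fun r => congrArg (fun φ => φ.hom r) h1.w⟩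
  let s' : B →ₐ[R] C₁ := ⟨s.hom, fun r => rfl⟩
  let β' : B →ₐ[R] C₂ := ⟨β.hom, fun r => congrArg (fun φ => φ.hom r) hβ⟩
  let σ' : C₁ →ₐ[R] C₂ := ⟨σ.hom, fun r => rfl⟩
  have he₁ : i ≫ s ≫ e₁ = i ≫ s ≫ σ := by rw [h1s, ← Category.assoc, ← Category.assoc, h1.w]
  have he₂ : i ≫ s ≫ e₂ = i ≫ s ≫ σ := by rw [h2s]
  let e₁' : C₁ →ₐ[R] C₂ := ⟨e₁.hom, fun r => congrArg (fun φ => φ.hom r) he₁⟩
  let e₂' : C₁ →ₐ[R] C₂ := ⟨e₂.hom, fun r => congrArg (fun φ => φ.hom r) he₂⟩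
  exact InvAlg.exists_inv α' s' c (bijective_lift_of_isPushout α' s' h1).2 β' σ'
    (bijective_lift_of_isPushout β' σ' h2).1 e₁' e₂'
    (AlgHom.ext fun x => congrArg (fun φ => φ.hom x) h1a) (AlgHom.ext fun x => congrArg (fun φ => φ.hom x) h1s)
    (AlgHom.ext fun x => congrArg (fun φ => φ.hom x) h2a) (AlgHom.ext fun x => congrArg (fun φ => φ.hom x) h2s) hc

variable {S : Scheme.{u}}

/-- value of a function at a point -/
noncomputable def ev {X T : Over S} (t : T ⟶ X) : Γ(X.left, ⊤) →+* Γ(T.left, ⊤) := t.left.appTop.hom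

theorem ev_comp {X T T' : Over S} (s : T' ⟶ T) (t : T ⟶ X) (φ : Γ(X.left, ⊤)) : ev (s ≫ t) φ = ev s (ev t φ) := by
  simp [ev]

theorem ev_id {X : Over S} (φ : Γ(X.left, ⊤)) : ev (𝟙 X) φ = φ := by
  simp [ev]

/-- the projection square -/
theorem isPullback_whisker (G : Over S) {X' X : Over S} (h : X' ⟶ X) : IsPullback (G ◁ h) (snd G X') (snd G X) h := by
  refine ⟨⟨by simp⟩, ⟨PullbackCone.IsLimit.mk _ (fun s => lift (s.fst ≫ fst G X) s.snd) ?_ ?_ ?_⟩⟩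
  · intro s
    apply CartesianMonoidalCategory.hom_ext
    · simp
    · simp [s.condition]
  · intro s; simp
  · intro s m h1 h2
    apply CartesianMonoidalCategory.hom_ext
    · rw [lift_fst, ← h1]; simp
    · rw [lift_snd, ← h2]

variable {G X Y : Over S} [GrpObj G] {a : AlgGrp.Action G X} {f : X ⟶ Y}

theorem exists_inv (hsq : IsPullback a.act (snd G X) f f) [IsAffine X.left] [IsAffine Y.left]
    [IsAffine (G ⊗ X).left] [Flat f.left] {n : ℕ} (ρ : Fin n → Fin n → Γ(G.left, ⊤))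
    (hρ1 : ∀ (T : Over S) (j l : Fin n), ev (1 : T ⟶ G) (ρ j l) = if j = l then 1 else 0)
    (hρ : ∀ (T : Over S) (g h : T ⟶ G) (j l : Fin n), ev (g * h) (ρ j l) = ∑ r, ev g (ρ j r) * ev h (ρ r l)) :
    ∃ (I : Type) (_ : Fintype I) (m : I → Fin n → Γ(X.left, ⊤)) (b : Fin n → I → Γ(X.left, ⊤)),
      (∀ (T : Over S) (g : T ⟶ G) (x : T ⟶ X) (i : I) (r : Fin n),
        ∑ l, ev (sm a g x) (m i l) * ev g (ρ l r) = ev x (m i r)) ∧
      ∀ j l, ∑ i, b j i * m i l = if j = l then 1 else 0 := by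
  obtain ⟨p₁, hp₁⟩ : ∃ p : G ⊗ (G ⊗ X) ⟶ X, p = (G ◁ snd G X) ≫ a.act := ⟨_, rfl⟩
  -- `(g', (g, x)) ↦ (g' g⁻¹, g x)`
  obtain ⟨E₁, hE₁⟩ : ∃ E : G ⊗ (G ⊗ X) ⟶ G ⊗ X, E =
    lift (fst G (G ⊗ X) * (snd G (G ⊗ X) ≫ fst G X)⁻¹) (snd G (G ⊗ X) ≫ a.act) := ⟨_, rfl⟩
  obtain ⟨E₂, hE₂⟩ : ∃ E : G ⊗ (G ⊗ X) ⟶ G ⊗ X, E = G ◁ snd G X := ⟨_, rfl⟩
  have hE₁a : E₁ ≫ a.act = p₁ := by
    rw [hE₁, hp₁]
    change sm a _ _ = _
    have h1 : snd G (G ⊗ X) ≫ a.act = sm a (snd G (G ⊗ X) ≫ fst G X) (snd G (G ⊗ X) ≫ snd G X) := by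
      rw [sm]; congr 1
      apply CartesianMonoidalCategory.hom_ext <;> simp
    rw [h1, ← mul_sm, inv_mul_cancel_right, sm]
    congr 1
  have hE₁s : E₁ ≫ snd G X = snd G (G ⊗ X) ≫ a.act := by rw [hE₁]; exact lift_snd _ _
  have hE₂a : E₂ ≫ a.act = p₁ := by rw [hE₂, hp₁]
  have hE₂s : E₂ ≫ snd G X = snd G (G ⊗ X) ≫ snd G X := by rw [hE₂]; simp
  have hcomp : ∀ {Z Z' Z'' : Over S} (t : Z' ⟶ Z) (t' : Z'' ⟶ Z'), (t' ≫ t).left.appTop =
      t.left.appTop ≫ t'.left.appTop := by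
    intro Z Z' Z'' t t'
    simp
  have hpo1 : IsPushout f.left.appTop f.left.appTop a.act.left.appTop (snd G X).left.appTop :=
    isPushout_appTop_of_isPullback (K408.TorsDesc.isPullback_left hsq)
  have hsq2 : IsPullback p₁ (snd G (G ⊗ X)) f (snd G X ≫ f) := by
    rw [hp₁]; exact (isPullback_whisker G (snd G X)).paste_horiz hsq
  have hpo2 : IsPushout f.left.appTop (f.left.appTop ≫ (snd G X).left.appTop) p₁.left.appTop
      (snd G (G ⊗ X)).left.appTop := by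
    rw [← hcomp]
    exact isPushout_appTop_of_isPullback (K408.TorsDesc.isPullback_left hsq2)
  obtain ⟨I, _, m, b, hm, hb⟩ := exists_inv_cat (c := fun j l => ev (fst G X) (ρ j l))
    (e₁ := E₁.left.appTop) (e₂ := E₂.left.appTop)
    (HasRingHomProperty.appTop (P := @Flat) f.left inferInstance) hpo1 hpo2
    (by rw [← hcomp, hE₁a]) (by rw [← hcomp, ← hcomp, hE₁s]) (by rw [← hcomp, hE₂a])
    (by rw [← hcomp, ← hcomp, hE₂s])
    (by
      intro j r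
      change ∑ l, ev E₁ (ev (fst G X) (ρ j l)) * ev (snd G (G ⊗ X)) (ev (fst G X) (ρ l r)) =
        ev E₂ (ev (fst G X) (ρ j r))
      simp only [← ev_comp]
      have h1 : E₁ ≫ fst G X = fst G (G ⊗ X) * (snd G (G ⊗ X) ≫ fst G X)⁻¹ := by rw [hE₁]; exact lift_fst _ _
      have h2 : E₂ ≫ fst G X = fst G (G ⊗ X) := by rw [hE₂]; simp
      rw [h1, h2, ← hρ, inv_mul_cancel_right])
  refine ⟨I, inferInstance, m, b, ?_, ?_⟩
  · intro T g x i r
    have h1 : ev (lift g x) (∑ l, ev a.act (m i l) * ev (fst G X) (ρ l r)) = ev (lift g x) (ev (snd G X) (m i r)) :=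
      congrArg (fun z => ev (lift g x) z) (hm i r)
    rw [← ev_comp, lift_snd] at h1
    rw [← h1, map_sum]
    refine Finset.sum_congr rfl fun l _ => ?_
    rw [map_mul, ← ev_comp, ← ev_comp, lift_fst]
    rfl
  · intro j l
    have h1 : ev (lift (1 : X ⟶ G) (𝟙 X)) (∑ i, ev a.act (b j i) * ev (snd G X) (m i l)) =
      ev (lift (1 : X ⟶ G) (𝟙 X)) (ev (fst G X) (ρ j l)) := congrArg (fun z => ev (lift (1 : X ⟶ G) (𝟙 X)) z) (hb j l)
    have h4 : lift (1 : X ⟶ G) (𝟙 X) ≫ a.act = 𝟙 X := one_sm a (𝟙 X)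
    rw [← ev_comp _ (fst G X), lift_fst, hρ1] at h1
    rw [← h1, map_sum]
    refine Finset.sum_congr rfl fun i _ => ?_
    rw [map_mul, ← ev_comp, ← ev_comp, lift_snd, h4, ev_id, ev_id]

end Groth.Agent.AlgGrp.K408.InvSch
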