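import Groth.Agent.AlgGrp.K408.AlmTriv

/-!
# Conclusion of NODE G: an invariant rational trivialization
-/

set_option autoImplicit false
universe u

open CategoryTheory MonoidalCategory CartesianMonoidalCategory MonObj GrpObj AlgebraicGeometry
open Groth.Agent.Lefpen.H725.CocDef Groth.Agent.Lefpen.H521.CartierCoc K515.FF
open Groth.Agent.Grpsch.PicGrp

namespace K408.NodeG2

open RatRes RosRat OrbDim AlmTriv

section Sch

variable {X Y : Scheme.{u}} [IsIntegral X] [IsIntegral Y]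

/-- A rational function trivializing a power of a cocycle on an open trivializes the power of the module there. -/
theorem pull_pow_eq_one {L : X.Modules} (hL : PicF.IsInvertible L) {b : X → X.functionField} (hb : HasCoc L b)
    (G : X.functionField) (N : ℕ) (U : X.Opens) (hne : (U : Set X).Nonempty)
    (hG : ∀ y ∈ U, UnitAt y (G * b y ^ N)) : pull U.ι (mk L hL ^ N) = 1 := by
  have hU : Nonempty U := ⟨⟨hne.some, hne.some_mem⟩⟩
  have hη : U.ι (genericPoint U) = genericPoint X := genericPoint_eq_of_isOpenImmersion U.ι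
  rw [map_pow, pull_mk, ← mk_tensorPow, mk_eq_one_iff]
  have hG0 : G ≠ 0 := fun h0 => unitAt_ne_zero (hG hne.some hne.some_mem) (by rw [h0, zero_mul])
  refine hasCoc_iso (hasCoc_pow (hasCoc_pullback U.ι hη hb) N) K172.CocOrd.hasCoc_structureModule
    (fm U.ι hη G) ((map_ne_zero _).mpr hG0) fun y => ?_
  refine unitAt_congr (fm_unitAt U.ι hη (hG (U.ι y) y.2)) ?_
  rw [map_mul, map_pow, div_one]

/-- From a section over `f⁻¹ V` which descends to `V`. -/
theorem exists_descended (f : X ⟶ Y) (hη : f (genericPoint X) = genericPoint Y) [Flat f]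
    (b : Y → Y.functionField) (F : X.functionField) (m q : ℕ) (β : Y.functionField) (hβ : β ≠ 0)
    (V : Y.Opens) (hV : genericPoint Y ∈ V) (hV' : genericPoint X ∈ f ⁻¹ᵁ V)
    (s : Γ(X, f ⁻¹ᵁ V)) (hs : ff _ hV' s = F * fm f hη β ^ m) (t : Γ(Y, V)) (ht : f.app V t = s ^ q)
    (hF : ∀ z, UnitAt z (F * fm f hη (b (f z)) ^ m)) :
    ∃ G : Y.functionField, ∀ z, UnitAt (f z) (G * b (f z) ^ (m * q)) := by
  refine ⟨ff V hV t / β ^ (m * q), fun z => ?_⟩
  apply unitAt_of_fm f hη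
  refine unitAt_congr (unitAt_pow (hF z) q) ?_
  rw [map_mul, map_div₀, map_pow, map_pow, fm_germ f hη V hV hV', ht, map_pow, hs, mul_pow, mul_pow, ← pow_mul,
    ← pow_mul]
  have h1 : fm f hη β ^ (m * q) ≠ 0 := pow_ne_zero _ ((map_ne_zero _).mpr hβ)
  rw [mul_div_assoc, div_self h1, _root_.mul_one]

end Sch

variable {K : Type u} [Field K] [IsAlgClosed K]

section

variable {A X : Over (Spec (CommRingCat.of K))} [GrpObj A] (a : AlgGrp.Action A X)
  (x : 𝟙_ (Over (Spec (CommRingCat.of K))) ⟶ X)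

theorem rt_orbitMap (h : 𝟙_ (Over (Spec (CommRingCat.of K))) ⟶ stab a x) :
    rt (h ≫ stabι a x) ≫ a.orbitMap x = a.orbitMap x := by
  rw [rt_eq, Groth.Agent.Books.BorelOrb.comp_orbitMap, Groth.Agent.Books.BorelOrb.mul_sm, ← Category.assoc,
    comp_stabι_sm, ← Groth.Agent.Books.BorelOrb.comp_orbitMap, Category.id_comp]

/-- G2, from the descent of functions along the orbit map. -/
theorem main [IsIntegral A.left] [IsIntegral X.left] [Flat (a.orbitMap x).left]
    (hop : IsOpen (Set.range ⇑(a.orbitMap x).left.base))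
    (ho : (a.orbitMap x).left (genericPoint A.left) = genericPoint X.left)
    (hdesc : ∀ V : X.left.Opens, IsAffineOpen V → (V : Set X.left) ⊆ Set.range ⇑(a.orbitMap x).left.base →
      ∀ (hV : genericPoint A.left ∈ (a.orbitMap x).left ⁻¹ᵁ V) (s : Γ(A.left, (a.orbitMap x).left ⁻¹ᵁ V)),
        (∀ h : 𝟙_ (Over (Spec (CommRingCat.of K))) ⟶ stab a x,
          fm (rt (h ≫ stabι a x)).left (rt_η _) (ff _ hV s) = ff _ hV s) →
        ∃ (q : ℕ) (t : Γ(X.left, V)), 1 ≤ q ∧ (a.orbitMap x).left.app V t = s ^ q)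
    (L : X.left.Modules) (hL : PicF.IsInvertible L) (b : X.left → X.left.functionField) (hb : HasCoc L b)
    (F : A.left.functionField) (m : ℕ) (hm : 1 ≤ m)
    (hF : ∀ z : A.left, UnitAt z (F * fm (a.orbitMap x).left ho (b ((a.orbitMap x).left z)) ^ m))
    (hinv : ∀ h : 𝟙_ (Over (Spec (CommRingCat.of K))) ⟶ stab a x,
      fm (rt (h ≫ stabι a x)).left (rt_η _) F = F) :
    ∃ N : ℕ, 1 ≤ N ∧ ∀ U : X.left.Opens, (U : Set X.left) = Set.range ⇑(a.orbitMap x).left.base →
      pull U.ι (mk L hL ^ N) = 1 := by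
  set o := (a.orbitMap x).left with hodef
  let z₀ : A.left := genericPoint A.left
  let y₀ : X.left := o z₀
  obtain ⟨V₀, hyV₀, hV₀⟩ := hasCoc_loc hb y₀
  let O : X.left.Opens := ⟨_, hop⟩
  have hyO : y₀ ∈ V₀ ⊓ O := ⟨hyV₀, z₀, rfl⟩
  obtain ⟨_, ⟨V, hVaff, rfl⟩, hyV, hVle⟩ := X.left.isBasis_affineOpens.exists_subset_of_mem_open
    (show y₀ ∈ ((V₀ ⊓ O : X.left.Opens) : Set X.left) from hyO) (V₀ ⊓ O).2
  have hVaff : IsAffineOpen V := hVaff
  have hVη : genericPoint X.left ∈ V := gen_mem hyV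
  have hV' : genericPoint A.left ∈ o ⁻¹ᵁ V := hyV
  have hβ0 : b y₀ ≠ 0 := hb.1 y₀
  obtain ⟨s, hs, hsF⟩ := exists_of_unitAt (V := o ⁻¹ᵁ V) hV' (u := F * fm o ho (b y₀) ^ m) (fun z hz => by
    have h1 := unitAt_mul (hF z) (unitAt_pow (fm_unitAt o ho (hV₀ (o z) (hVle hz).1)) m)
    refine unitAt_congr h1 ?_
    rw [map_div₀, _root_.mul_assoc, ← mul_pow]
    congr 2
    rw [mul_div_cancel₀]
    exact (map_ne_zero _).mpr (hb.1 _))
  obtain ⟨q, t, hq, ht⟩ := hdesc V hVaff (fun y hy => (hVle hy).2) hV' s (fun h => by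
    rw [hsF, map_mul, map_pow, hinv h]
    congr 2
    have e1 : ((rt (h ≫ stabι a x)).left ≫ o) (genericPoint A.left) = genericPoint X.left := by
      rw [Scheme.Hom.comp_apply, rt_η, ho]
    rw [← fm_comp (rt (h ≫ stabι a x)).left (rt_η _) o ho e1]
    exact fm_congr _ e1 (by rw [hodef, ← Over.comp_left, rt_orbitMap]) ho _)
  obtain ⟨G, hG⟩ := exists_descended o ho b F m q (b y₀) hβ0 V hVη hV' s hsF t ht hF
  refine ⟨m * q, Nat.one_le_iff_ne_zero.mpr (Nat.mul_ne_zero (by omega) (by omega)), fun U hU => ?_⟩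
  refine pull_pow_eq_one hL hb G (m * q) U ⟨y₀, ?_⟩ fun y hy => ?_
  · rw [hU]; exact ⟨z₀, rfl⟩
  · have : y ∈ Set.range ⇑o := by rw [← SetLike.mem_coe, hU] at hy; exact hy
    obtain ⟨z, rfl⟩ := this
    exact hG z

end

end K408.NodeG2
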