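import Groth.Agent.AlgGrp.K408.NodeGMain
import Groth.Agent.AlgGrp.K404.NodeG2a

/-!
# NODE G, conclusion
-/

set_option autoImplicit false
universe u

open CategoryTheory MonoidalCategory CartesianMonoidalCategory MonObj GrpObj AlgebraicGeometry
open Groth.Agent.Lefpen.H725.CocDef Groth.Agent.Lefpen.H521.CartierCoc K515.FF

namespace K408.NodeGFin

open RatRes RosRat OrbDim

theorem nodeG : Groth.Agent.AlgGrp.K408.AlmPlan.NodeG.{u} := by
  refine NodeGMain.of_pow fun k _ _ A X _ _ _ _ _ _ _ _ a x V hVa hV s hs => ?_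
  have hAq : QuasiCompact A.hom := inferInstance
  have hW : (fst A (stab a x)).left ⁻¹ᵁ (a.orbitMap x).left ⁻¹ᵁ V = (actR a x).left ⁻¹ᵁ (a.orbitMap x).left ⁻¹ᵁ V := by
    rw [← Scheme.Hom.comp_preimage, ← Scheme.Hom.comp_preimage, ← Over.comp_left, ← Over.comp_left,
      (isPullback_actR a x).w]
  obtain ⟨q, hq, h⟩ := K404.NodeG2a.main A X a x ((a.orbitMap x).left ⁻¹ᵁ V) hV hW s hs
  refine ⟨q, hq, ?_⟩
  rw [← Scheme.Hom.appLE_eq_app]
  exact h

end K408.NodeGFin
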