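import Groth.Agent.AlgGrp.K408.OrbDesc
import Groth.Agent.AlgGrp.K404.NodeG1

/-!
# NODE G
-/

set_option autoImplicit false
universe u

open CategoryTheory MonoidalCategory CartesianMonoidalCategory MonObj GrpObj AlgebraicGeometry
open Groth.Agent.Lefpen.H725.CocDef Groth.Agent.Lefpen.H521.CartierCoc K515.FF
open Groth.Agent.Grpsch.PicGrp

namespace K408.NodeGMain

open RatRes RosRat OrbDim

/-- NODE G from the comparison of functions invariant under rational points. -/
theorem of_pow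
    (hpow : ∀ (k : Type u) [Field k] [IsAlgClosed k] (A X : Over (Spec (CommRingCat.of k))) [GrpObj A]
      [IsAffine A.left] [Smooth A.hom] [IsIntegral A.left]
      [IsIntegral X.left] [IsSeparated X.hom] [LocallyOfFiniteType X.hom] [QuasiCompact X.hom]
      (a : AlgGrp.Action A X) (x : 𝟙_ (Over (Spec (CommRingCat.of k))) ⟶ X)
      (V : X.left.Opens) (_ : IsAffineOpen V) (hV : genericPoint A.left ∈ (a.orbitMap x).left ⁻¹ᵁ V)
      (s : Γ(A.left, (a.orbitMap x).left ⁻¹ᵁ V))
      (_ : ∀ h : 𝟙_ (Over (Spec (CommRingCat.of k))) ⟶ stab a x,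
        fm (rt (h ≫ stabι a x)).left (rt_η _) (ff _ hV s) = ff _ hV s),
      ∃ q : ℕ, 1 ≤ q ∧ ((fst A (stab a x)).left.app ((a.orbitMap x).left ⁻¹ᵁ V)).hom (s ^ q) =
        ((actR a x).left.appLE ((a.orbitMap x).left ⁻¹ᵁ V) _ (OrbDesc.preimage_le a x V)).hom (s ^ q)) :
    Groth.Agent.AlgGrp.K408.AlmPlan.NodeG.{u} := by
  intro k _ _ A X _ _ _ _ _ _ _ _ a x hop H' _ _ _ i hi hic hir ho L hL b hb F n hn hF hinv
  have hAq : QuasiCompact A.hom := inferInstance
  obtain ⟨e, F', he, hF', hinv'⟩ := K404.NodeG1.main A X a x H' i hi hir ho b F n hF hinv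
  have hfl : Flat (a.orbitMap x).left := OrbDesc.flat_orbitMap a x ho
  have hqc : QuasiCompact (a.orbitMap x).left := by
    have : QuasiCompact ((a.orbitMap x).left ≫ X.hom) := by rw [Over.w]; infer_instance
    exact QuasiCompact.of_comp (a.orbitMap x).left X.hom
  refine NodeG2.main a x hop ho (fun V hVa hV hη s hs => ?_) L hL b hb F' (n * e)
    (Nat.one_le_iff_ne_zero.mpr (Nat.mul_ne_zero (by omega) (by omega))) hF' hinv'
  obtain ⟨q, hq, h⟩ := hpow k A X a x V hVa hη s hs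
  obtain ⟨t, ht⟩ := OrbDesc.exists_desc a x V hV (s ^ q) (OrbDesc.preimage_le a x V) h
  exact ⟨q, t, hq, ht⟩

end K408.NodeGMain
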