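import Groth.Agent.AlgGrp.K408.InvSch
import Groth.Agent.AlgGrp.K413.Saturate

/-!
# Open subschemes as objects over a base, stable opens, restricted actions
-/

set_option autoImplicit false

universe u

open CategoryTheory CategoryTheory.Limits MonoidalCategory CartesianMonoidalCategory MonObj GrpObj AlgebraicGeometry
open Groth.Agent.Books.BorelOrb
open Groth.Agent.AlgGrp.K408.InvSch

namespace Groth.Agent.AlgGrp.K408.OpenSub

variable {B : Scheme.{u}}

/-- an open subscheme as an object over the base -/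
noncomputable def opn (X : Over B) (U : X.left.Opens) : Over B := Over.mk (U.ι ≫ X.hom)

/-- the inclusion -/
noncomputable def opnι (X : Over B) (U : X.left.Opens) : opn X U ⟶ X := Over.homMk U.ι rfl

instance (X : Over B) (U : X.left.Opens) : IsOpenImmersion (opnι X U).left :=
  inferInstanceAs (IsOpenImmersion U.ι)

theorem mono_of_left {X Y : Over B} (f : X ⟶ Y) [Mono f.left] : Mono f := by
  constructor
  intro Z g h e
  apply Over.OverMorphism.ext
  rw [← cancel_mono f.left, ← Over.comp_left, ← Over.comp_left, e]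

instance (X : Over B) (U : X.left.Opens) : Mono (opnι X U) := mono_of_left _

theorem opnι_mem (X : Over B) (U : X.left.Opens) (x : (opn X U).left) : (opnι X U).left x ∈ U := x.2

theorem range_opnι (X : Over B) (U : X.left.Opens) : Set.range (opnι X U).left = (U : Set X.left) :=
  Scheme.Opens.range_ι U

theorem comp_left_apply {X Y Z : Over B} (f : X ⟶ Y) (g : Y ⟶ Z) (x : X.left) :
    (f ≫ g).left x = g.left (f.left x) := by
  rw [Over.comp_left, Scheme.Hom.comp_apply]

theorem exists_lift_of_range {X T V : Over B} (j : V ⟶ X) [IsOpenImmersion j.left] (t : T ⟶ X)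
    (h : ∀ x, t.left x ∈ Set.range j.left) : ∃ t' : T ⟶ V, t' ≫ j = t := by
  have h1 : Set.range t.left ⊆ Set.range j.left := by
    rintro _ ⟨x, rfl⟩; exact h x
  refine ⟨Over.homMk (IsOpenImmersion.lift j.left t.left h1) ?_, ?_⟩
  · rw [← Over.w j, ← Category.assoc, IsOpenImmersion.lift_fac, Over.w]
  · apply Over.OverMorphism.ext
    exact IsOpenImmersion.lift_fac _ _ _

theorem exists_lift_opn {X T : Over B} {U : X.left.Opens} (t : T ⟶ X) (h : ∀ x, t.left x ∈ U) :
    ∃ t' : T ⟶ opn X U, t' ≫ opnι X U = t :=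
  exists_lift_of_range (opnι X U) t fun x => by rw [range_opnι]; exact h x

/-- `ev` and basic opens -/
theorem mem_basicOpen_ev {X T : Over B} (t : T ⟶ X) (F : Γ(X.left, ⊤)) (x : T.left) :
    t.left x ∈ X.left.basicOpen F ↔ x ∈ T.left.basicOpen (ev t F) := by
  have h1 : t.left ⁻¹ᵁ X.left.basicOpen F = T.left.basicOpen (ev t F) := by
    rw [Scheme.preimage_basicOpen_top]; rfl
  rw [← h1]; rfl

theorem isUnit_ev_iff {X T : Over B} (t : T ⟶ X) (F : Γ(X.left, ⊤)) :
    IsUnit (ev t F) ↔ ∀ x, t.left x ∈ X.left.basicOpen F := by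
  simp only [mem_basicOpen_ev]
  constructor
  · intro h x
    rw [Scheme.basicOpen_of_isUnit _ h]; trivial
  · intro h
    exact RingedSpace.isUnit_of_isUnit_germ T.left.toRingedSpace ⊤ (ev t F)
      fun x _ => (Scheme.mem_basicOpen_top _ _ _).mp (h x)

variable {G P X : Over B} [GrpObj G]

/-- the action on a stable subobject -/
theorem exists_action_of_mono (c : AlgGrp.Action G P) {V : Over B} (j : V ⟶ P) [Mono j] (t : G ⊗ V ⟶ V)
    (ht : t ≫ j = (G ◁ j) ≫ c.act) : ∃ c' : AlgGrp.Action G V, c'.act = t ∧ c'.act ≫ j = (G ◁ j) ≫ c.act := by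
  refine ⟨⟨t, ?_, ?_⟩, rfl, ht⟩
  · rw [← cancel_mono j, Category.assoc, ht, ← Category.assoc, ← whisker_exchange, Category.assoc, c.one_act]
    simp
  · rw [← cancel_mono j]
    simp only [Category.assoc]
    rw [ht, ← Category.assoc (μ[G] ▷ V), ← whisker_exchange, Category.assoc, c.mul_act]
    have h1 : (G ◁ t) ≫ (G ◁ j) = (G ◁ (G ◁ j)) ≫ (G ◁ c.act) := by
      rw [← MonoidalCategory.whiskerLeft_comp, ht, MonoidalCategory.whiskerLeft_comp]
    rw [← Category.assoc (G ◁ t), h1]
    simp

/-- a stable open -/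
theorem exists_action_opn (c : AlgGrp.Action G P) (U : P.left.Opens)
    (hU : ∀ p : (G ⊗ P).left, (snd G P).left p ∈ U → c.act.left p ∈ U) :
    ∃ c' : AlgGrp.Action G (opn P U), c'.act ≫ opnι P U = (G ◁ opnι P U) ≫ c.act := by
  obtain ⟨t, ht⟩ := exists_lift_opn (U := U) ((G ◁ opnι P U) ≫ c.act) (by
    intro x
    rw [comp_left_apply]
    apply hU
    rw [← comp_left_apply, whiskerLeft_snd, comp_left_apply]
    exact opnι_mem P U _)
  obtain ⟨c', -, hc'⟩ := exists_action_of_mono c (opnι P U) t ht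
  exact ⟨c', hc'⟩

end Groth.Agent.AlgGrp.K408.OpenSub
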