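import Groth.Agent.AlgGrp.K408.FunDesc
import Groth.Agent.AlgGrp.K408.NodeG2
import Groth.Agent.S5347

/-!
# Descent of functions along an orbit map
-/

set_option autoImplicit false
universe u

open CategoryTheory MonoidalCategory CartesianMonoidalCategory MonObj GrpObj AlgebraicGeometry
open Groth.Agent.Lefpen.H725.CocDef Groth.Agent.Lefpen.H521.CartierCoc K515.FF

namespace K408.OrbDesc

open RatRes RosRat OrbDim

variable {K : Type u} [Field K]
variable {A X : Over (Spec (CommRingCat.of K))} [GrpObj A] (a : AlgGrp.Action A X)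
  (x : 𝟙_ (Over (Spec (CommRingCat.of K))) ⟶ X)

theorem flat_of_isField {R S : Type u} [CommRing R] [CommRing S] (f : R →+* S) (h : IsField R) : f.Flat := by
  let _ := h.toField
  let _ := f.toAlgebra
  have : Module.Flat R S := inferInstance
  exact this

/-- A dominant orbit map to an integral scheme is flat. -/
theorem flat_orbitMap [IsIntegral A.left] [IsIntegral X.left]
    (ho : (a.orbitMap x).left (genericPoint A.left) = genericPoint X.left) : Flat (a.orbitMap x).left := by
  have hA : Flat A.hom := inferInstance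
  refine Groth.Agent.S5347.result K A X a x ⟨genericPoint A.left, ?_⟩
  apply flat_of_isField
  have h1 : IsField (X.left.presheaf.stalk (genericPoint X.left)) :=
    Field.toIsField X.left.functionField
  rw [ho]
  exact h1

/-- Functions on the preimage of an open of the orbit, with equal pullbacks to `A × H`, come from the orbit. -/
theorem exists_desc [QuasiCompact (a.orbitMap x).left] [Flat (a.orbitMap x).left] (V : X.left.Opens)
    (hV : (V : Set X.left) ⊆ Set.range (a.orbitMap x).left) (s : Γ(A.left, (a.orbitMap x).left ⁻¹ᵁ V))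
    (hle : (fst A (stab a x)).left ⁻¹ᵁ (a.orbitMap x).left ⁻¹ᵁ V ≤
      (actR a x).left ⁻¹ᵁ (a.orbitMap x).left ⁻¹ᵁ V)
    (h : ((fst A (stab a x)).left.app ((a.orbitMap x).left ⁻¹ᵁ V)).hom s =
      ((actR a x).left.appLE ((a.orbitMap x).left ⁻¹ᵁ V) _ hle).hom s) :
    ∃ t : Γ(X.left, V), ((a.orbitMap x).left.app V).hom t = s :=
  FunDesc.exists_desc (a.orbitMap x).left V hV s (fst A (stab a x)).left (actR a x).left
    ((isPullback_actR a x).map (Over.forget _)) hle h

theorem preimage_le (V : X.left.Opens) : (fst A (stab a x)).left ⁻¹ᵁ (a.orbitMap x).left ⁻¹ᵁ V ≤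
      (actR a x).left ⁻¹ᵁ (a.orbitMap x).left ⁻¹ᵁ V := by
  rw [← Scheme.Hom.comp_preimage, ← Scheme.Hom.comp_preimage, ← Over.comp_left, ← Over.comp_left,
    (isPullback_actR a x).w]

end K408.OrbDesc
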