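import Groth.Agent.Ega4dB.QuotAction
import Groth.Agent.S3017
import Groth.Agent.S0114

/-!
# Existence of a separated quotient with all its properties
-/

set_option autoImplicit false

universe u

open CategoryTheory CategoryTheory.Limits MonoidalCategory CartesianMonoidalCategory MonObj GrpObj AlgebraicGeometry

namespace Groth.Agent.AlgGrp.K408.QuotSep

theorem exists_quot (k : Type u) [Field k]
    (G H : Over (Spec (CommRingCat.of k))) [GrpObj G] [GrpObj H]
    [LocallyOfFiniteType G.hom] [QuasiCompact G.hom] [LocallyOfFiniteType H.hom]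
    (i : H ⟶ G) [IsMonHom i] [Mono i] [QuasiCompact i.left] :
    ∃ (X : Over (Spec (CommRingCat.of k))) (a : AlgGrp.Action G X) (o : 𝟙_ (Over (Spec (CommRingCat.of k))) ⟶ X),
      LocallyOfFiniteType X.hom ∧ QuasiCompact X.hom ∧ IsSeparated X.hom ∧ (Smooth G.hom → Smooth X.hom) ∧
      Flat (a.orbitMap o).left ∧ Surjective (a.orbitMap o).left ∧
      LocallyOfFinitePresentation (a.orbitMap o).left ∧
      IsPullback (fst G H) ((G ◁ i) ≫ μ[G]) (a.orbitMap o) (a.orbitMap o) := by
  obtain ⟨X, p, hpf, hps, hpfp, hpb, hXsep, hXfl, hXsm⟩ := Groth.Agent.S3017.result k H G i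
  let q : G ⟶ X := ι[G] ≫ p
  have hpb' : IsPullback (fst G H) ((G ◁ i) ≫ μ[G]) q q :=
    Groth.Agent.Ega4dB.QuotAction.isPullback_inv i p hpb
  let iG : G ≅ G := ⟨ι[G], ι[G], by simp, by simp⟩
  have hι : IsIso (ι[G] : G ⟶ G) := inferInstanceAs (IsIso iG.hom)
  have hιl : IsIso (ι[G] : G ⟶ G).left := inferInstanceAs (IsIso ((Over.forget _).map ι[G]))
  have hql : q.left = (ι[G] : G ⟶ G).left ≫ p.left := Over.comp_left _ _ _ _ _
  have hqf : Flat q.left := by
    rw [hql]; infer_instance
  have hqs : Surjective q.left := by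
    rw [hql]; infer_instance
  have hqfp : LocallyOfFinitePresentation q.left := by
    rw [hql]; infer_instance
  -- base changes of `q` are flat, surjective, locally of finite presentation
  have hbc : ∀ (T : Over (Spec (CommRingCat.of k))), Flat (T ◁ q).left ∧ Surjective (T ◁ q).left ∧
      LocallyOfFinitePresentation (T ◁ q).left := by
    intro T
    have sq1 : IsPullback (Limits.pullback.fst T.hom X.hom) (Limits.pullback.snd T.hom X.hom)
        T.hom X.hom := IsPullback.of_hasPullback _ _
    have sq2 : IsPullback ((T ◁ q).left ≫ Limits.pullback.fst T.hom X.hom)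
        (Limits.pullback.snd T.hom G.hom) T.hom (q.left ≫ X.hom) := by
      rw [Over.whiskerLeft_left_fst, Over.w]
      exact IsPullback.of_hasPullback _ _
    have sq : IsPullback (T ◁ q).left (Limits.pullback.snd T.hom G.hom)
        (Limits.pullback.snd T.hom X.hom) q.left :=
      IsPullback.of_right sq2 (Over.whiskerLeft_left_snd q) sq1
    exact ⟨MorphismProperty.of_isPullback sq.flip hqf, MorphismProperty.of_isPullback sq.flip hqs,
      MorphismProperty.of_isPullback sq.flip hqfp⟩
  have hepi : ∀ (T : Over (Spec (CommRingCat.of k))), EffectiveEpi (T ◁ q).left := by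
    intro T
    obtain ⟨h1, h2, h3⟩ := hbc T
    infer_instance
  have hepi' : ∀ (T : Over (Spec (CommRingCat.of k))), Epi (T ◁ q) := by
    intro T
    have := hepi T
    exact Over.epi_of_epi_left _
  have : Epi q := Over.epi_of_epi_left _
  have := hepi G
  have := hepi' G
  have := hepi' (G ⊗ G)
  obtain ⟨a, ha⟩ := Groth.Agent.Ega4dB.QuotAction.exists_action i q hpb'
  refine ⟨X, a, η[G] ≫ q, ?_, ?_, hXsep, hXsm, ?_, ?_, ?_, ?_⟩
  · have h1 : LocallyOfFinitePresentation G.hom := LocallyOfFinitePresentation.iff_locallyOfFiniteType.2 inferInstance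
    have h2 : LocallyOfFinitePresentation (q.left ≫ X.hom) := by rw [Over.w]; exact h1
    have := Groth.Agent.S0114.result q.left X.hom
    infer_instance
  · have h1 : CompactSpace X.left := by
      have h2 : CompactSpace G.left := QuasiCompact.compactSpace_of_compactSpace G.hom
      constructor
      rw [← Set.range_eq_univ.2 (Surjective.surj (f := q.left)), ← Set.image_univ]
      exact isCompact_univ.image q.left.continuous
    exact quasiCompact_of_compactSpace X.hom
  · rw [ha]; exact hqf
  · rw [ha]; exact hqs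
  · rw [ha]; exact hqfp
  · rw [ha]; exact hpb'

end Groth.Agent.AlgGrp.K408.QuotSep
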