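import Groth.Agent.AbVar.K515.FF
import Mathlib.AlgebraicGeometry.Morphisms.Flat

/-!
# Restriction of rational functions along morphisms which need not be dominant
-/

set_option autoImplicit false
universe u

open AlgebraicGeometry CategoryTheory CategoryTheory.Limits TopologicalSpace Opposite
open Groth.Agent.Dix.Center Groth.Agent.Grpsch.GrowthFF Groth.Agent.Fdesc.LocGen
  Groth.Agent.Lefpen.H725.CocDef Groth.Agent.Lefpen.H521.CartierCoc K515.FF

namespace K408.RatRes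

variable {X Y Z : Scheme.{u}} [IsIntegral X] [IsIntegral Y] [IsIntegral Z]

/-- A surjective morphism of integral schemes maps the generic point to the generic point. -/
theorem map_genericPoint (f : X ⟶ Y) [Surjective f] : f (genericPoint X) = genericPoint Y := by
  have h1 := (genericPoint_spec X).image f.continuous
  have h2 : closure (f '' (Set.univ : Set X)) = Set.univ := by
    rw [Set.image_univ, (Surjective.surj (f := f)).range_eq, closure_univ]
  rw [h2] at h1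
  exact h1.eq (genericPoint_spec Y)

/-- A morphism with a section maps the generic point to the generic point. -/
theorem map_genericPoint_of_section (f : X ⟶ Y) (s : Y ⟶ X) (h : s ≫ f = 𝟙 Y) :
    f (genericPoint X) = genericPoint Y := by
  have : Surjective f := ⟨fun y => ⟨s y, by rw [← Scheme.Hom.comp_apply, h]; rfl⟩⟩
  exact map_genericPoint f

/-- `ψ` is the restriction of the rational function `φ` along `g : Z ⟶ X`. -/
def Res (g : Z ⟶ X) (φ : X.functionField) (ψ : Z.functionField) : Prop :=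
  ∃ (U : X.Opens) (hU : genericPoint X ∈ U) (hU' : genericPoint Z ∈ g ⁻¹ᵁ U) (s : Γ(X, U)),
    ff U hU s = φ ∧ ff (g ⁻¹ᵁ U) hU' (g.app U s) = ψ

theorem app_ores (g : Z ⟶ X) {U V : X.Opens} (h : V ≤ U) (s : Γ(X, U)) :
    g.app V (ores h s) = ores (g.preimage_mono h) (g.app U s) := by
  have := Scheme.Hom.naturality g (homOfLE h).op
  exact congrArg (fun φ => φ.hom s) this

theorem ff_app_ores (g : Z ⟶ X) {U V : X.Opens} (h : V ≤ U) (s : Γ(X, U))
    (hV : genericPoint Z ∈ g ⁻¹ᵁ V) :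
    ff (g ⁻¹ᵁ V) hV (g.app V (ores h s)) = ff (g ⁻¹ᵁ U) (g.preimage_mono h hV) (g.app U s) := by
  rw [app_ores, ff_ores]

theorem Res.unique {g : Z ⟶ X} {φ : X.functionField} {ψ ψ' : Z.functionField} (h : Res g φ ψ)
    (h' : Res g φ ψ') : ψ = ψ' := by
  obtain ⟨U, hU, hU', s, rfl, rfl⟩ := h
  obtain ⟨V, hV, hV', t, ht, rfl⟩ := h'
  have h1 : ores (inf_le_left : U ⊓ V ≤ U) s = ores (inf_le_right : U ⊓ V ≤ V) t :=
    ff_injective (U ⊓ V) ⟨hU, hV⟩ (by rw [ff_ores, ff_ores, ht])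
  have hUV : genericPoint Z ∈ g ⁻¹ᵁ (U ⊓ V) := ⟨hU', hV'⟩
  rw [← ff_app_ores g (inf_le_left : U ⊓ V ≤ U) s hUV, h1, ff_app_ores]

theorem Res.mul {g : Z ⟶ X} {φ φ' : X.functionField} {ψ ψ' : Z.functionField} (h : Res g φ ψ)
    (h' : Res g φ' ψ') : Res g (φ * φ') (ψ * ψ') := by
  obtain ⟨U, hU, hU', s, rfl, rfl⟩ := h
  obtain ⟨V, hV, hV', t, rfl, rfl⟩ := h'
  have hUV : genericPoint Z ∈ g ⁻¹ᵁ (U ⊓ V) := ⟨hU', hV'⟩
  refine ⟨U ⊓ V, ⟨hU, hV⟩, hUV, ores inf_le_left s * ores inf_le_right t, ?_, ?_⟩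
  · rw [map_mul, ff_ores, ff_ores]
  · rw [map_mul, map_mul, ff_app_ores, ff_app_ores]

/-- Restriction of a pullback. -/
theorem res_fm (g : Z ⟶ X) (f : X ⟶ Y) (hη : f (genericPoint X) = genericPoint Y)
    (hgf : (g ≫ f) (genericPoint Z) = genericPoint Y) (φ : Y.functionField) :
    Res g (fm f hη φ) (fm (g ≫ f) hgf φ) := by
  obtain ⟨U, hU, s, rfl⟩ := exists_germ φ
  have h1 : genericPoint X ∈ f ⁻¹ᵁ U := by
    change f (genericPoint X) ∈ U
    rw [hη]; exact hU
  have h2 : genericPoint Z ∈ (g ≫ f) ⁻¹ᵁ U := by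
    change (g ≫ f) (genericPoint Z) ∈ U
    rw [hgf]; exact hU
  refine ⟨f ⁻¹ᵁ U, h1, h2, f.app U s, (fm_germ f hη U hU h1 s).symm, ?_⟩
  rw [fm_germ (g ≫ f) hgf U hU h2, Scheme.Hom.comp_app]
  rfl

/-- Restriction of a global function. -/
theorem res_top (g : Z ⟶ X) (s : Γ(X, ⊤)) :
    Res g (ff ⊤ trivial s) (ff ⊤ trivial (g.appTop s)) :=
  ⟨⊤, trivial, trivial, s, rfl, rfl⟩

end K408.RatRes
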