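import Groth.Agent.AlgGrp.K408.TorCrit
import Groth.Agent.AlgGrp.K408.BcField
import Groth.Agent.Sga7.H109.Dense
import Groth.Agent.Sga7.H738.GaBc

/-!
# Semi-abelian varieties over an algebraically closed field
-/

set_option autoImplicit false

universe u

open CategoryTheory MonoidalCategory CartesianMonoidalCategory MonObj GrpObj AlgebraicGeometry Limits

namespace Groth.Agent.AlgGrp.K408.SemiAb

open Books.AlgPts Books.AlgPtsGrp Sga3.H794.FinPts Sga3.H794.ChevKer Sga3.H794.ChevStep Sga3.H794.ChevAff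
open SemiComm

variable {K : Type u} [Field K] [IsAlgClosed K]

/-- `G` is an extension of an abelian variety by a torus. -/
def SemiAb (G : Over (Spec (CommRingCat.of K))) [GrpObj G] : Prop :=
  ∃ (T : Over (Spec (CommRingCat.of K))) (_ : GrpObj T) (i : T ⟶ G) (A : Over (Spec (CommRingCat.of K)))
    (_ : GrpObj A) (q : G ⟶ A), IsMonHom i ∧ IsClosedImmersion i.left ∧ Red.IsTorus T ∧ IsMonHom q ∧
      Surjective q.left ∧ Flat q.left ∧ AlgGrp.IsKernel i q ∧ IsProper A.hom ∧ Smooth A.hom ∧ ConnectedSpace ↥A.left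

/-- Homomorphisms from `𝔾_a` to a semi-abelian variety are trivial. -/
theorem hom_ga_eq_one {G : Over (Spec (CommRingCat.of K))} [GrpObj G] (h : SemiAb G)
    (j : Red.Ga (Spec (CommRingCat.of K)) ⟶ G) [IsMonHom j] : j = 1 := by
  obtain ⟨T, _, i, A, _, q, hi, hic, hT, hq, hqs, hqf, hK, hAp, hAs, hAc⟩ := h
  have h1 : IsAffine (Red.Ga (Spec (CommRingCat.of K))).left := Sga3.H783.GaGm.isAffine_ga K
  have h2 : Smooth (Red.Ga (Spec (CommRingCat.of K))).hom := Sga7.H738.GaBc.smooth_ga (S := Spec (CommRingCat.of K))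
  have h3 : IsIntegral (Red.Ga (Spec (CommRingCat.of K))).left := Sga3.H783.GaGm.isIntegral_ga K
  have h4 : ConnectedSpace (Red.Ga (Spec (CommRingCat.of K))).left := inferInstance
  have h5 : j ≫ q = 1 := Sga3.H821.AffProper.hom_eq_one K _ _ (j ≫ q)
  obtain ⟨k, hk⟩ := exists_lift_ker hK j h5
  have him : Mono i := mono_of_isClosedImmersion i
  have hkm : IsMonHom k := by
    have : IsMonHom (k ≫ i) := by rw [hk]; infer_instance
    exact Sga3C.SubGrp.isMonHom_of_comp_mono k i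
  have h6 : k = 1 := TorCrit.hom_ga_eq_one hT k
  rw [← hk, h6]
  exact MonObj.one_comp i

theorem noGa_of_hom_eq_one {G : Over (Spec (CommRingCat.of K))} [GrpObj G]
    (h : ∀ (j : Red.Ga (Spec (CommRingCat.of K)) ⟶ G) [IsMonHom j], j = 1) : Sga7.H109.Basic.NoGa G := by
  intro j hj hjc
  have hjm : Mono j := mono_of_isClosedImmersion j
  have h1 := h j
  have h3 := TorCrit.infinite_ga (K := K)
  have h4 : Subsingleton (𝟙_ (Over (Spec (CommRingCat.of K))) ⟶ Red.Ga (Spec (CommRingCat.of K))) := by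
    refine ⟨fun x y => ?_⟩
    rw [← cancel_mono j, h1, MonObj.comp_one, MonObj.comp_one]
  exact not_finite (𝟙_ (Over (Spec (CommRingCat.of K))) ⟶ Red.Ga (Spec (CommRingCat.of K)))

/-- Semi-abelian varieties are the commutative smooth connected groups without `𝔾_a`. -/
theorem semiAb_iff (G : Over (Spec (CommRingCat.of K))) [GrpObj G] [Smooth G.hom] [QuasiCompact G.hom]
    [ConnectedSpace G.left] : SemiAb G ↔ IsCommMonObj G ∧ Sga7.H109.Basic.NoGa G := by
  constructor
  · intro h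
    refine ⟨?_, noGa_of_hom_eq_one fun j _ => hom_ga_eq_one h j⟩
    obtain ⟨T, _, i, A, _, q, hi, hic, hT, hq, hqs, hqf, hK, hAp, hAs, hAc⟩ := h
    exact comm_of_ext G T A i hT q hK
  · rintro ⟨hc, hn⟩
    obtain ⟨r, i, Q, _, q, h1, h2, h3, h4, h5, h6, h7, h8, h9⟩ := Sga7.H109.Struct.exists_semiabelian G hn
    exact ⟨_, inferInstance, i, Q, inferInstance, q, h1, h2,
      TorCrit.isTorus_of_split ⟨Iso.refl _⟩, h3, h4, h5, h6, h7, h8, h9⟩

omit [IsAlgClosed K] in
theorem isCommMonObj_of_mono {F G : Over (Spec (CommRingCat.of K))} [GrpObj F] [GrpObj G] [IsCommMonObj G]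
    (i : F ⟶ G) [IsMonHom i] [Mono i] : IsCommMonObj F := by
  refine ⟨?_⟩
  rw [← cancel_mono i, Category.assoc, IsMonHom.mul_hom, ← Category.assoc,
    ← BraidedCategory.braiding_naturality, Category.assoc, IsCommMonObj.mul_comm]

/-- Quotients of commutative groups are commutative. -/
theorem isCommMonObj_of_surjective {G Q : Over (Spec (CommRingCat.of K))} [GrpObj G] [GrpObj Q] [IsCommMonObj G]
    [LocallyOfFiniteType G.hom] [Smooth Q.hom] (q : G ⟶ Q) [IsMonHom q] [Surjective q.left] : IsCommMonObj Q := by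
  have hs : IsSeparated Q.hom := Books.AntiAffine.isSeparated_hom Q
  apply isCommMonObj_of_mul_comm
  refine K718.KPts.hom_ext_pt₂ fun x y => ?_
  rw [MonObj.comp_mul, MonObj.comp_mul, lift_fst, lift_snd]
  obtain ⟨x, rfl⟩ := ExtComm.exists_pt_lift q x
  obtain ⟨y, rfl⟩ := ExtComm.exists_pt_lift q y
  rw [← MonObj.mul_comp, ← MonObj.mul_comp, _root_.mul_comm]

theorem dens_of_noGa {G : Over (Spec (CommRingCat.of K))} [GrpObj G] [IsCommMonObj G] [Smooth G.hom]
    [QuasiCompact G.hom] [ConnectedSpace G.left] (h : Sga7.H109.Basic.NoGa G) {l : ℕ} (hl : l.Prime)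
    (hl0 : (l : K) ≠ 0) : ExtComm.Dens l G := fun _ _ f g _ _ hfg =>
  Sga7.H109.Dense.ext_of_torsion h f g l hl hl0 hfg

/-- **Extensions of semi-abelian varieties.** -/
theorem semiAb_ext_iff (G' G G'' : Over (Spec (CommRingCat.of K))) [GrpObj G'] [GrpObj G] [GrpObj G'']
    [Smooth G'.hom] [QuasiCompact G'.hom] [ConnectedSpace ↥G'.left]
    [Smooth G.hom] [QuasiCompact G.hom] [ConnectedSpace ↥G.left]
    [Smooth G''.hom] [QuasiCompact G''.hom] [ConnectedSpace ↥G''.left]
    (j : G' ⟶ G) [IsMonHom j] [IsClosedImmersion j.left]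
    (p : G ⟶ G'') [IsMonHom p] [Surjective p.left] [Flat p.left] (hex : AlgGrp.IsKernel j p) :
    SemiAb G ↔ SemiAb G' ∧ SemiAb G'' := by
  have hjm : Mono j := mono_of_isClosedImmersion j
  constructor
  · intro h
    obtain ⟨hc, hn⟩ := (semiAb_iff G).mp h
    have hc' : IsCommMonObj G' := isCommMonObj_of_mono j
    have hc'' : IsCommMonObj G'' := isCommMonObj_of_surjective p
    exact ⟨(semiAb_iff G').mpr ⟨hc', hn.of_closedImmersion j⟩,
      (semiAb_iff G'').mpr ⟨hc'', Sga7.H109.Quot.noGa_of_surjective p hn⟩⟩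
  · rintro ⟨h', h''⟩
    obtain ⟨hc', hn'⟩ := (semiAb_iff G').mp h'
    obtain ⟨hc'', hn''⟩ := (semiAb_iff G'').mp h''
    obtain ⟨l, hl, hl0⟩ := exists_prime_ne_zero K
    have hc : IsCommMonObj G := ExtComm.comm hl0 (dens_of_noGa hn' hl hl0) (dens_of_noGa hn'' hl hl0).rigid j p hex
    refine (semiAb_iff G).mpr ⟨hc, noGa_of_hom_eq_one fun a _ => ?_⟩
    have h1 : a ≫ p = 1 := hom_ga_eq_one h'' (a ≫ p)
    obtain ⟨k, hk⟩ := exists_lift_ker hex a h1
    have hkm : IsMonHom k := by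
      have : IsMonHom (k ≫ j) := by rw [hk]; infer_instance
      exact Sga3C.SubGrp.isMonHom_of_comp_mono k j
    have h2 : k = 1 := hom_ga_eq_one h' k
    rw [← hk, h2]
    exact MonObj.one_comp j

end Groth.Agent.AlgGrp.K408.SemiAb
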