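import Groth.Agent.AlgGrp.K408.ExtComm
import Groth.Agent.Sga3.H831.TorsReg
import Groth.Agent.Sga7.H109.ProperAffine
import Groth.Agent.Sga3B.SplitBc264
import Groth.Agent.AbVar.K514.GI
import Groth.Agent.Sga3B.RedIdComp

/-!
# Extensions of abelian varieties by tori are commutative
-/

set_option autoImplicit false

universe u

open CategoryTheory MonoidalCategory CartesianMonoidalCategory MonObj GrpObj AlgebraicGeometry Limits

namespace Groth.Agent.AlgGrp.K408.SemiComm

open ExtComm

theorem exists_prime_ne_zero (K : Type u) [Field K] : ∃ l : ℕ, l.Prime ∧ (l : K) ≠ 0 := by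
  by_cases h : ((2 : ℕ) : K) = 0
  · refine ⟨3, Nat.prime_three, fun h3 => one_ne_zero (α := K) ?_⟩
    have : (1 : K) = ((3 : ℕ) : K) - ((2 : ℕ) : K) := by push_cast; norm_num
    rw [this, h, h3, sub_zero]
  · exact ⟨2, Nat.prime_two, h⟩

theorem isCommMonObj_of_mul_comm {S : Scheme.{u}} {E : Over S} [GrpObj E]
    (h : fst E E * snd E E = snd E E * fst E E) : IsCommMonObj E := by
  constructor
  rw [Hom.mul_def, Hom.mul_def, lift_fst_snd, Category.id_comp] at h
  have h3 : (β_ E E).hom = lift (snd E E) (fst E E) := by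
    apply CartesianMonoidalCategory.hom_ext <;> simp
  rw [h3, ← h]

/-- Commutativity descends along faithfully flat base change. -/
theorem isCommMonObj_of_bc {S S' : Scheme.{u}} (f : S' ⟶ S) [Flat f] [Surjective f]
    {G : Over S} [GrpObj G] (h : IsCommMonObj (Red.bc f G)) : IsCommMonObj G := by
  apply isCommMonObj_of_mul_comm
  have hmul : ∀ (a b : G ⊗ G ⟶ G), (Over.pullback f).map (a * b) =
      ((Over.pullback f).map a : Red.bc f (G ⊗ G) ⟶ Red.bc f G) * (Over.pullback f).map b :=
    fun a b => Functor.map_mul _ _ _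
  have h1 : (Over.pullback f).map (fst G G * snd G G) = (Over.pullback f).map (snd G G * fst G G) := by
    rw [hmul, hmul, _root_.mul_comm]
  ext1
  have h2 : Epi (pullback.fst (G ⊗ G).hom f) := Flat.epi_of_flat_of_surjective _
  rw [← cancel_epi (pullback.fst (G ⊗ G).hom f)]
  have h3 : ∀ a : G ⊗ G ⟶ G, pullback.fst (G ⊗ G).hom f ≫ a.left =
      ((Over.pullback f).map a).left ≫ pullback.fst G.hom f := by
    intro a
    exact (pullback.lift_fst _ _ _).symm
  rw [h3, h3, h1]

variable {K : Type u} [Field K] [IsAlgClosed K]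

theorem isCommMonObj_of_isTorus {T : Over (Spec (CommRingCat.of K))} [GrpObj T] (h : Red.IsTorus T) :
    IsCommMonObj T :=
  isCommMonObj_of_mul_comm (Sga3B.SplitBc264.torus_comm h _ _)

theorem isCommMonObj_of_isProper (A : Over (Spec (CommRingCat.of K))) [GrpObj A] [IsProper A.hom] [Smooth A.hom]
    [ConnectedSpace A.left] : IsCommMonObj A := by
  have : IsReduced A.left := Books.AlgPtsSmooth.isReduced_of_smooth A
  have : GeometricallyReduced A.hom := Sga3B.RedIdComp.geometricallyReduced_of_isReduced A.hom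
  have : GeometricallyIntegral A.hom := K514.GI.geometricallyIntegral A
  exact isCommMonObj_of_isProper_of_geometricallyIntegral A

theorem dens_of_isTorus {T : Over (Spec (CommRingCat.of K))} [GrpObj T] (h : Red.IsTorus T) {l : ℕ}
    (hl : l.Prime) (hl0 : (l : K) ≠ 0) : Dens l T := fun H _ f g _ _ hfg =>
  Sga3.H831.TorsReg.hom_ext_lTorsion h hl hl0 f g hfg

/-- **An extension of an abelian variety by a torus is commutative.** -/
theorem comm_of_ext (E T A : Over (Spec (CommRingCat.of K))) [GrpObj E] [GrpObj T] [GrpObj A] [Smooth E.hom]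
    [QuasiCompact E.hom] [ConnectedSpace E.left] (i : T ⟶ E) [IsMonHom i] (hT : Red.IsTorus T) (q : E ⟶ A)
    [IsMonHom q] [Surjective q.left] [Flat q.left] (hK : AlgGrp.IsKernel i q) [IsProper A.hom] [Smooth A.hom]
    [ConnectedSpace A.left] : IsCommMonObj E := by
  have hTc := isCommMonObj_of_isTorus hT
  have hAc := isCommMonObj_of_isProper A
  have hTa : IsAffineHom T.hom := Sga3B.TorusAlgClosed.isAffineHom_of_isTorus hT
  have hTs : Smooth T.hom := Sga3B.TorusAlgClosed.smooth_of_isTorus hT
  have hTa' : IsAffine T.left := isAffine_of_isAffineHom T.hom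
  obtain ⟨l, hl, hl0⟩ := exists_prime_ne_zero K
  refine comm hl0 (dens_of_isTorus hT hl hl0) ?_ i q hK
  intro f _ _
  exact Sga7.H109.ProperAffine.hom_eq_one K A T f

end Groth.Agent.AlgGrp.K408.SemiComm
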