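import Groth.Agent.AlgGrp.K408.SemiComm
import Groth.Agent.AlgGrp.K408.GaTor
import Groth.Agent.AlgGrp.K408.CharUnit
import Groth.Agent.Sga3.H794.ChevStep
import Groth.Agent.Sga3.H794.ChevAff
import Groth.Agent.Sga3.H794.RedIdNormal
import Groth.Agent.Sga3.H794.FinPts
import Groth.Agent.Sga7.H738.TorusG
import Groth.Agent.Sga3B.BorSpan613

/-!
# Criteria for smooth connected groups to be tori

Over an algebraically closed field: a smooth connected algebraic group with a homomorphism to a split torus with finitely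
many rational points in the kernel is a split torus, and an extension of a split torus by a torus is a split torus.
-/

set_option autoImplicit false

universe u

open CategoryTheory MonoidalCategory CartesianMonoidalCategory MonObj GrpObj AlgebraicGeometry Limits

namespace Groth.Agent.AlgGrp.K408.TorCrit

open Books.AlgPts Books.AlgPtsGrp Sga3.H794.FinPts Sga3.H794.ChevKer Sga3.H794.ChevStep Sga3.H794.ChevAff
open SemiComm

variable {K : Type u} [Field K]

theorem infinite_ga [Infinite K] : Infinite (𝟙_ (Over (Spec (CommRingCat.of K))) ⟶ Red.Ga (Spec (CommRingCat.of K))) := by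
  have h1 : Function.Injective (Scheme.ΓSpecIso (CommRingCat.of K)).inv := by
    intro x y h
    have h2 := congrArg (Scheme.ΓSpecIso (CommRingCat.of K)).hom h
    simpa using h2
  have h2 : Infinite Γ(Spec (CommRingCat.of K), ⊤) := Infinite.of_injective _ h1
  have h3 : Infinite (Multiplicative Γ((𝟙_ (Over (Spec (CommRingCat.of K)))).left, ⊤)) := h2
  exact Infinite.of_injective _
    (Sga3B.GaPts.gaEquiv (S := Spec (CommRingCat.of K)) (𝟙_ (Over (Spec (CommRingCat.of K))))).injective

theorem toUnit_self_comp {X : Over (Spec (CommRingCat.of K))} (x : 𝟙_ (Over (Spec (CommRingCat.of K))) ⟶ X) :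
    toUnit (𝟙_ (Over (Spec (CommRingCat.of K)))) ≫ x = x := by
  rw [toUnit_unique (toUnit (𝟙_ (Over (Spec (CommRingCat.of K))))) (𝟙 _), Category.id_comp]

variable [IsAlgClosed K]

/-- `E` contains no closed `𝔾_a`. -/
def NoGa (E : Over (Spec (CommRingCat.of K))) [GrpObj E] : Prop :=
  ∀ j : Red.Ga (Spec (CommRingCat.of K)) ⟶ E, IsMonHom j → IsClosedImmersion j.left → False

omit [IsAlgClosed K] in
theorem isSplitTorusWith_iff {M : Type} [AddCommGroup M] {T : Over (Spec (CommRingCat.of K))} [GrpObj T] :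
    Red.IsSplitTorusWith M T ↔ ∃ e : T ≅ Red.DS (Spec (CommRingCat.of K)) M, IsMonHom e.hom := by
  constructor
  · rintro ⟨e⟩
    exact ⟨(Grp.forget _).mapIso e, e.hom.hom.isMonHom_hom⟩
  · rintro ⟨e, he⟩
    exact ⟨Grp.mkIso' e⟩

/-- Homomorphisms from `𝔾_a` to a torus are trivial. -/
theorem hom_ga_eq_one {T : Over (Spec (CommRingCat.of K))} [GrpObj T]
    (hT : Red.IsTorus T) (j : Red.Ga (Spec (CommRingCat.of K)) ⟶ T) [IsMonHom j] : j = 1 := by
  obtain ⟨r, hT⟩ := Sga3B.TorusAlgClosed.exists_isSplitTorusWith hT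
  obtain ⟨e, he⟩ := isSplitTorusWith_iff.mp hT
  have h1 := GaTor.hom_ga_ds_eq_one (j ≫ e.hom)
  rw [← cancel_mono e.hom, h1]
  exact (MonObj.one_comp e.hom).symm

/-- If a homomorphism from `E` to a split torus has finite kernel on rational points, `E` contains no `𝔾_a`. -/
theorem noGa_of_finite {E T : Over (Spec (CommRingCat.of K))} [GrpObj E] [GrpObj T]
    (hT : Red.IsTorus T) (t : E ⟶ T) [IsMonHom t]
    (hfin : {x : 𝟙_ (Over (Spec (CommRingCat.of K))) ⟶ E | x ≫ t = 1}.Finite) : NoGa E := by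
  intro j hj hjc
  have hm : Mono j := mono_of_isClosedImmersion j
  have h1 : j ≫ t = 1 := hom_ga_eq_one hT (j ≫ t)
  have h2 := infinite_ga (K := K)
  have h3 : Set.Infinite (Set.range fun x : 𝟙_ (Over (Spec (CommRingCat.of K))) ⟶ Red.Ga (Spec (CommRingCat.of K)) =>
      x ≫ j) := Set.infinite_range_of_injective fun x y h => by
    rwa [← cancel_mono j]
  refine h3 (hfin.subset ?_)
  rintro _ ⟨x, rfl⟩
  change (x ≫ j) ≫ t = 1
  rw [Category.assoc, h1, MonObj.comp_one]

/-- Commutators with values in a group with finitely many rational points are trivial. -/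
theorem comm_of_finite {E T : Over (Spec (CommRingCat.of K))} [GrpObj E] [GrpObj T] [IsCommMonObj T] [Smooth E.hom]
    [ConnectedSpace E.left] [LocallyOfFiniteType T.hom] (t : E ⟶ T) [IsMonHom t]
    (hfin : {x : 𝟙_ (Over (Spec (CommRingCat.of K))) ⟶ E | x ≫ t = 1}.Finite) : IsCommMonObj E := by
  have hsep : IsSeparated E.hom := Books.AntiAffine.isSeparated_hom E
  have hsepT : IsSeparated T.hom := Books.AntiAffine.isSeparated_hom T
  obtain ⟨F, _, n, hn1, hn2⟩ := Grpsch.KerMul.exists_kernel t
  have hncl : IsClosedImmersion n.left := isClosedImmersion_ker n t hn2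
  have hnm : Mono n := mono_of_isClosedImmersion n
  have hFlft : LocallyOfFiniteType F.hom := by rw [← Over.w n]; infer_instance
  have hF : Finite (𝟙_ (Over (Spec (CommRingCat.of K))) ⟶ F) := by
    have := hfin.to_subtype
    refine Finite.of_injective (β := {x : 𝟙_ (Over (Spec (CommRingCat.of K))) ⟶ E | x ≫ t = 1})
      (fun y => ⟨y ≫ n, ker_comp hn2 y⟩) (fun y y' hyy' => ?_)
    have h1 : y ≫ n = y' ≫ n := congrArg Subtype.val hyy'
    exact (cancel_mono n).mp h1
  have hdisc := discreteTopology_of_finite hF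
  apply isCommMonObj_of_mul_comm
  refine K718.KPts.hom_ext_pt₂ fun g y => ?_
  rw [MonObj.comp_mul, MonObj.comp_mul, lift_fst, lift_snd]
  -- the map `g ↦ [g, y]`
  obtain ⟨c, hc⟩ := exists_lift_ker hn2 (𝟙 E * (toUnit E ≫ y) * (𝟙 E)⁻¹ * (toUnit E ≫ y)⁻¹) (by
    rw [MonObj.mul_comp, MonObj.mul_comp, MonObj.mul_comp, GrpObj.inv_comp, GrpObj.inv_comp,
      _root_.mul_comm (𝟙 E ≫ t)]
    group)
  have hc' : ∀ g : 𝟙_ (Over (Spec (CommRingCat.of K))) ⟶ E, (g ≫ c) ≫ n = g * y * g⁻¹ * y⁻¹ := by
    intro g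
    rw [Category.assoc, hc]
    simp only [MonObj.comp_mul, GrpObj.comp_inv, Category.comp_id]
    rw [← Category.assoc, toUnit_unique (g ≫ toUnit E) (toUnit _), toUnit_self_comp]
  have h1 : g ≫ c = (1 : 𝟙_ (Over (Spec (CommRingCat.of K))) ⟶ E) ≫ c := by
    apply pt_injective
    rw [pt_comp, pt_comp]
    exact PreconnectedSpace.constant inferInstance c.left.continuous
  have h2 := hc' g
  rw [h1, hc' 1] at h2
  have h3 : g * y * g⁻¹ * y⁻¹ = 1 := by
    rw [← h2]; group
  rw [mul_inv_eq_one, mul_inv_eq_iff_eq_mul] at h3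
  exact h3

/-- A smooth connected affine commutative group without `𝔾_a` is a split torus. -/
theorem exists_split {E : Over (Spec (CommRingCat.of K))} [GrpObj E] [IsCommMonObj E] [IsAffine E.left] [Smooth E.hom]
    [ConnectedSpace E.left] (h : NoGa E) : ∃ r : ℕ, Red.IsSplitTorusWith (Fin r → ℤ) E :=
  Sga7.H738.TorusG.nonempty_iso_ds K E h

theorem isTorus_of_split {r : ℕ} {T : Over (Spec (CommRingCat.of K))} [GrpObj T]
    (h : Red.IsSplitTorusWith (Fin r → ℤ) T) : Red.IsTorus T :=
  Sga3B.BorSpan613.isTorus_of_isSplitTorusWith h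

/-- A smooth connected algebraic group with a homomorphism with finite kernel to a split torus is a split torus. -/
theorem exists_split_of_finite {E T : Over (Spec (CommRingCat.of K))} [GrpObj E] [GrpObj T]
    (hT' : Red.IsTorus T) [Smooth E.hom] [QuasiCompact E.hom]
    [ConnectedSpace E.left] (t : E ⟶ T) [IsMonHom t]
    (hfin : {x : 𝟙_ (Over (Spec (CommRingCat.of K))) ⟶ E | x ≫ t = 1}.Finite) :
    ∃ r : ℕ, Red.IsSplitTorusWith (Fin r → ℤ) E := by
  have hTa : IsAffineHom T.hom := Sga3B.TorusAlgClosed.isAffineHom_of_isTorus hT'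
  have hTs : Smooth T.hom := Sga3B.TorusAlgClosed.smooth_of_isTorus hT'
  have hTa' : IsAffine T.left := isAffine_of_isAffineHom T.hom
  have hTc := isCommMonObj_of_isTorus hT'
  have hEc := comm_of_finite t hfin
  have hqc : QuasiCompact t.left := quasiCompact_left t
  have hf : IsFinite t.left := isFinite_of_finite_ker t hfin
  have hEa : IsAffine E.left := isAffine_of_isAffineHom t.left
  exact exists_split (noGa_of_finite hT' t hfin)

/-- A smooth connected extension of a split torus by a split torus is a split torus. -/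
theorem exists_split_of_ext {M E T : Over (Spec (CommRingCat.of K))} [GrpObj M] [GrpObj E] [GrpObj T]
    (hM' : Red.IsTorus M) (hT' : Red.IsTorus T) [Smooth E.hom] [QuasiCompact E.hom]
    [ConnectedSpace E.left] (m : M ⟶ E) [IsMonHom m] (t : E ⟶ T) [IsMonHom t] [Flat t.left] [Surjective t.left]
    (hK : AlgGrp.IsKernel m t) : ∃ r : ℕ, Red.IsSplitTorusWith (Fin r → ℤ) E := by
  have hTa : IsAffineHom T.hom := Sga3B.TorusAlgClosed.isAffineHom_of_isTorus hT'
  have hTs : Smooth T.hom := Sga3B.TorusAlgClosed.smooth_of_isTorus hT'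
  have hTa' : IsAffine T.left := isAffine_of_isAffineHom T.hom
  have hTc := isCommMonObj_of_isTorus hT'
  have hMa : IsAffineHom M.hom := Sga3B.TorusAlgClosed.isAffineHom_of_isTorus hM'
  have hMs : Smooth M.hom := Sga3B.TorusAlgClosed.smooth_of_isTorus hM'
  have hMc := isCommMonObj_of_isTorus hM'
  have hMm : Mono m := ExtComm.mono_of_isPullback_one hK
  obtain ⟨l, hl, hl0⟩ := exists_prime_ne_zero K
  have hEc : IsCommMonObj E := ExtComm.comm hl0 (dens_of_isTorus hM' hl hl0) (dens_of_isTorus hT' hl hl0).rigid m t hK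
  have hqc : QuasiCompact t.left := quasiCompact_left t
  have hta : IsAffineHom t.left := isAffineHom_of_isAffine_ker m t hK
  have hEa : IsAffine E.left := isAffine_of_isAffineHom t.left
  refine exists_split fun j hj hjc => ?_
  have hjm : Mono j := mono_of_isClosedImmersion j
  have h1 : j ≫ t = 1 := hom_ga_eq_one hT' (j ≫ t)
  obtain ⟨k, hk⟩ := exists_lift_ker hK j h1
  have hkm : IsMonHom k := by
    have : IsMonHom (k ≫ m) := by rw [hk]; exact hj
    exact Sga3C.SubGrp.isMonHom_of_comp_mono k m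
  have h2 : k = 1 := hom_ga_eq_one hM' k
  have h3 := infinite_ga (K := K)
  have h4 : Subsingleton (𝟙_ (Over (Spec (CommRingCat.of K))) ⟶ Red.Ga (Spec (CommRingCat.of K))) := by
    refine ⟨fun x y => ?_⟩
    rw [← cancel_mono j, ← hk, h2, ← Category.assoc, ← Category.assoc, MonObj.comp_one, MonObj.comp_one]
  exact not_finite (𝟙_ (Over (Spec (CommRingCat.of K))) ⟶ Red.Ga (Spec (CommRingCat.of K)))

end Groth.Agent.AlgGrp.K408.TorCrit
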