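import Groth.Agent.AlgGrp.K408.TorsDesc
import Groth.Agent.AlgGrp.K408.OpenSub
import Groth.Agent.Desc.OpenDD
import Groth.Agent.S9866
import Groth.Agent.S1134

/-!
# Descent along a principal bundle: local-to-global and the quasi-affine case
-/

set_option autoImplicit false

universe u

open CategoryTheory CategoryTheory.Limits MonoidalCategory CartesianMonoidalCategory MonObj GrpObj AlgebraicGeometry
open Groth.Agent.Books.BorelOrb
open _root_.K408.TorsDesc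

namespace Groth.Agent.AlgGrp.K408.TorsEff

variable {B : Scheme.{u}} {G X Y P : Over B} [GrpObj G] {a : AlgGrp.Action G X} {f : X ⟶ Y}
variable (hsq : IsPullback a.act.left (snd G X).left f.left f.left) {c : AlgGrp.Action G P} {p : P ⟶ X}
    (hp : c.act ≫ p = (G ◁ p) ≫ a.act)

theorem isEff {W : Over B} (φ : P ⟶ W) (ψ : W ⟶ Y) (hφ : c.act ≫ φ = snd G P ≫ φ)
    (h : IsPullback p.left φ.left f.left ψ.left) :
    Desc.OpenDD.IsEff (datum hsq hp) (Over.mk ψ.left) φ.left := by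
  refine ⟨h, fun T x₀ x₁ hx y => ?_⟩
  obtain ⟨m, h1, h2⟩ := exists_tp hsq hp x₀ x₁ hx y
  have e : m ≫ (snd G P).left ≫ φ.left = m ≫ c.act.left ≫ φ.left := by
    rw [← Over.comp_left, ← Over.comp_left, hφ]
  have e1 : (tp hsq hp x₀ x₁ hx y).1 ≫ φ.left = (m ≫ (snd G P).left) ≫ φ.left := congrArg (· ≫ φ.left) h2.symm
  have e2 : (m ≫ c.act.left) ≫ φ.left = y.1 ≫ φ.left := congrArg (· ≫ φ.left) h1
  exact e1.trans ((Category.assoc _ _ _).trans (e.trans ((Category.assoc _ _ _).symm.trans e2)))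

theorem exists_hom {P' : Over B} {c' : AlgGrp.Action G P'} {p' : P' ⟶ X} (hp' : c'.act ≫ p' = (G ◁ p') ≫ a.act)
    (w : P' ⟶ P) (hw : c'.act ≫ w = (G ◁ w) ≫ c.act) (hwp : w ≫ p = p') :
    ∃ j : datum hsq hp' ⟶ datum hsq hp, j.hom.left = w.left := by
  have hwl : w.left ≫ p.left = p'.left := by rw [← Over.comp_left, hwp]
  refine ⟨⟨Over.homMk w.left hwl, ?_⟩, rfl⟩
  intro T x₀ x₁ h v w' hw'
  obtain ⟨m, h1, h2⟩ := exists_tp hsq hp' x₀ x₁ h v
  have hw'' : w'.1 = v.1 ≫ w.left := hw'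
  have h3 : ((tp hsq hp' x₀ x₁ h v).1 ≫ w.left) ≫ p.left = x₁ := by
    rw [Category.assoc, hwl]; exact (tp hsq hp' x₀ x₁ h v).2
  have e1 : (m ≫ (G ◁ w).left) ≫ c.act.left = (m ≫ c'.act.left) ≫ w.left := by
    rw [Category.assoc, Category.assoc, ← Over.comp_left, ← hw, Over.comp_left]
  have e2 : (m ≫ (G ◁ w).left) ≫ (snd G P).left = (m ≫ (snd G P').left) ≫ w.left := by
    rw [Category.assoc, Category.assoc, ← Over.comp_left, whiskerLeft_snd, Over.comp_left]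
  have h4 := tp_eq_iff hsq hp x₀ x₁ h w' ⟨(tp hsq hp' x₀ x₁ h v).1 ≫ w.left, h3⟩ (m ≫ (G ◁ w).left)
    (e1.trans ((congrArg (· ≫ w.left) h1).trans hw''.symm))
    (e2.trans (congrArg (· ≫ w.left) h2))
  exact congrArg Subtype.val h4

include hsq hp in
/-- effectivity is local -/
theorem glue [Flat f.left] [Surjective f.left] [QuasiCompact f.left]
    (hv : ∀ v : P.left, ∃ (V : Over B) (w : V ⟶ P) (cV : AlgGrp.Action G V) (W : Over B) (φ : V ⟶ W) (ψ : W ⟶ Y),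
      IsOpenImmersion w.left ∧ v ∈ Set.range w.left ∧ cV.act ≫ w = (G ◁ w) ≫ c.act ∧
      cV.act ≫ φ = snd G V ≫ φ ∧ IsPullback (w ≫ p).left φ.left f.left ψ.left) :
    ∃ (W : Over B) (φ : P ⟶ W) (ψ : W ⟶ Y), c.act ≫ φ = snd G P ≫ φ ∧
      IsPullback p.left φ.left f.left ψ.left := by
  apply exists_quotient hsq hp
  apply S9866.result
  intro v
  obtain ⟨V, w, cV, W, φ, ψ, hwo, hvr, hw, hφ, hpb⟩ := hv v
  have hp' : cV.act ≫ (w ≫ p) = (G ◁ (w ≫ p)) ≫ a.act := by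
    rw [← Category.assoc, hw, Category.assoc, hp, MonoidalCategory.whiskerLeft_comp, Category.assoc]
  obtain ⟨j, hj⟩ := exists_hom hsq hp hp' w hw rfl
  refine ⟨datum hsq hp', j, ?_, ?_, _, (isEff hsq hp' φ ψ hφ hpb).nonempty_iso⟩
  · rw [hj]; exact hwo
  · rw [hj]; exact hvr

include hsq hp in
/-- the quasi-affine case -/
theorem of_isQuasiAffine [Flat f.left] [Surjective f.left] [QuasiCompact f.left]
    (h : Mor2.IsQuasiAffine p.left) :
    ∃ (W : Over B) (φ : P ⟶ W) (ψ : W ⟶ Y), c.act ≫ φ = snd G P ≫ φ ∧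
      IsPullback p.left φ.left f.left ψ.left :=
  exists_quotient hsq hp (S1134.result f.left (datum hsq hp) h)

end Groth.Agent.AlgGrp.K408.TorsEff
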