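import Groth.Agent.AlgGrp.K408.TorsEff
import Groth.Agent.Sga3C.QuotProps
import Groth.Agent.S2338
import Groth.Agent.Desc.LqfQAff
import Mathlib.AlgebraicGeometry.AffineSpace

/-!
# Quasi-affine stable pieces from invariant functions
-/

set_option autoImplicit false

universe u

open CategoryTheory CategoryTheory.Limits MonoidalCategory CartesianMonoidalCategory MonObj GrpObj AlgebraicGeometry
open Groth.Agent.Books.BorelOrb
open Groth.Agent.AlgGrp.K408.InvSch Groth.Agent.AlgGrp.K408.OpenSub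

namespace Groth.Agent.AlgGrp.K408.TorsQAff

variable {B : Scheme.{u}}

section vec

variable (B) in
/-- affine space -/
noncomputable def A (I : Type u) : Over B := Over.mk (𝔸(I; B) ↘ B)

instance (I : Type u) : IsAffineHom (A B I).hom := inferInstanceAs (IsAffineHom (𝔸(I; B) ↘ B))

variable {I : Type u}

/-- the morphism given by functions -/
noncomputable def vec {T : Over B} (v : I → Γ(T.left, ⊤)) : T ⟶ A B I :=
  Over.homMk (AffineSpace.homOfVector T.hom v) (AffineSpace.homOfVector_over _ _)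

/-- the coordinates -/
noncomputable def co (i : I) : Γ((A B I).left, ⊤) := AffineSpace.coord B i

theorem ev_vec {T : Over B} (v : I → Γ(T.left, ⊤)) (i : I) : ev (vec v) (co i) = v i :=
  AffineSpace.homOfVector_appTop_coord _ _ _

theorem vec_ext {T : Over B} {s t : T ⟶ A B I} (h : ∀ i, ev s (co i) = ev t (co i)) : s = t := by
  apply Over.OverMorphism.ext
  apply AffineSpace.hom_ext
  · exact (Over.w s).trans (Over.w t).symm
  · exact h

end vec

variable {P' P X : Over B} {π : P' ⟶ P} {I : Type u} {F : I → Γ(P'.left, ⊤)}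

theorem mem_of_eq (lam : ∀ (T : Over B) (t t' : T ⟶ P'), t ≫ π = t' ≫ π → ∃ r : (Γ(T.left, ⊤))ˣ,
    ∀ i, ev t' (F i) = r * ev t (F i)) (i : I) {y y₀ : P'.left} (h : π.left y = π.left y₀)
    (hy₀ : y₀ ∈ P'.left.basicOpen (F i)) : y ∈ P'.left.basicOpen (F i) := by
  obtain ⟨z, hz1, hz2⟩ := Scheme.Pullback.exists_preimage_pullback y y₀ h
  let T : Over B := Over.mk (pullback.fst π.left π.left ≫ P'.hom)
  let t : T ⟶ P' := Over.homMk (pullback.fst π.left π.left) rfl
  let t' : T ⟶ P' := Over.homMk (pullback.snd π.left π.left) (by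
    change pullback.snd π.left π.left ≫ P'.hom = pullback.fst π.left π.left ≫ P'.hom
    rw [← Over.w π, ← Category.assoc, ← Category.assoc, pullback.condition])
  obtain ⟨r, hr⟩ := lam T t' t (by
    apply Over.OverMorphism.ext
    exact pullback.condition.symm)
  have h1 : z ∈ T.left.basicOpen (ev t' (F i)) := by
    rw [← mem_basicOpen_ev]
    change pullback.snd π.left π.left z ∈ _
    rw [hz2]; exact hy₀
  have h2 : z ∈ T.left.basicOpen (ev t (F i)) := by
    rw [hr, Scheme.basicOpen_mul, Scheme.basicOpen_of_isUnit _ r.isUnit]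
    exact ⟨trivial, h1⟩
  rw [← mem_basicOpen_ev] at h2
  change pullback.fst π.left π.left z ∈ _ at h2
  rwa [hz1] at h2

theorem exists_fpqc_lift {D W : Over B} (q : D ⟶ W) [Flat q.left] [Surjective q.left] {T : Over B} (t : T ⟶ W) :
    ∃ (T' : Over B) (u : T' ⟶ T) (s : T' ⟶ D), Flat u.left ∧ Surjective u.left ∧ s ≫ q = u ≫ t := by
  refine ⟨Over.mk (pullback.fst t.left q.left ≫ T.hom), Over.homMk (pullback.fst t.left q.left) rfl,
    Over.homMk (pullback.snd t.left q.left) ?_, ?_, ?_, ?_⟩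
  · change pullback.snd t.left q.left ≫ D.hom = pullback.fst t.left q.left ≫ T.hom
    rw [← Over.w q, ← Category.assoc, ← pullback.condition, Category.assoc, Over.w]
  · exact inferInstanceAs (Flat (pullback.fst t.left q.left))
  · exact inferInstanceAs (Surjective (pullback.fst t.left q.left))
  · apply Over.OverMorphism.ext
    exact pullback.condition.symm

/-- the image open -/
noncomputable def im (π : P' ⟶ P) [Flat π.left] [LocallyOfFinitePresentation π.left] (U : P'.left.Opens) : P.left.Opens :=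
  ⟨π.left '' U, π.left.isOpenMap _ U.isOpen⟩

variable [Flat π.left] [LocallyOfFinitePresentation π.left]

/-- the cartesian square -/
theorem exists_sq (lam : ∀ (T : Over B) (t t' : T ⟶ P'), t ≫ π = t' ≫ π → ∃ r : (Γ(T.left, ⊤))ˣ,
    ∀ i, ev t' (F i) = r * ev t (F i)) (i : I) :
    ∃ q : opn P' (P'.left.basicOpen (F i)) ⟶ opn P (im π (P'.left.basicOpen (F i))),
      IsPullback (opnι P' (P'.left.basicOpen (F i))) q π (opnι P (im π (P'.left.basicOpen (F i)))) := by
  obtain ⟨q, hq⟩ := exists_lift_opn (U := im π (P'.left.basicOpen (F i)))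
    (opnι P' (P'.left.basicOpen (F i)) ≫ π) (by
      intro x
      rw [comp_left_apply]
      exact ⟨_, opnι_mem _ _ x, rfl⟩)
  have hs : ∀ s : PullbackCone π (opnι P (im π (P'.left.basicOpen (F i)))), ∀ x : s.pt.left,
      s.fst.left x ∈ P'.left.basicOpen (F i) := by
    intro s x
    have h1 : π.left (s.fst.left x) ∈ im π (P'.left.basicOpen (F i)) := by
      rw [← comp_left_apply, s.condition, comp_left_apply]
      exact opnι_mem _ _ _
    obtain ⟨y₀, hy₀, hy⟩ := h1
    exact mem_of_eq lam i hy.symm hy₀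
  refine ⟨q, ⟨⟨hq.symm⟩, ⟨PullbackCone.IsLimit.mk _ (fun s => (exists_lift_opn s.fst (hs s)).choose) ?_ ?_ ?_⟩⟩⟩
  · intro s; exact (exists_lift_opn s.fst (hs s)).choose_spec
  · intro s
    rw [← cancel_mono (opnι P (im π (P'.left.basicOpen (F i)))), Category.assoc, hq, ← Category.assoc,
      (exists_lift_opn s.fst (hs s)).choose_spec, s.condition]
  · intro s m h1 h2
    rw [← cancel_mono (opnι P' (P'.left.basicOpen (F i))), h1, (exists_lift_opn s.fst (hs s)).choose_spec]

omit [Flat π.left] [LocallyOfFinitePresentation π.left] in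
/-- the morphism to affine space is a monomorphism -/
theorem quasiAffine_aux {D W : Over B} {d : D ⟶ P'} {q : D ⟶ W} {w : W ⟶ P} (hq : q ≫ w = d ≫ π) [Mono w]
    [Flat q.left] [Surjective q.left] [LocallyOfFinitePresentation q.left] [CompactSpace D.left]
    (p : P ⟶ X) [LocallyOfFiniteType (w ≫ p).left] [IsAffine X.left] [Finite I]
    (lam : ∀ (T : Over B) (t t' : T ⟶ P'), t ≫ π = t' ≫ π → ∃ r : (Γ(T.left, ⊤))ˣ,
      ∀ i, ev t' (F i) = r * ev t (F i))
    (sep : ∀ (T : Over B) (t t' : T ⟶ P'), (t ≫ π) ≫ p = (t' ≫ π) ≫ p → ∀ r : (Γ(T.left, ⊤))ˣ,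
      (∀ i, ev t' (F i) = r * ev t (F i)) → t ≫ π = t' ≫ π) (i : I) (hu : IsUnit (ev d (F i))) :
    Mor2.IsQuasiAffine (w ≫ p).left := by
  obtain ⟨u, hu⟩ := hu
  obtain ⟨M, hM⟩ : ∃ M : D ⟶ A B I, ∀ l, ev M (co l) * ev d (F i) = ev d (F l) := by
    refine ⟨vec fun l => ev d (F l) * ((u⁻¹ : (Γ(D.left, ⊤))ˣ) : Γ(D.left, ⊤)), fun l => ?_⟩
    rw [ev_vec, ← hu, _root_.mul_assoc, Units.inv_mul, _root_.mul_one]
  have hM' : ∀ (T : Over B) (t : T ⟶ D) l, ev (t ≫ M) (co l) * ev (t ≫ d) (F i) = ev (t ≫ d) (F l) := by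
    intro T t l
    rw [ev_comp, ev_comp, ev_comp, ← map_mul, hM]
  have hu' : ∀ (T : Over B) (t : T ⟶ D), IsUnit (ev (t ≫ d) (F i)) := by
    intro T t
    rw [ev_comp, ← hu]
    exact (Units.isUnit u).map _
  -- descend
  obtain ⟨M', hM'q⟩ := Sga3C.QuotProps.exists_desc q M (by
    intro T x y hxy
    obtain ⟨r, hr⟩ := lam T (x ≫ d) (y ≫ d) (by
      rw [Category.assoc, Category.assoc, ← hq, ← Category.assoc, hxy, Category.assoc])
    apply vec_ext
    intro l
    have h1 := hM' T x l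
    have h2 := hM' T y l
    rw [hr l, hr i, ← h1] at h2
    have h3 : IsUnit ((r : Γ(T.left, ⊤)) * ev (x ≫ d) (F i)) := r.isUnit.mul (hu' T x)
    refine (h3.mul_left_inj).mp ?_
    rw [h2]
    ring)
  obtain ⟨N, hN1, hN2⟩ : ∃ N : W ⟶ X ⊗ A B I, N ≫ fst _ _ = w ≫ p ∧ N ≫ snd _ _ = M' :=
    ⟨lift (w ≫ p) M', lift_fst _ _, lift_snd _ _⟩
  have hmono : Mono N := by
    constructor
    intro T t₁ t₂ ht
    obtain ⟨T₁, u₁, s₁, hf₁, hs₁, e₁⟩ := exists_fpqc_lift q t₁
    obtain ⟨T₂, u₂, s₂, hf₂, hs₂, e₂⟩ := exists_fpqc_lift q (u₁ ≫ t₂)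
    have := Sga3C.QuotProps.epi_of_flat_surjective u₁
    have := Sga3C.QuotProps.epi_of_flat_surjective u₂
    have hx : (u₂ ≫ s₁) ≫ q = u₂ ≫ u₁ ≫ t₁ := by rw [Category.assoc, e₁]
    have h1 : (u₂ ≫ s₁) ≫ M = s₂ ≫ M := by
      rw [← hM'q, ← Category.assoc, hx, ← Category.assoc s₂, e₂, Category.assoc, Category.assoc, Category.assoc,
        Category.assoc, ← hN2, ← Category.assoc t₁, ht, Category.assoc]
    have h2 : (((u₂ ≫ s₁) ≫ d) ≫ π) ≫ p = ((s₂ ≫ d) ≫ π) ≫ p := by
      have h3 : ∀ s : T₂ ⟶ D, ((s ≫ d) ≫ π) ≫ p = (s ≫ q) ≫ N ≫ fst _ _ := by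
        intro s
        rw [hN1, Category.assoc s d, ← hq]
        simp only [Category.assoc]
      rw [h3, h3, hx, e₂]
      simp only [Category.assoc]
      rw [← Category.assoc t₁, ht, Category.assoc]
    obtain ⟨v₁, hv₁⟩ := hu' T₂ (u₂ ≫ s₁)
    obtain ⟨v₂, hv₂⟩ := hu' T₂ s₂
    have h4 : ((u₂ ≫ s₁) ≫ d) ≫ π = (s₂ ≫ d) ≫ π := by
      refine sep T₂ _ _ h2 (v₂ * v₁⁻¹) fun l => ?_
      rw [← hM' T₂ s₂ l, ← hM' T₂ (u₂ ≫ s₁) l, h1, ← hv₁, ← hv₂, Units.val_mul]
      have h5 : ((v₁⁻¹ : (Γ(T₂.left, ⊤))ˣ) : Γ(T₂.left, ⊤)) * v₁ = 1 := Units.inv_mul v₁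
      calc ev (s₂ ≫ M) (co l) * (v₂ : Γ(T₂.left, ⊤)) = v₂ * 1 * ev (s₂ ≫ M) (co l) := by ring
        _ = _ := by rw [← h5]; ring
    have h5 : u₂ ≫ u₁ ≫ t₁ = u₂ ≫ u₁ ≫ t₂ := by
      rw [← hx, ← e₂, ← cancel_mono w, Category.assoc, hq, Category.assoc s₂, hq, ← Category.assoc, h4,
        Category.assoc]
    rw [cancel_epi, cancel_epi] at h5
    exact h5
  have hmono' : Mono N.left := Over.mono_left_of_mono N
  have h1 : N.left ≫ (fst X (A B I)).left = (w ≫ p).left := by rw [← Over.comp_left, hN1]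
  have : LocallyOfFiniteType (N.left ≫ (fst X (A B I)).left) := by rw [h1]; infer_instance
  have hft : LocallyOfFiniteType N.left := locallyOfFiniteType_of_comp N.left (fst X (A B I)).left
  have hqf : LocallyQuasiFinite N.left := LocallyQuasiFinite.of_injective N.left.injective
  have haff : IsAffineHom (fst X (A B I)).left := inferInstanceAs (IsAffineHom (pullback.fst X.hom (A B I).hom))
  have hXA : IsAffine (X ⊗ A B I).left := isAffine_of_isAffineHom (fst X (A B I)).left
  have hWc : CompactSpace W.left := by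
    have := q.left.surjective
    exact this.compactSpace q.left.continuous
  have hqc : QuasiCompact N.left := inferInstance
  have h2 : Mor2.IsQuasiAffine N.left := Desc.LqfQAff.isQuasiAffine_of_locallyQuasiFinite N.left
  have h3 : Mor2.IsQuasiAffine (fst X (A B I)).left := by
    have := Desc.LqfQAff.isQuasiAffine_of_openImmersion_affine (𝟙 _) (fst X (A B I)).left
    rwa [Category.id_comp] at this
  rw [← h1]
  exact S2338.result _ _ h2 h3

theorem quasiAffine [Surjective π.left] (p : P ⟶ X) [LocallyOfFiniteType p.left] [CompactSpace P'.left]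
    [IsAffine X.left] [Finite I]
    (lam : ∀ (T : Over B) (t t' : T ⟶ P'), t ≫ π = t' ≫ π → ∃ r : (Γ(T.left, ⊤))ˣ,
      ∀ i, ev t' (F i) = r * ev t (F i))
    (sep : ∀ (T : Over B) (t t' : T ⟶ P'), (t ≫ π) ≫ p = (t' ≫ π) ≫ p → ∀ r : (Γ(T.left, ⊤))ˣ,
      (∀ i, ev t' (F i) = r * ev t (F i)) → t ≫ π = t' ≫ π) (i : I) :
    Mor2.IsQuasiAffine (opnι P (im π (P'.left.basicOpen (F i))) ≫ p).left := by
  obtain ⟨q, hq⟩ := exists_sq lam i
  have hql := _root_.K408.TorsDesc.isPullback_left hq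
  have : Flat q.left := MorphismProperty.of_isPullback hql ‹_›
  have : Surjective q.left := MorphismProperty.of_isPullback hql ‹_›
  have : LocallyOfFinitePresentation q.left := MorphismProperty.of_isPullback hql ‹_›
  have : CompactSpace (opn P' (P'.left.basicOpen (F i))).left := by
    apply isCompact_iff_compactSpace.mp
    exact isCompact_basicOpen _ isCompact_univ (F i)
  have : LocallyOfFiniteType (opnι P (im π (P'.left.basicOpen (F i))) ≫ p).left := by
    rw [Over.comp_left]; infer_instance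
  exact quasiAffine_aux hq.w.symm p lam sep i ((isUnit_ev_iff _ _).mpr fun x => opnι_mem _ _ x)

/-- the image is stable -/
theorem stable {G : Over B} [GrpObj G] [Surjective π.left] (i : I) (c : AlgGrp.Action G P) (c' : AlgGrp.Action G P')
    (hπ : c'.act ≫ π = (G ◁ π) ≫ c.act)
    (inv : ev c'.act (F i) = ev (snd G P') (F i))
    (lam : ∀ (T : Over B) (t t' : T ⟶ P'), t ≫ π = t' ≫ π → ∃ r : (Γ(T.left, ⊤))ˣ,
      ∀ i, ev t' (F i) = r * ev t (F i)) (z : (G ⊗ P).left)
    (hz : (snd G P).left z ∈ im π (P'.left.basicOpen (F i))) : c.act.left z ∈ im π (P'.left.basicOpen (F i)) := by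
  have hsq := isPullback_whisker G π
  have : Surjective (G ◁ π).left := MorphismProperty.of_isPullback (_root_.K408.TorsDesc.isPullback_left hsq).flip ‹_›
  obtain ⟨z', rfl⟩ := (G ◁ π).left.surjective z
  rw [← comp_left_apply, whiskerLeft_snd, comp_left_apply] at hz
  obtain ⟨y₀, hy₀, hy⟩ := hz
  have h1 := mem_of_eq lam i hy.symm hy₀
  rw [mem_basicOpen_ev, ← inv, ← mem_basicOpen_ev] at h1
  rw [← comp_left_apply, ← hπ, comp_left_apply]
  exact ⟨_, h1, rfl⟩

end Groth.Agent.AlgGrp.K408.TorsQAff
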